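import Cfsg.Agent.H2.Sig6

/-! The solvable signalizer functor theorem. -/

set_option autoImplicit false
set_option linter.unusedSectionVars false
set_option linter.style.haveILetI false

namespace CfsgSig

open Subgroup CfsgL0 CfsgFT
open scoped commutatorElement

universe u

variable {G : Type*} [Group G]

/-- the largest `θ`-subgroup over `S` -/
structure IsM (p : ℕ) (A : Subgroup G) (θ : G → Subgroup G) (S M : Subgroup G) : Prop where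
  ts : TS p A θ M
  le : S ≤ M
  max : ∀ U, TS p A θ U → S ≤ U → U ≤ M

variable [Finite G] {p : ℕ} [hp : Fact p.Prime] {A : Subgroup G} {θ : G → Subgroup G}

theorem IsM.cj {S M : Subgroup G} (h : IsM p A θ S M) {g : G} (hg : g ∈ HH A θ) :
    IsM p A θ (cj g S) (cj g M) := ⟨h.ts.cj hg, cj_mono g h.le, fun U a b =>
  le_cj_iff_cj_inv_le.2 (h.max _ (a.cj (inv_mem hg)) (cj_le_iff_le_cj_inv.1 b))⟩

theorem prd_sup_of {K Z : Subgroup G} (h1 : ∀ z ∈ Z, ∀ k ∈ K, Prd K Z (z * k)) :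
    ∀ g ∈ K ⊔ Z, Prd K Z g := by
  let S : Subgroup G := mkSub {g | Prd K Z g} (prd_left _ (one_mem _)) (by
    rintro _ ⟨k, hk, z, hz, rfl⟩ _ ⟨k', hk', z', hz', rfl⟩
    have := ((h1 z hz k' hk').mul_left hk).mul_right hz'
    rwa [show k * (z * k') * z' = k * z * (k' * z') by group] at this)
  have : K ⊔ Z ≤ S := sup_le (fun k hk => prd_left _ hk) fun z hz => prd_right _ hz
  exact fun g hg => this hg

namespace LC

variable (h : LC p A θ)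
include h

theorem sylow_of_le {q : ℕ} [Fact q.Prime] {S U : Subgroup G} (hS : MaxQ p A θ q S)
    (hU : TS p A θ U) (hle : S ≤ U) : IsSylowOf q S U := by
  obtain ⟨P, h1, h2, h3⟩ := h.exists_sylow hU hS.pg hle hS.ts.inv
  rwa [hS.max P h2 h1.2.1 h3] at h1

variable (hπ : ∀ c ∈ A, c ≠ 1 → P23 (θ c))
include hπ

theorem p23' {U : Subgroup G} (hU : TS p A θ U) : P23 U := h.p23 hπ hU.inv hU.np hU.le

theorem exists_M {S : Subgroup G} (hS : MaxQ p A θ 2 S) : ∃ M, IsM p A θ S M := by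
  obtain ⟨R, hR, -⟩ := exists_maxQ (q := 3) h.ts_bot IsPGroup.of_bot
  have h1 : ∀ U, TS p A θ U → S ≤ U → ∀ g ∈ U, Prd S (R ⊓ U) g := fun U hU hle g hg => by
    obtain ⟨P, hP, tP⟩ := h.exists_sylow' 3 hU
    obtain ⟨x, hx, l⟩ := h.exists_cj_le hR tP hP.2.1
    obtain ⟨a, ha, a1⟩ := h.exists_ne
    obtain ⟨r, hr, s, hs, rfl⟩ := prd_symm (fun _ hg => (hπ a ha a1).prd
      (h.sylow_inf hS (h.ts ha a1) (HH_le ha a1)) (h.sylow_inf hR (h.ts ha a1) (HH_le ha a1)) hg)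
      x (HH_le ha a1 hx)
    rw [← cj_cj, cj_le_iff_le_cj_inv, cj_eq_of_mem (R.inv_mem hr.1)] at l
    have k := hP.cj_of_mem_normalizer (le_normalizer (hle hs.1))
    exact ((h.p23' hπ hU).prd (h.sylow_of_le hS hU hle) k hg).mono le_rfl (le_inf l k.1)
  set R0 := ⨆ U : {U // TS p A θ U ∧ S ≤ U}, R ⊓ U.1
  have tR : TS p A θ R0 := hR.ts.of_le (iSup_le fun _ => inf_le_left)
    (le_normalizer_iSup fun U => (hR.ts.inf U.2.1.inv).inv)
  have h2 : ∀ U, TS p A θ U → S ≤ U → R ⊓ U ≤ R0 := fun U a b => le_iSup_of_le ⟨U, a, b⟩ le_rfl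
  have hL := prd_sup_of (K := S) (Z := R0) (by
    let K : Subgroup G := mkSub {z | ∀ k ∈ S, Prd S R0 (z * k)}
      (fun k hk => prd_left _ (by rwa [one_mul])) fun a ha b hb k hk => by
        obtain ⟨k', hk', z', hz', e⟩ := hb k hk
        rw [mul_assoc, e, ← mul_assoc]
        exact (ha k' hk').mul_right hz'
    have : R0 ≤ K := iSup_le fun U r hr s hs => (h1 U U.2.1 U.2.2 _
      (U.1.mul_mem hr.2 (U.2.2 hs))).mono le_rfl (h2 U U.2.1 U.2.2)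
    exact fun z hz => this hz)
  obtain ⟨l1, l2, l3⟩ := h.ts_prd hS.ts tR le_sup_left le_sup_right hL
  exact ⟨S ⊔ R0, ⟨l1, l2, CfsgH1.isSolvable_of_two_primes Nat.prime_two Nat.prime_three _ _ rfl
    (h.p23 hπ l1 l2 l3), l3⟩, le_sup_left, fun U a b g hg =>
      (h1 U a b g hg).mem le_sup_left ((h2 U a b).trans le_sup_right)⟩

theorem ind (p3 : 3 < p) {c : G} (hc : c ∈ A) (c1 : c ≠ 1) (T : Subgroup G) :
    TS p A θ T → IsPGroup 2 T → T ≠ ⊥ → IsSylowOf 2 (T ⊓ 𝒞₁ c) (θ c) →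
    ∀ S M, MaxQ p A θ 2 S → IsM p A θ S M → T ≤ S → ∀ U, TS p A θ U → T ≤ U →
      U ⊓ 𝒞₁ c ≤ pPrimeCoreOf 2 (θ c) ⊔ M ⊓ 𝒞₁ c := by
  induction T using WellFoundedGT.induction with
  | _ T ih =>
  intro tT T2 T0 sT S M hS hM hTS U tU hTU
  have ih' : ∀ T', T < T' → TS p A θ T' → ∀ S M, MaxQ p A θ 2 S → IsM p A θ S M → T' ≤ S →
      ∀ U, TS p A θ U → T' ≤ U → U ⊓ 𝒞₁ c ≤ pPrimeCoreOf 2 (θ c) ⊔ M ⊓ 𝒞₁ c :=
    fun T' l t S M hS => fun hM hle => ih T' l t (hS.pg.to_le hle) (ne_bot_of_gt l) (by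
      rwa [sT.eq_of_le ((hS.pg.to_le hle).to_le inf_le_left) (inf_le_inf_right _ l.le)
        (t.le c hc c1)]) S M hS hM hle
  rcases hTS.eq_or_lt with e | l
  · exact (inf_le_inf_right _ (hM.max U tU (e ▸ hTU))).trans le_sup_right
  have hAN := CfsgH2.le_normalizer_normalizer tT.inv
  have l1 := CfsgH1.lt_inf_normalizer hS.pg l
  have big : ∀ W, TS p A θ W → T ≤ W → ∀ g ∈ S ⊓ 𝒩 T, g ∉ T → g ∈ W →
      W ⊓ 𝒞₁ c ≤ pPrimeCoreOf 2 (θ c) ⊔ M ⊓ 𝒞₁ c := fun W tW hW g hg gT gW =>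
    ih' (S ⊓ W) (lt_of_le_not_ge (le_inf hTS hW) fun e => gT (e ⟨hg.1, gW⟩)) (hS.ts.inf tW.inv)
      S M hS hM inf_le_left W tW inf_le_right
  obtain ⟨T', sT', tT', l'⟩ := h.exists_sylow tU T2 hTU tT.inv
  rcases l'.eq_or_lt with e | l2
  · subst e
    clear hTU
    induction U using WellFoundedLT.induction with
    | _ U ihU =>
    by_contra hb
    exact Bad.false ⟨h, p3, h.p23' hπ tU, hc, c1, tT, T0, sT, hS.ts.inf hAN, l1, inf_le_right,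
      le_sup_left, big, tU, sT', hb, fun Y a1 a2 a3 => ihU Y a1 (tU.of_le a1.le a3)
        (sT'.mono a2 a1.le)⟩
  obtain ⟨S', hS', l3⟩ := exists_maxQ tT' sT'.2.1
  obtain ⟨M', hM'⟩ := h.exists_M hπ hS'
  refine (ih' T' l2 tT' S' M' hS' hM' l3 U tU sT'.1).trans (sup_le le_sup_left ?_)
  have l4 := CfsgH1.lt_inf_normalizer hS'.pg (l2.trans_le l3)
  obtain ⟨W, hW⟩ := h.exists_N tT T0
  have w1 := hW.max _ (hS.ts.inf hAN) inf_le_right
  obtain ⟨T1, s1, t1, m1⟩ := h.exists_sylow hW.ts hS.pg.to_inf_left w1 (hS.ts.inf hAN).inv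
  obtain ⟨T2, s2, t2, m2⟩ := h.exists_sylow hW.ts hS'.pg.to_inf_left
    (hW.max _ (hS'.ts.inf hAN) inf_le_right) (hS'.ts.inf hAN).inv
  obtain ⟨g, hg, gW, rfl⟩ := h.sylow_conj hW.ts s1 s2 t1.inv t2.inv
  obtain ⟨S1, hS1, l5⟩ := exists_maxQ t1 s1.2.1
  obtain ⟨M1, hM1⟩ := h.exists_M hπ hS1
  obtain ⟨x, hx, xT⟩ := SetLike.exists_of_lt l1
  have gc : g ∈ 𝒞₁ c := centralizer_le_centralizer_singleton hc (HH_le_cent hg)
  refine (ih' _ l4 (hS'.ts.inf hAN) _ _ (hS1.cj hg) (hM1.cj hg) (m2.trans (cj_mono g l5)) M' hM'.ts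
    (inf_le_left.trans hM'.le)).trans (sup_le le_sup_left ?_)
  rw [← cj_eq_of_mem gc, ← cj_inf, cj_eq_of_mem gc]
  exact cj_le_of_mem (big W hW.ts (l1.le.trans w1) x hx xT (w1 hx) ⟨gW, gc⟩)
    (ih' _ l1 (hS.ts.inf hAN) S M hS hM inf_le_left M1 hM1.ts ((m1.trans l5).trans hM1.le))

theorem w1 (p3 : 3 < p) : Compl p A θ := by
  obtain ⟨S, hS, -⟩ := exists_maxQ (q := 2) h.ts_bot IsPGroup.of_bot
  have sy := fun c hc c1 => h.sylow_inf hS (h.ts (a := c) hc c1) (HH_le hc c1)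
  by_cases S0 : S = ⊥
  · exact h.compl_of_one (q := 3) fun c hc c1 => (hπ c hc c1).pg3 fun hd =>
      (sylow_ne_bot_iff (sy c hc c1)).2 hd (by simp [S0])
  obtain ⟨M, hM⟩ := h.exists_M hπ hS
  have h1 := (h.sylow_of_le hS hM.ts hM.le).inf_of_normal (ppCoreOf_le 2 M)
    (le_normalizer_ppCoreOf 2 M)
  have t1 := hS.ts.inf (hM.ts.inv.trans (normalizer_le_normalizer_ppCoreOf 2 M))
  have tO := hM.ts.char (pPrimeCoreOf_le (p := 2)) normalizer_le_normalizer_pPrimeCoreOf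
  have e := sup_inf_normalizer_eq pPrimeCoreOf_le le_normalizer_pPrimeCoreOf
    (not_dvd_card_pPrimeCoreOf 2 M) (inf_le_left.trans hM.le) h1.2.1 (by
      rw [sup_eq_ppCoreOf h1]; exact le_normalizer_ppCoreOf 2 M)
  refine h.tame (q := 2) (t1.char inf_le_left (normalizer_le_normalizer_ctr _))
    h1.2.1.to_inf_left (ctr_ne_bot h1.2.1.isNilpotent fun e0 => S0 ?_) (isMulCommutative_ctr _)
    (fun c hc c1 g hg => ?_) (Or.inr ⟨3, Nat.prime_three, hπ⟩)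
  · have := bg1_15a hM.ts.solv h1
    rw [e0] at this
    rwa [inf_eq_left.2 ((le_inf hM.le (le_centralizer_iff.1 bot_le)).trans this)] at e0
  by_cases T0 : S ⊓ θ c = ⊥
  · exact prd_left _ (le_pPrimeCoreOf' le_rfl le_normalizer
      (fun hd => (sylow_ne_bot_iff (sy c hc c1)).2 hd T0) hg)
  have t := h.ts hc c1
  have k := h.ind hπ p3 hc c1 _ (hS.ts.inf t.inv) hS.pg.to_inf_left T0 (by
    rw [inf_eq_left.2 (inf_le_right.trans (h.cent c hc c1))]; exact sy c hc c1) S M hS hM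
    inf_le_left _ t inf_le_right ⟨hg, h.cent c hc c1 hg⟩
  obtain ⟨o, ho, m, hm, rfl⟩ := prd_of_sup ((hM.ts.le c hc c1).trans le_normalizer_pPrimeCoreOf) k
  have := h.fix hc tO.inv (hM.ts.inf (CfsgH2.le_normalizer_normalizer t1.inv)).inv tO.np
    (prd_of_sup (inf_le_left.trans le_normalizer_pPrimeCoreOf) (e.ge hm.1)) hm.2
  refine (this.mono ?_ (inf_le_left.trans (inf_le_right.trans
    (normalizer_le_normalizer_ctr _)))).mul_left ho
  exact le_core_of_sylow t.solv (sy c hc c1) (tO.le c hc c1)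
    (not_dvd_card_of_le (not_dvd_card_pPrimeCoreOf 2 M) inf_le_left)
    (CfsgH2.le_normalizer_inf ((inf_le_left.trans hM.le).trans le_normalizer_pPrimeCoreOf)
      ((inf_le_right.trans (h.cent c hc c1)).trans le_normalizer))

omit hπ in
theorem compl : Compl p A θ := by
  by_cases hb : ∃ q : ℕ, q.Prime ∧ 3 < q ∧ ∃ c ∈ A, c ≠ 1 ∧ q ∣ #(θ c)
  · obtain ⟨q, hq, h3, hd⟩ := hb
    haveI : Fact q.Prime := ⟨hq⟩
    exact h.compl_of_big h3 hd
  have hπ : ∀ c ∈ A, c ≠ 1 → P23 (θ c) := fun c hc c1 s hs hd => by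
    have : ¬ 3 < s := fun e => hb ⟨s, hs, e, c, hc, c1, hd⟩
    have := hs.two_le
    omega
  by_cases p2 : p = 2
  · exact h.compl_of_one (q := 3) fun c hc c1 => (hπ c hc c1).pg3 (p2 ▸ h.np c hc c1)
  by_cases p3 : p = 3
  · exact h.compl_of_one (q := 2) fun c hc c1 => (hπ c hc c1).pg2 (p3 ▸ h.np c hc c1)
  have := hp.out.two_le
  exact h.w1 hπ (by omega)

end LC

theorem SF.compl (h : SF p A θ) : Compl p A θ :=
  compl_of_lc p (fun _ _ _ _ _ h => h.compl) _ G A θ h rfl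

/-- The solvable signalizer functor theorem. -/
theorem solv_sft (hA : IsMulCommutative A) {B : Subgroup G} (hBA : B ≤ A) (hB : EA p 3 B)
    (hC : ∀ a ∈ A, a ≠ 1 → θ a ≤ 𝒞₁ a) (hp : ∀ a ∈ A, a ≠ 1 → ¬ p ∣ #(θ a))
    (hinv : ∀ a ∈ A, a ≠ 1 → A ≤ 𝒩 (θ a)) (hs : ∀ a ∈ A, a ≠ 1 → Group.IsSolvable (θ a))
    (hbal : ∀ a ∈ A, a ≠ 1 → ∀ b ∈ A, b ≠ 1 → θ a ⊓ 𝒞₁ b ≤ θ b) :
    ∃ W, A ≤ 𝒩 W ∧ ¬ p ∣ #W ∧ Group.IsSolvable W ∧ (⨆ a : {a : G // a ∈ A ∧ a ≠ 1}, θ a) = W ∧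
      ∀ a ∈ A, a ≠ 1 → W ⊓ 𝒞₁ a = θ a := by
  have h : SF p B θ := ⟨hB, fun a ha => hC a (hBA ha), fun a ha => hp a (hBA ha),
    fun a ha a1 => hBA.trans (hinv a (hBA ha) a1), fun a ha => hs a (hBA ha),
    fun a ha a1 b hb => hbal a (hBA ha) a1 b (hBA hb)⟩
  obtain ⟨W, hW, hle⟩ := h.compl
  have h1 : ∀ a ∈ A, a ≠ 1 → θ a ≤ W := fun a ha a1 => h.gen (hBA.trans (hinv a ha a1))
    (hp a ha a1) fun b hb b1 => (hbal a ha a1 b (hBA hb) b1).trans (hle b hb b1)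
  have e : (⨆ a : {a : G // a ∈ A ∧ a ≠ 1}, θ a) = W := le_antisymm
    (iSup_le fun a => h1 a a.2.1 a.2.2) (h.le_of_compl hW fun b hb b1 =>
      le_iSup_of_le (f := fun a : {a : G // a ∈ A ∧ a ≠ 1} => θ a) ⟨b, hBA hb, b1⟩ le_rfl)
  refine ⟨W, e ▸ le_normalizer_iSup fun a => hinv a a.2.1 a.2.2, hW.np, hW.solv, e,
    fun a ha a1 => le_antisymm ?_ (le_inf (h1 a ha a1) (hC a ha a1))⟩
  exact h.gen (CfsgH2.le_normalizer_inf hW.inv (hBA.trans (le_normalizer_cent_one hA ha)))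
    (not_dvd_card_of_le hW.np inf_le_left) fun b hb b1 => (le_inf ((inf_le_inf_right _
      inf_le_left).trans (hW.le b hb b1)) (inf_le_left.trans inf_le_right)).trans
      (hbal b (hBA hb) b1 a ha a1)

end CfsgSig
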