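import Mathlib
import Cfsg.Agent.H2.Special
import Cfsg.Agent.H2.MaxClass
import Cfsg.Agent.H2.Extraspecial

/-! Norms for Frobenius groups acting on abelian groups, and an application to `p`-groups. -/

namespace CfsgH2
open Subgroup Cfsg
open scoped commutatorElement

/-- A `p`-automorphism of a nontrivial `p`-group fixes an element of order `p`. -/
theorem exists_fixed_order_p {p : ℕ} [hp : Fact p.Prime] {X A : Type*} [Group X] [Finite X]
    [Nontrivial X] [Group A] (hX : IsPGroup p X) (hA : IsPGroup p A) (φ : A →* MulAut X) :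
    ∃ x : X, x ≠ 1 ∧ x ^ p = 1 ∧ ∀ a, φ a x = x := by
  letI : MulAction A X := MulAction.compHom X φ
  obtain ⟨k, hk, hc⟩ := hX.nontrivial_iff_card.mp inferInstance
  obtain ⟨y, hy, hy1⟩ := hA.exists_fixed_point_of_prime_dvd_card_of_fixed_point X
    (hc ▸ dvd_pow_self p hk.ne') (a := 1) (fun a => map_one (φ a))
  obtain ⟨m, hm⟩ := hX y
  obtain ⟨j, h1, h2⟩ := exists_pow_not_mem (K := ⊥) hm (by simpa using hy1.symm)
  exact ⟨y ^ p ^ j, by simpa using h1, by simpa using h2, fun a => by
    rw [map_pow]; exact congrArg (· ^ p ^ j) (hy a)⟩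

theorem commAut_invariant_of_normal {A X : Type*} [Group A] [Group X] (φ : A →* MulAut X)
    (Q : Subgroup A) [hQ : Q.Normal] {K : Subgroup X} (hK : ∀ a, ∀ x ∈ K, φ a x ∈ K) :
    ∀ a, ∀ x ∈ commAut (φ.comp Q.subtype) K, φ a x ∈ commAut (φ.comp Q.subtype) K := by
  intro a x hx
  have : commAut (φ.comp Q.subtype) K ≤ (commAut (φ.comp Q.subtype) K).comap (φ a).toMonoidHom := by
    rw [commAut_le]
    intro y hy q
    have := mem_commAut (φ.comp Q.subtype) (hK a y hy) ⟨_, hQ.conj_mem q q.2 a⟩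
    simpa using this
  exact this hx

/-- The norm of a Frobenius complement on a module without fixed points of the kernel. -/
theorem pow_card_eq_prod_norm {A V : Type*} [Group A] [CommGroup V] (ψ : A →* MulAut V)
    (Q H : Subgroup A) [hQ : Q.Normal] [Fintype Q] [Fintype H]
    (hfpf : ∀ h ∈ H, h ≠ 1 → ∀ q ∈ Q, Commute h q → q = 1)
    (hfix : ∀ v, (∀ q ∈ Q, ψ q v = v) → v = 1) (v : V) :
    v ^ Fintype.card Q = ∏ q : Q, ψ (q : A)⁻¹ (∏ h : H, ψ h (ψ q v)) := by
  classical
  have hN : ∀ w, ∏ q : Q, ψ q w = 1 := fun w => hfix _ fun r hr => by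
    rw [map_prod]
    exact Fintype.prod_equiv (Equiv.mulLeft (⟨r, hr⟩ : Q)) _ _ fun q => by simp
  simp only [map_prod]
  rw [Finset.prod_comm, ← Finset.mul_prod_erase _ _ (Finset.mem_univ (1 : H)),
    Finset.prod_eq_one (s := Finset.univ.erase (1 : H)), mul_one]
  · simp
  intro h hh
  have h1 : (h : A) ≠ 1 := fun e => (Finset.mem_erase.mp hh).1 (Subtype.ext e)
  let f : Q → Q := fun q => ⟨(q : A)⁻¹ * (h * q * (h : A)⁻¹),
    mul_mem (inv_mem q.2) (hQ.conj_mem q q.2 h)⟩
  have hf : Function.Injective f := fun q r e => by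
    have e' : (q : A)⁻¹ * (h * q * (h : A)⁻¹) = (r : A)⁻¹ * (h * r * (h : A)⁻¹) :=
      congrArg Subtype.val e
    have := hfpf h h.2 h1 (r * (q : A)⁻¹) (mul_mem r.2 (inv_mem q.2)) (by
      calc (h : A) * (r * (q : A)⁻¹) = r * ((r : A)⁻¹ * (h * r * (h : A)⁻¹)) * h * (q : A)⁻¹ := by
            group
        _ = _ := by rw [← e']; group)
    exact Subtype.ext (mul_inv_eq_one.mp this).symm
  rw [← hN (ψ h v)]
  refine Fintype.prod_bijective f (Finite.injective_iff_bijective.mp hf) _ _ fun q => ?_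
  simp [f]

/-- A group is not the union of two proper subgroups. -/
theorem eq_top_or_eq_top {X : Type*} [Group X] {K L : Subgroup X} (h : ∀ x, x ∈ K ∨ x ∈ L) :
    K = ⊤ ∨ L = ⊤ := by
  by_contra hne
  push Not at hne
  obtain ⟨x, -, hx⟩ := SetLike.exists_of_lt (lt_top_iff_ne_top.mpr hne.1)
  obtain ⟨y, -, hy⟩ := SetLike.exists_of_lt (lt_top_iff_ne_top.mpr hne.2)
  rcases h (x * y) with h1 | h1
  · exact hx ((mul_mem_cancel_right ((h y).resolve_right hy)).mp h1)
  · exact hy ((mul_mem_cancel_left ((h x).resolve_left hx)).mp h1)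

theorem card_fix_quot_center_le {X : Type*} [Group X] [Finite X] (α : MulAut X)
    (F : Subgroup (X ⧸ center X)) (hF : ∀ x : X, (x : X ⧸ center X) ∈ F → x⁻¹ * α x ∈ center X) :
    Nat.card F ≤ Nat.card {x // α x = x} := by
  let D := F.comap (QuotientGroup.mk' (center X))
  let τ : D →* center X := MonoidHom.mk' (fun x => ⟨(x : X)⁻¹ * α x, hF x x.2⟩) fun x y =>
    Subtype.ext (by
      have := mem_center_iff.mp (hF x x.2) (y : X)⁻¹
      simp only [coe_mul, map_mul, mul_inv_rev]
      rw [← mul_assoc _ (y : X)⁻¹, ← this]; group)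
  have h1 := card_comap_mk (center X) F
  have h2 := τ.ker.card_mul_index
  rw [index_ker] at h2
  have h3 : Nat.card τ.range ≤ Nat.card (center X) := card_le_card_group _
  have h4 : Nat.card τ.ker ≤ Nat.card {x // α x = x} := Nat.card_le_card_of_injective
    (fun x => ⟨x.1, (inv_mul_eq_one.mp (congrArg Subtype.val x.2)).symm⟩)
    fun x y e => Subtype.ext (Subtype.ext (Subtype.mk.inj e))
  refine Nat.le_of_mul_le_mul_right ?_ (Nat.card_pos (α := center X))
  rw [← h1, ← h2]
  exact Nat.mul_le_mul h4 h3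

universe u in
theorem frob_trivial_of_fix {p : ℕ} [hp : Fact p.Prime] (hp2 : p ≠ 2) {A : Type*} [Group A]
    [Finite A] (Q : Subgroup A) [hQn : Q.Normal] (hQ : Nat.Coprime (Nat.card Q) p) (b : A)
    (hb : b ^ p = 1) (hfpf : ∀ q ∈ Q, Commute b q → q = 1) (hgen : Q ⊔ zpowers b = ⊤) (n : ℕ) :
    ∀ (X : Type u) [Group X] [Finite X], Nat.card X = n → IsPGroup p X → ∀ φ : A →* MulAut X,
      (∀ x, x ^ p = 1 → φ b x = x → ∀ q ∈ Q, φ q x = x) →
      Nat.card {x // x ^ p = 1 ∧ φ b x = x} ≤ p → fixAut (φ.comp Q.subtype) = ⊤ := by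
  induction n using Nat.strong_induction_on with
  | _ n ih =>
  intro X _ _ hn hX φ h1 h2
  classical
  by_contra hne
  set φQ := φ.comp Q.subtype with hφQ
  have hpb : IsPGroup p (zpowers b) := fun x => ⟨1, Subtype.ext (by
    simpa using pow_eq_one_of_mem_zpowers hb x x.2)⟩
  have IH : ∀ K : Subgroup X, (∀ a, ∀ x ∈ K, φ a x ∈ K) → K ≠ ⊤ → K ≤ fixAut φQ := by
    intro K hK hKt x hx q
    have := ih _ (hn ▸ card_lt_of_ne_top hKt) K rfl (hX.to_subgroup K) (restrAut φ K hK)
      (fun y hy hy' q hq => Subtype.ext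
        (h1 y (congrArg Subtype.val hy) (congrArg Subtype.val hy') q hq))
      (le_trans (Nat.card_le_card_of_injective
        (fun y => (⟨y.1, congrArg Subtype.val y.2.1, congrArg Subtype.val y.2.2⟩ :
          {x // x ^ p = 1 ∧ φ b x = x}))
        fun y z e => Subtype.ext (Subtype.ext (Subtype.mk.inj e))) h2)
    exact congrArg Subtype.val ((this ▸ mem_top (⟨x, hx⟩ : K) :
      (⟨x, hx⟩ : K) ∈ fixAut ((restrAut φ K hK).comp Q.subtype)) q)
  have hc : ∀ K : Subgroup X, Nat.Coprime (Nat.card Q) (Nat.card K) := fun K =>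
    coprime_card_of_coprime_p (hX.to_subgroup K) hQ
  have hs : ∀ K : Subgroup X, Group.IsSolvable Q ∨ Group.IsSolvable K := fun K =>
    Or.inr (isSolvable_of_isPGroup (hX.to_subgroup K))
  have hcomm : commAut φQ ⊤ = ⊤ := by
    by_contra h
    exact hne (eq_top_iff.mpr (le_fixAut_of_commAut_le φQ (hc _) (hs _)
      (IH _ (commAut_invariant_of_normal φ Q fun _ _ _ => mem_top _) h) le_rfl))
  have hnt : Nontrivial X := by
    by_contra h
    rw [not_nontrivial_iff_subsingleton] at h
    exact hne (Subsingleton.elim _ _)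
  have hna : ¬ IsMulCommutative (⊤ : Subgroup X) := by
    intro h
    have := commAut_inf_fixAut φQ h (fun _ _ _ => mem_top _) (hc _)
    rw [hcomm, top_inf_eq] at this
    obtain ⟨x, hx1, hx2, hx3⟩ := exists_fixed_order_p hX hpb (φ.comp (zpowers b).subtype)
    exact hx1 (mem_bot.mp (this ▸ fun q => h1 x hx2 (hx3 ⟨b, mem_zpowers b⟩) q q.2))
  obtain ⟨⟨-, hΦ, hD⟩, hZ⟩ := special_of_trivial_on_char_abelian hX φQ hQ hcomm fun H hH hHc =>
    IH H (fun a x hx => Characteristic.apply_mem hH _ hx) fun e => hna (e ▸ hHc)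
  have hexp : ∀ x : X, x ^ p = 1 := by
    have hch : (closure {x : X | x ^ p = 1}).Characteristic := characteristic_closure
      fun α x hx => by rw [Set.mem_ofPred_eq, ← map_pow, hx, map_one]
    have : closure {x : X | x ^ p = 1} = ⊤ := by
      by_contra h
      refine hne (eq_top_iff.mpr fun x _ q => ?_)
      rw [aut_eq_one_of_fix_order_p hp2 hX (a := φQ q)
        (hQ.coprime_dvd_left ((orderOf_map_dvd _ q).trans (orderOf_dvd_natCard q)))
        fun y hy => IH _ (fun a x hx => Characteristic.apply_mem hch _ hx) h (subset_closure hy) q]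
      rfl
    exact fun x => omega_exp_class_two hp2
      (commutator_top_right_eq_bot_iff_le_center.mpr hD.le) x (this ▸ mem_top x)
  have hcz : ∀ x y : X, ⁅x, y⁆ ∈ center X := fun x y => hD ▸ comm_mem_commutator x y
  have hZi : ∀ a, ∀ x ∈ center X, φ a x ∈ center X :=
    fun a x hx => Characteristic.apply_mem inferInstance _ hx
  let V := X ⧸ center X
  let : CommGroup V := { (inferInstance : Group V) with
    mul_comm := (Normal.quotient_commutative_iff_commutator_le.mpr hD.le).is_comm.comm }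
  let ψ : A →* MulAut V := quotAut φ (center X) hZi
  have hfix : ∀ v : V, (∀ q ∈ Q, ψ q v = v) → v = 1 := by
    intro v hv
    obtain ⟨x, rfl⟩ := QuotientGroup.mk_surjective v
    obtain ⟨c, hc', m, hm, rfl⟩ := exists_fix_mul φQ (fun a => hZi a) (hc _) (hs _)
      (x := x) fun q => QuotientGroup.eq.mp (hv q q.2).symm
    exact (QuotientGroup.eq_one_iff _).mpr (mul_mem (hZ ▸ hc') hm)
  let := Fintype.ofFinite Q
  let := Fintype.ofFinite (zpowers b)
  let N : V →* V := ∏ h : zpowers b, (ψ h).toMonoidHom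
  have hN : ∀ v, N v = ∏ h : zpowers b, ψ h v := fun v => by simp [N]
  have hNk : N.ker ≠ ⊤ := by
    intro h
    refine hna (isMulCommutative_of_le (fun x _ => ?_) (inferInstance : IsMulCommutative (center X)))
    have := pow_card_eq_prod_norm ψ Q (zpowers b) (fun h hh h1 q hq hc => hfpf q hq ?_) hfix (x : V)
    · rw [Finset.prod_eq_one fun q _ => by
        rw [← hN, show N (ψ q x) = 1 from (h ▸ mem_top _ : _ ∈ N.ker), map_one],
        ← Nat.card_eq_fintype_card] at this
      exact (QuotientGroup.eq_one_iff x).mp (eq_one_of_pow_coprime this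
        (by rw [← QuotientGroup.mk_pow, hexp, QuotientGroup.mk_one]) hQ)
    · obtain ⟨k, hk⟩ := mem_zpowers_of_mem_zpowers_prime (fun e => h1 (by simpa [e] using hh))
        hb hh h1
      rw [← hk]
      exact hc.zpow_left k
  let F : Subgroup V := (ψ b).toMonoidHom.eqLocus (MonoidHom.id V)
  have hF : Nat.card F ≤ p := (card_fix_quot_center_le (φ b) F
    fun x hx => QuotientGroup.eq.mp (Eq.symm hx)).trans (le_trans (Nat.card_le_card_of_injective
      (fun x => (⟨x.1, hexp _, x.2⟩ : {x // x ^ p = 1 ∧ φ b x = x}))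
      fun x y e => Subtype.ext (Subtype.mk.inj e)) h2)
  have hNF : ∀ v, N v ∈ F := fun v => by
    change ψ b (N v) = N v
    rw [hN, map_prod]
    exact Fintype.prod_equiv (Equiv.mulLeft (⟨b, mem_zpowers b⟩ : zpowers b)) _ _ fun q => by simp
  obtain ⟨v₀, -, hv₀⟩ := SetLike.exists_of_lt (lt_top_iff_ne_top.mpr hNk)
  obtain ⟨w, hw⟩ := QuotientGroup.mk_surjective (N v₀)
  have hVp : ∀ v : V, v ^ p = 1 := fun v => by
    obtain ⟨x, rfl⟩ := QuotientGroup.mk_surjective v
    rw [← QuotientGroup.mk_pow, hexp, QuotientGroup.mk_one]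
  have hFw : zpowers (N v₀) = F := eq_of_le_of_card_ge (zpowers_le.mpr (hNF _))
    (by rwa [card_zpowers_of_pow_eq_one hv₀ (hVp _)])
  -- the invariant form
  let : CommGroup (center X) := { (inferInstance : Group (center X)) with
    mul_comm := (inferInstance : IsMulCommutative (center X)).is_comm.comm }
  let φZ := restrAut φ (center X) hZi
  let τ : center X →* center X := (MonoidHom.id _)⁻¹ * (φZ b).toMonoidHom
  have hτ : τ.range ≠ ⊤ := by
    have : Nontrivial (center X) := hX.center_nontrivial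
    obtain ⟨x, hx1, -, hx3⟩ := exists_fixed_order_p (hX.to_subgroup _) hpb
      (φZ.comp (zpowers b).subtype)
    intro h
    refine hx1 ((injective_iff_map_eq_one _).mp (Finite.injective_iff_surjective.mpr
      (MonoidHom.range_eq_top.mp h)) x ?_)
    exact inv_mul_eq_one.mpr (hx3 ⟨b, mem_zpowers b⟩).symm
  let π := QuotientGroup.mk' τ.range
  have hπ : ∀ a z, π (φZ a z) = π z := by
    intro a
    let S : Subgroup A :=
      { carrier := {a | ∀ z, π (φZ a z) = π z}
        mul_mem' := fun {a c} ha hc z => by rw [map_mul, MulAut.mul_apply, ha, hc]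
        one_mem' := fun z => by rw [map_one, MulAut.one_apply]
        inv_mem' := fun {a} ha z => by rw [← ha, ← MulAut.mul_apply, ← map_mul]; simp }
    have : ⊤ ≤ S := hgen ▸ sup_le (fun q hq z => congrArg π (Subtype.ext (hZ.le z.2 ⟨q, hq⟩)))
      (zpowers_le.mpr fun z => (QuotientGroup.eq.mpr (MonoidHom.mem_range.mpr ⟨z, rfl⟩)).symm)
    exact this (mem_top a)
  let β : X → X →* center X ⧸ τ.range := fun y => MonoidHom.mk' (fun x => π ⟨⁅x, y⁆, hcz x y⟩)
    fun x x' => by
      rw [← map_mul, mul_comm]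
      exact congrArg π (Subtype.ext (comm_mul_left_of_commute (mem_center_iff.mp (hcz _ _) _)))
  have hβ : ∀ y x, β y x = π ⟨⁅x, y⁆, hcz x y⟩ := fun _ _ => rfl
  have hβa : ∀ x y, β x y = (β y x)⁻¹ := fun x y => by
    rw [hβ, hβ, ← map_inv]
    exact congrArg π (Subtype.ext (commutatorElement_inv x y).symm)
  have hβi : ∀ a x y, β (φ a x) (φ a y) = β x y := fun a x y => by
    rw [hβ, hβ, ← hπ a ⟨⁅y, x⁆, _⟩]
    exact congrArg π (Subtype.ext (map_commutatorElement (φ a) y x).symm)
  have hβz : ∀ y, center X ≤ (β y).ker := fun y x hx => by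
    rw [MonoidHom.mem_ker, hβ, ← map_one π]
    exact congrArg π (Subtype.ext (comm_eq_one_iff.mpr (mem_center_iff.mp hx y).symm))
  have hWp : ∀ u : center X ⧸ τ.range, u ^ p = 1 := fun u => by
    obtain ⟨z, rfl⟩ := QuotientGroup.mk_surjective u
    rw [← QuotientGroup.mk_pow, show z ^ p = 1 from Subtype.ext (hexp _), QuotientGroup.mk_one]
  have hβN : ∀ x : X, QuotientGroup.lift _ (β x) (hβz x) (N x) = 1 := by
    intro x
    rw [hN, map_prod]
    have e : ∏ h : zpowers b, β x (φ h x) = (∏ h : zpowers b, β x (φ h x))⁻¹ := by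
      rw [← Finset.prod_inv_distrib]
      refine Fintype.prod_equiv (Equiv.inv _) _ _ fun h => ?_
      rw [hβa, ← hβi (h : A)⁻¹]
      simp
    exact eq_one_of_pow_coprime (by rw [sq]; exact mul_eq_one_iff_eq_inv.mpr e) (hWp _)
      ((Nat.coprime_primes Nat.prime_two hp.out).mpr hp2.symm)
  have hw' : (β w).ker ≠ ⊤ := by
    intro h
    let R : Subgroup X := ⨅ y, (β y).ker
    have hR : R ≠ ⊤ := fun e => hτ (eq_top_iff.mpr fun z _ => by
      have : commutator X ≤ τ.range.map (center X).subtype := by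
        rw [_root_.commutator_def, commutator_le]
        exact fun x _ y _ => ⟨_, (QuotientGroup.eq_one_iff _).mp
          (mem_iInf.mp (e ▸ mem_top x : x ∈ R) y), rfl⟩
      exact (mem_map_iff_mem (center X).subtype_injective).mp (this (hD.ge z.2)))
    have := IH R (fun a x hx => mem_iInf.mpr fun y => by
      obtain ⟨y, rfl⟩ := (φ a).surjective y
      rw [MonoidHom.mem_ker, hβi]
      exact mem_iInf.mp hx y) hR (x := w) (mem_iInf.mpr fun y => by
        rw [MonoidHom.mem_ker, hβa, inv_eq_one]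
        exact (h ▸ mem_top y : y ∈ (β w).ker))
    exact hv₀ (hw.symm.trans ((QuotientGroup.eq_one_iff w).mpr (hZ ▸ this)))
  refine (eq_top_or_eq_top (K := N.ker.comap (QuotientGroup.mk' _)) (L := (β w).ker)
    fun x => ?_).elim (fun h => hNk ?_) hw'
  · refine or_iff_not_imp_left.mpr fun hx => ?_
    obtain ⟨k, hk⟩ := mem_zpowers_of_mem_zpowers_prime hv₀ (hVp _) (hFw ▸ hNF x) hx
    rw [MonoidHom.mem_ker, hβa, inv_eq_one]
    have := congrArg (QuotientGroup.lift _ (β x) (hβz x)) (hk.trans hw.symm)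
    rw [map_zpow, QuotientGroup.mk'_apply, hβN, one_zpow] at this
    exact this.symm
  · rw [eq_top_iff]
    intro v _
    obtain ⟨x, rfl⟩ := QuotientGroup.mk_surjective v
    exact (h ▸ mem_top x : x ∈ N.ker.comap (QuotientGroup.mk' _))

end CfsgH2
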