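import Mathlib
import Cfsg.Agent.H2.Extra2
import Cfsg.Agent.H2.Sect

/-! The extraspecial group `Q₈ ∘ D₈` of order 32 and its automorphism group. -/

namespace CfsgH2
open Subgroup Cfsg
open scoped commutatorElement

/-- A model of the extraspecial group of order 32 of minus type. -/
def M32 : Type := Fin 32

namespace M32

instance instDecEqM32 : DecidableEq M32 := inferInstanceAs (DecidableEq (Fin 32))
instance instFintypeM32 : Fintype M32 := inferInstanceAs (Fintype (Fin 32))
instance instDecForallM32 (P : M32 → Prop) [h : DecidablePred P] : Decidable (∀ x, P x) :=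
  @Nat.decidableForallFin 32 P h
instance instDecExistsM32 (P : M32 → Prop) [h : DecidablePred P] : Decidable (∃ x, P x) :=
  @Nat.decidableExistsFin 32 P h

/-- The cocycle. -/
def beta (x y : ℕ) : ℕ :=
  ((x / 2) * y + (x / 4) * (y + y / 2) + (x / 8) * (y + y / 2 + y / 4)) % 2

/-- Elements from numerals. -/
def mk (n : ℕ) : M32 := (⟨n % 32, Nat.mod_lt _ (by decide)⟩ : Fin 32)

instance instMulM32 : Mul M32 := ⟨fun x y => mk (x.1 ^^^ y.1 ^^^ (16 * beta x.1 y.1))⟩
instance instOneM32 : One M32 := ⟨mk 0⟩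
instance instInvM32 : Inv M32 := ⟨fun x => x * x * x⟩

instance instGroupM32 : Group M32 :=
  Group.ofLeftAxioms (by decide +kernel) (by decide +kernel) (by decide +kernel)

/-- The central involution. -/
def z : M32 := mk 16
/-- Five pairwise anticommuting involutions. -/
def e (i : Fin 5) : M32 := mk (if i.1 = 4 then 15 else 2 ^ i.1)
/-- The index of a non-central involution. -/
def idx (x : M32) : Fin 5 :=
  if x.1 % 16 = 1 then 0 else if x.1 % 16 = 2 then 1 else if x.1 % 16 = 4 then 2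
  else if x.1 % 16 = 8 then 3 else 4
/-- The map sending the first four generators to given elements. -/
def ev (a b c d : M32) (x : M32) : M32 :=
  (if x.1 % 2 = 1 then a else 1) * (if x.1 / 2 % 2 = 1 then b else 1) *
    (if x.1 / 4 % 2 = 1 then c else 1) * (if x.1 / 8 % 2 = 1 then d else 1) *
    (if x.1 / 16 % 2 = 1 then z else 1)

theorem card_eq : Nat.card M32 = 32 := by rw [Nat.card_eq_fintype_card]; rfl

theorem sympl : Sympl 2 z (⊤ : Subgroup M32) where
  central := mem_center_iff.mpr (by decide +kernel)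
  ne_one := by decide +kernel
  pow_eq := by decide +kernel
  mem := mem_top _
  comm := fun x _ y _ => mem_zpowers_of_eq_or
    ((by decide +kernel : ∀ x y : M32, x * y * x⁻¹ * y⁻¹ = 1 ∨ x * y * x⁻¹ * y⁻¹ = z) x y)
  pow := fun x _ => mem_zpowers_of_eq_or
    ((by decide +kernel : ∀ x : M32, x ^ 2 = 1 ∨ x ^ 2 = z) x)
  nondeg := fun x hx => mem_zpowers_of_eq_or
    ((by decide +kernel : ∀ x : M32, (∀ y, y * x = x * y) → x = 1 ∨ x = z) x
      fun y => hx.2 y (mem_top y))

theorem sqCount_eq : sqCount (⊤ : Subgroup M32) = 12 := by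
  rw [sqCount_top, Nat.card_eq_fintype_card, Fintype.card_subtype]
  decide +kernel

theorem aut_z (φ : MulAut M32) : φ z = z := by
  refine ((by decide +kernel : ∀ x : M32, (∀ y, y * x = x * y) → x = 1 ∨ x = z) _
    fun y => ?_).resolve_left (by simpa using sympl.ne_one)
  obtain ⟨y, rfl⟩ := φ.surjective y
  rw [← map_mul, ← map_mul, mem_center_iff.mp sympl.central]

theorem aut_eq_ev (φ : MulAut M32) (x : M32) :
    φ x = ev (φ (e 0)) (φ (e 1)) (φ (e 2)) (φ (e 3)) x := by
  conv_lhs => rw [(by decide +kernel : ∀ x : M32, x = ev (e 0) (e 1) (e 2) (e 3) x) x]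
  simp only [ev, map_mul, apply_ite φ, map_one, aut_z]

theorem aut_e (φ : MulAut M32) (i : Fin 5) :
    φ (e i) = e (idx (φ (e i))) ∨ φ (e i) = e (idx (φ (e i))) * z := by
  refine (by decide +kernel : ∀ x : M32, x * x = 1 → x ≠ 1 → x ≠ z →
    x = e (idx x) ∨ x = e (idx x) * z) _ ?_ ?_ ?_
  · rw [← map_mul, (by decide +kernel : ∀ i, e i * e i = 1), map_one]
  · simpa using (by decide +kernel : ∀ i, e i ≠ 1) i
  · conv_rhs => rw [← aut_z φ]
    simpa using (by decide +kernel : ∀ i, e i ≠ z) i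

theorem idx_e : ∀ i, idx (e i) = i := by decide +kernel

/-- The action of the automorphism group on the five four-subgroups. -/
def out : MulAut M32 →* Equiv.Perm (Fin 5) :=
  MonoidHom.toHomPerm
    { toFun := fun φ i => idx (φ (e i))
      map_one' := funext idx_e
      map_mul' := fun φ ψ => funext fun i => by
        change idx (φ (ψ (e i))) = idx (φ (e (idx (ψ (e i)))))
        rcases aut_e ψ i with h | h
        · rw [← h]
        · conv_lhs => rw [h, map_mul, aut_z, (by decide +kernel : ∀ x, idx (x * z) = idx x)] }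

theorem out_apply (φ : MulAut M32) (i : Fin 5) : out φ i = idx (φ (e i)) := rfl

theorem ker_out : out.ker = (MulAut.conj : M32 →* MulAut M32).range := by
  ext φ
  rw [MonoidHom.mem_ker, Equiv.ext_iff]
  constructor
  · intro h
    have h' : ∀ i, φ (e i) = e i ∨ φ (e i) = e i * z := fun i => by
      have := aut_e φ i
      rwa [← out_apply, h i] at this
    obtain ⟨g, h0, h1, h2, h3⟩ := (by decide +kernel : ∀ a : M32, (a = e 0 ∨ a = e 0 * z) →
      ∀ b : M32, (b = e 1 ∨ b = e 1 * z) → ∀ c : M32, (c = e 2 ∨ c = e 2 * z) →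
      ∀ d : M32, (d = e 3 ∨ d = e 3 * z) → ∃ g : M32, g * e 0 * g⁻¹ = a ∧ g * e 1 * g⁻¹ = b ∧
        g * e 2 * g⁻¹ = c ∧ g * e 3 * g⁻¹ = d) _ (h' 0) _ (h' 1) _ (h' 2) _ (h' 3)
    refine ⟨g, MulEquiv.ext fun x => ?_⟩
    rw [aut_eq_ev φ, aut_eq_ev (MulAut.conj g)]
    simp only [MulAut.conj_apply, h0, h1, h2, h3]
  · rintro ⟨g, rfl⟩ i
    exact (by decide +kernel : ∀ (g : M32) (i : Fin 5), idx (g * e i * g⁻¹) = i) g i

/-- Automorphisms from generators. -/
noncomputable def mkAut (a b c d : M32) (h : ∀ x y, ev a b c d (x * y) = ev a b c d x * ev a b c d y)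
    (h' : ∀ x, ev a b c d x = 1 → x = 1) : MulAut M32 :=
  MulEquiv.ofBijective (MonoidHom.mk' (ev a b c d) h)
    (Finite.injective_iff_bijective.mp ((injective_iff_map_eq_one _).mpr h'))

theorem out_surjective : Function.Surjective out := by
  rw [← MonoidHom.range_eq_top, eq_top_iff, ← Equiv.Perm.closure_cycle_adjacent_swap
    (isCycle_finRotate (n := 3)) support_finRotate 0, closure_le]
  rintro _ (rfl | rfl)
  · refine ⟨mkAut (e 1) (e 2) (e 3) (e 4) (by decide +kernel) (by decide +kernel),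
      Equiv.ext fun i => ?_⟩
    exact (by decide +kernel : ∀ i, idx (ev (e 1) (e 2) (e 3) (e 4) (e i)) = finRotate 5 i) i
  · refine ⟨mkAut (e 1) (e 0) (e 2) (e 3) (by decide +kernel) (by decide +kernel),
      Equiv.ext fun i => ?_⟩
    exact (by decide +kernel : ∀ i, idx (ev (e 1) (e 0) (e 2) (e 3) (e i)) =
      Equiv.swap 0 (finRotate 5 0) i) i

theorem fix_of_involution (φ : MulAut M32) (h2 : φ * φ = 1) (h1 : out φ ≠ 1)
    (hs : ¬ (out φ).IsSwap) :
    Nat.card {x // φ x = x} = 4 ∧ ∀ x, φ x = x → x ^ 2 = 1 := by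
  have key := (by decide +kernel : ∀ a : M32, a * a = 1 → ∀ b : M32, b * b = 1 →
    a * b = b * a * z → ∀ c : M32, c * c = 1 → a * c = c * a * z → b * c = c * b * z →
    ∀ d : M32, d * d = 1 → a * d = d * a * z → b * d = d * b * z → c * d = d * c * z →
    ev a b c d a = e 0 → ev a b c d b = e 1 → ev a b c d c = e 2 → ev a b c d d = e 3 →
    (Finset.univ.filter fun i => idx (ev a b c d (e i)) ≠ i).card ≠ 0 →
    (Finset.univ.filter fun i => idx (ev a b c d (e i)) ≠ i).card ≠ 2 →
    (Finset.univ.filter fun x => ev a b c d x = x).card = 4 ∧ ∀ x, ev a b c d x = x → x ^ 2 = 1)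
  have s : ∀ i, φ (e i) * φ (e i) = 1 := fun i => by
    rw [← map_mul, (by decide +kernel : ∀ i, e i * e i = 1), map_one]
  have t : ∀ i j, i ≠ j → φ (e i) * φ (e j) = φ (e j) * φ (e i) * z := fun i j h => by
    rw [← map_mul, (by decide +kernel : ∀ i j, i ≠ j → e i * e j = e j * e i * z) i j h, map_mul,
      map_mul, aut_z]
  have u : ∀ i, ev (φ (e 0)) (φ (e 1)) (φ (e 2)) (φ (e 3)) (φ (e i)) = e i := fun i => by
    rw [← aut_eq_ev, ← MulAut.mul_apply, h2, MulAut.one_apply]
  have := key _ (s 0) _ (s 1) (t 0 1 (by decide)) _ (s 2) (t 0 2 (by decide)) (t 1 2 (by decide))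
    _ (s 3) (t 0 3 (by decide)) (t 1 3 (by decide)) (t 2 3 (by decide)) (u 0) (u 1) (u 2) (u 3)
  simp only [← aut_eq_ev, ← out_apply] at this
  rw [Nat.card_eq_fintype_card, Fintype.card_subtype]
  exact this (fun h => h1 (Equiv.Perm.card_support_eq_zero.mp h))
    (fun h => hs (Equiv.Perm.card_support_eq_two.mp h))

end M32

theorem exists_mulEquiv_M32 {P : Type*} [Group P] [Finite P] (hex : IsExtraspecial 2 P)
    (h32 : Nat.card P = 32)
    (hminus : ∀ A : Subgroup P, IsElementaryAbelian 2 A → Nat.card A ≤ 4) :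
    Nonempty (P ≃* M32) := by
  obtain ⟨z, -, hs⟩ := IsExtraspecial.exists_sympl hex
  obtain ⟨m, hm, hm'⟩ := hs.exists_sqCount
  rw [card_top, h32] at hm
  have : 2 * m + 1 = 5 := (Nat.pow_right_injective (le_refl 2) (hm.symm.trans (by norm_num)))
  obtain rfl : m = 2 := by omega
  have h12 : sqCount (⊤ : Subgroup P) = 12 := by
    refine (hm'.imp id fun h => by omega).resolve_left fun h => ?_
    have h2 : ¬ ∀ x ∈ (⊤ : Subgroup P), x ^ 2 = 1 → x ∈ zpowers z := by
      rw [← hs.sqCount_eq_two_iff]; omega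
    push Not at h2
    obtain ⟨x, hx, hx2, hxz⟩ := h2
    obtain ⟨y, hy, hxy, hy2⟩ := hs.exists_dihedral hx hxz hx2
    have c1 := hs.sqCount_dihedral hx hy hxy hx2 hy2
    have c2 := hs.card_perp hx hy hxy
    rw [card_top, h32] at c2
    have h3 : ¬ ∀ w ∈ perp ⊤ x y, w ^ 2 = 1 → w ∈ zpowers z := by
      rw [← (hs.perp hx hy hxy).sqCount_eq_two_iff]; omega
    push Not at h3
    obtain ⟨w, hw, hw2, hwz⟩ := h3
    have hzn := normal_zpowers_of_mem_center hs.central
    have d1 := card_sup_zpowers (mem_normalizer_of_normal _ w) Nat.prime_two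
      (hw2 ▸ one_mem _) hwz
    have hwc : w ∈ centralizer (zpowers z : Set P) := fun u hu =>
      (commute_of_mem_zpowers_central hs.central hu w).symm
    have hle : zpowers z ⊔ zpowers w ≤ perp ⊤ x y :=
      sup_le (hs.zpowers_le_perp x y) (zpowers_le.mpr hw)
    have hxc : x ∈ centralizer ((zpowers z ⊔ zpowers w : Subgroup P) : Set P) :=
      centralizer_le hle (left_mem_centralizer_perp x y)
    have d2 := card_sup_zpowers (centralizer_le_normalizer _ hxc) Nat.prime_two
      (hx2 ▸ one_mem _) fun h => hs.left_not_mem hxy (hle h)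
    have := hminus (zpowers z ⊔ zpowers w ⊔ zpowers x)
      ⟨isMulCommutative_sup_zpowers (isMulCommutative_sup_zpowers inferInstance hwc) hxc,
        pow_eq_one_of_mem_sup (zpowers_le.mpr hxc) (pow_eq_one_of_mem_sup (zpowers_le.mpr hwc)
          (pow_eq_one_of_mem_zpowers hs.pow_eq) (pow_eq_one_of_mem_zpowers hw2))
          (pow_eq_one_of_mem_zpowers hx2)⟩
    rw [d2, d1, hs.card_zpowers] at this
    omega
  obtain ⟨e, -⟩ := (matched_of_sqCount hs M32.sympl (by rw [card_top, card_top, h32, M32.card_eq])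
    (by rw [h12, M32.sqCount_eq])).exists_mulEquiv (by rw [h32, M32.card_eq])
  exact ⟨e⟩

theorem exists_out_hom {P : Type*} [Group P] [Finite P] (hex : IsExtraspecial 2 P)
    (h32 : Nat.card P = 32)
    (hminus : ∀ A : Subgroup P, IsElementaryAbelian 2 A → Nat.card A ≤ 4) :
    ∃ π : MulAut P →* Equiv.Perm (Fin 5), Function.Surjective π ∧
      π.ker = (MulAut.conj : P →* MulAut P).range ∧
      ∀ φ : MulAut P, φ * φ = 1 → π φ ≠ 1 → ¬ (π φ).IsSwap →
        Nat.card {x // φ x = x} = 4 ∧ ∀ x, φ x = x → x ^ 2 = 1 := by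
  obtain ⟨e⟩ := exists_mulEquiv_M32 hex h32 hminus
  refine ⟨M32.out.comp (MulAut.congr e).toMonoidHom,
    M32.out_surjective.comp (MulAut.congr e).surjective, ?_, fun φ h2 h1 hs => ?_⟩
  · rw [← MonoidHom.comap_ker, M32.ker_out]
    ext φ
    constructor
    · rintro ⟨g, hg⟩
      refine ⟨e.symm g, MulEquiv.ext fun x => e.injective ?_⟩
      simpa using DFunLike.congr_fun hg (e x)
    · rintro ⟨g, rfl⟩
      exact ⟨e g, MulEquiv.ext fun x => by simp⟩
  · obtain ⟨h3, h4⟩ := M32.fix_of_involution (MulAut.congr e φ) (by rw [← map_mul, h2, map_one])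
      h1 hs
    refine ⟨h3 ▸ Nat.card_congr (e.toEquiv.subtypeEquiv fun x => by simp), fun x hx => ?_⟩
    apply e.injective
    rw [map_pow, map_one]
    exact h4 _ (by simp [hx])

end CfsgH2
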