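/-
The Conway–Wales lattice: a verified enumeration of short vectors modulo `4`.
-/
import Cfsg.Agent.H6.DCb
import Cfsg.Agent.H6.Dig

set_option autoImplicit false

namespace CfsgRu

open CfsgH5 CfsgH6 Finset

/-- coordinate vectors -/
abbrev V : Type := Fin 28 → GaussianInt

/-- the norm -/
def nm (y : V) : ℤ := ∑ p, (y p).norm

/-- multiples of `(1 + i) ^ k` -/
def Dv (k : ℕ) : AddSubgroup GaussianInt where
  carrier := {z | (2 : ℤ) ^ (k / 2) ∣ z.re ∧ (2 : ℤ) ^ ((k + 1) / 2) ∣ z.re + z.im}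
  zero_mem' := by simp
  add_mem' := fun {a b} ha hb => ⟨by simpa using ha.1.add hb.1, by
    have := ha.2.add hb.2
    rwa [add_add_add_comm] at this⟩
  neg_mem' := fun {a} ha => ⟨by simpa using ha.1, by
    have := ha.2.neg_right
    rwa [neg_add] at this⟩

theorem mem_Dv {k : ℕ} {z : GaussianInt} :
    z ∈ Dv k ↔ (2 : ℤ) ^ (k / 2) ∣ z.re ∧ (2 : ℤ) ^ ((k + 1) / 2) ∣ z.re + z.im := Iff.rfl

theorem Dv_mono {k l : ℕ} (h : k ≤ l) : Dv l ≤ Dv k := fun _ hz =>
  ⟨(pow_dvd_pow 2 (by omega)).trans hz.1, (pow_dvd_pow 2 (by omega)).trans hz.2⟩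

theorem Dv_add {k : ℕ} (hk : k < 4) {a b : GaussianInt} (ha : a ∈ Dv k) (hb : b ∈ Dv k)
    (ha' : a ∉ Dv (k + 1)) (hb' : b ∉ Dv (k + 1)) : a + b ∈ Dv (k + 1) := by
  simp only [mem_Dv, Zsqrtd.re_add, Zsqrtd.im_add] at *
  interval_cases k <;> norm_num at * <;> omega

/-- least norm in a residue class modulo `(1 + i) ^ k` -/
def mt (k a b : ℕ) : ℕ :=
  if k = 0 then 0 else if (a + b) % 2 = 1 then (if k = 4 ∧ (a = 2 ∨ b = 2) then 5 else 1)
  else if k = 1 then 0 else if a % 2 = 1 then 2 else if k = 2 then 0 else if a ≠ b then 4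
  else if k = 3 then 0 else if a = 2 then 8 else 0

/-- least norm in a residue class modulo `(1 + i) ^ k` -/
def mn (k : ℕ) (z : GaussianInt) : ℕ := mt k (z.re % 4).toNat (z.im % 4).toNat

theorem res4 (a : ℤ) : ∃ (r : ℕ) (t : ℤ), r < 4 ∧ a = 4 * t + r ∧ (a % 4).toNat = r :=
  ⟨(a % 4).toNat, a / 4, by omega, by omega, rfl⟩

theorem mn_congr {k : ℕ} (hk : k ≤ 4) {z w : GaussianInt} (h : z - w ∈ Dv k) : mn k z = mn k w := by
  obtain ⟨a, t1, h1, e1, f1⟩ := res4 z.re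
  obtain ⟨b, t2, h2, e2, f2⟩ := res4 z.im
  obtain ⟨c, t3, h3, e3, f3⟩ := res4 w.re
  obtain ⟨d, t4, h4, e4, f4⟩ := res4 w.im
  rw [mn, mn, f1, f2, f3, f4]
  have key : ∀ k < 5, ∀ a < 4, ∀ b < 4, ∀ c < 4, ∀ d < 4, (a + 4 - c) % 2 ^ (k / 2) = 0 →
      (a + b + 8 - c - d) % 2 ^ ((k + 1) / 2) = 0 → mt k a b = mt k c d := by
    intro k hk a ha b hb c hc d hd
    interval_cases k <;> interval_cases a <;> interval_cases b <;> interval_cases c <;>
      interval_cases d <;> decide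
  simp only [mem_Dv, Zsqrtd.re_sub, Zsqrtd.im_sub, e1, e2, e3, e4] at h
  refine key k (by omega) a h1 b h2 c h3 d h4 ?_ ?_ <;> interval_cases k <;> norm_num at h ⊢ <;>
    omega

theorem mn_mono {k : ℕ} (hk : k < 4) (z : GaussianInt) : mn k z ≤ mn (k + 1) z :=
  (by decide +kernel : ∀ k < 4, ∀ a < 4, ∀ b < 4, mt k a b ≤ mt (k + 1) a b) k hk _ (by omega) _
    (by omega)

theorem sq_ge (a : ℤ) : (if (a % 4).toNat = 2 then 4 else (a % 4).toNat % 2 : ℕ) ≤ a * a := by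
  obtain ⟨r, t, h, e, f⟩ := res4 a
  rw [f, e]
  interval_cases r <;> simp <;> rcases le_or_gt 0 t with h | h <;> nlinarith

theorem mn_le (z : GaussianInt) : (mn 4 z : ℤ) ≤ z.norm := by
  have h1 := sq_ge z.re
  have h2 := sq_ge z.im
  have key : ∀ a < 4, ∀ b < 4, mt 4 a b ≤ (if a = 2 then 4 else a % 2) + (if b = 2 then 4 else b % 2) := by
    decide +kernel
  have h3 := key (z.re % 4).toNat (by omega) (z.im % 4).toNat (by omega)
  rw [Zsqrtd.norm_def, mn]
  have h4 := Int.ofNat_le.2 h3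
  rw [Nat.cast_add] at h4
  linarith

/-- the potential -/
def Phi (k : ℕ) (y : V) : ℕ := ∑ p, mn k (y p)

theorem Phi_le {k : ℕ} (hk : k ≤ 4) (y : V) : (Phi k y : ℤ) ≤ nm y := by
  have h1 : ∀ j < 4, Phi j y ≤ Phi (j + 1) y := fun j hj => sum_le_sum fun p _ => mn_mono hj (y p)
  have h4 : Phi k y ≤ Phi 4 y := by
    have := h1 0 (by omega)
    have := h1 1 (by omega)
    have := h1 2 (by omega)
    have := h1 3 (by omega)
    interval_cases k <;> simp only [Nat.reduceAdd] at * <;> omega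
  refine le_trans (Int.ofNat_le.2 h4) ?_
  rw [Phi, Nat.cast_sum]
  exact sum_le_sum fun p _ => mn_le (y p)

/-! ### Codes -/

/-- the mask of all digits -/
def MASK : ℕ := 0x0303030303030303030303030303030303030303030303030303030303030303030303030303030303030303030303030303030303030303

theorem MASK_eq : MASK = evd 8 56 fun _ => 3 := by decide +kernel

/-- well formed codes -/
def WF (x : ℕ) : Prop := Nat.land x MASK = x

/-- the vector of a code -/
def vec (x : ℕ) : V := fun p => ⟨dgt 8 x (2 * p), dgt 8 x (2 * p + 1)⟩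

/-- addition of codes -/
def addc (x w : ℕ) : ℕ := Nat.land (Nat.add x w) MASK

theorem dgt_MASK (q : ℕ) : dgt 8 MASK q = if q < 56 then 3 else 0 := by
  rw [MASK_eq, dgt_evd fun _ _ => by norm_num]

theorem WF.le {x : ℕ} (h : WF x) (q : ℕ) : dgt 8 x q ≤ 3 := by
  rw [← h, Nat.land_eq, dgt_land, dgt_MASK]
  exact Nat.and_le_right.trans (by split_ifs <;> omega)

theorem WF.evd {x : ℕ} (h : WF x) : x = evd 8 56 (dgt 8 x) :=
  evd_dgt (by norm_num) (by
    rw [← h]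
    exact lt_of_le_of_lt Nat.and_le_right (by decide +kernel))

theorem wf_zero : WF 0 := rfl

theorem wf_addc (x w : ℕ) : WF (addc x w) := by
  simp only [WF, addc, Nat.land_eq, Nat.and_assoc, Nat.and_self]

theorem dgt_addc {x w : ℕ} (hx : WF x) (hw : WF w) {q : ℕ} (hq : q < 56) :
    dgt 8 (addc x w) q = (dgt 8 x q + dgt 8 w q) % 4 := by
  have e : x + w = evd 8 56 fun k => dgt 8 x k + dgt 8 w k := by
    rw [← evd_add, ← hx.evd, ← hw.evd]
  rw [addc, Nat.land_eq, Nat.add_eq, dgt_land, dgt_MASK, e, dgt_evd fun k _ => by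
    have := hx.le k; have := hw.le k; omega, if_pos hq, if_pos hq]
  exact Nat.and_two_pow_sub_one_eq_mod _ 2

theorem vec_zero : vec 0 = 0 := by
  funext p
  simp [vec, dgt]
  rfl

/-- all coordinates in `Dv k` -/
def FD (k : ℕ) : AddSubgroup V := AddSubgroup.pi Set.univ fun _ => Dv k

theorem mem_FD {k : ℕ} {y : V} : y ∈ FD k ↔ ∀ p, y p ∈ Dv k := by simp [FD, AddSubgroup.mem_pi]

theorem vec_addc {x w : ℕ} (hx : WF x) (hw : WF w) : vec x + vec w - vec (addc x w) ∈ FD 4 :=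
  mem_FD.2 fun p => by
    have := p.2
    simp only [mem_Dv, vec, Pi.sub_apply, Pi.add_apply, Zsqrtd.re_sub, Zsqrtd.im_sub,
      Zsqrtd.re_add, Zsqrtd.im_add, dgt_addc hx hw (show 2 * p.1 < 56 by omega),
      dgt_addc hx hw (show 2 * p.1 + 1 < 56 by omega)]
    norm_num
    omega

/-- the code of one coordinate -/
def zc (x s : ℕ) : ℕ := Nat.land (Nat.shiftRight x s) 65535

theorem zc_eq (x p : ℕ) : zc x (16 * p) = dgt 8 x (2 * p) + 256 * dgt 8 x (2 * p + 1) := by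
  have h : zc x (16 * p) = dgt (8 * 2) x p := rfl
  rw [h, evd_dgt (W := 8) (n := 2) (x := dgt (8 * 2) x p) (by norm_num) (dgt_lt _ _ _)]
  simp only [evd, sum_range_succ, range_zero, sum_empty, dgt_dgt]
  simp [mul_comm]

theorem mn_vec {x : ℕ} (hx : WF x) (k : ℕ) (p : Fin 28) :
    mn k (vec x p) = mt k (dgt 8 x (2 * p)) (dgt 8 x (2 * p + 1)) := by
  have h1 := hx.le (2 * p)
  have h2 := hx.le (2 * p + 1)
  simp only [mn, vec]
  congr 1 <;> omega

/-! ### The search -/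

/-- one branch -/
def br (T s : ℕ) (ih : ℕ → ℕ → ℕ) (x c : ℕ) : ℕ :=
  force (Nat.add c (Nat.land (Nat.shiftRight T (Nat.mul 4 (zc x s))) 15)) fun c' =>
    bif' (Nat.ble c' 16) (ih x c') 0

/-- the search along an echelon sequence -/
def go (T : ℕ) (next : ℕ → ℕ → ℕ) (E : List (ℕ × ℕ)) : ℕ → ℕ → ℕ :=
  List.rec (motive := fun _ => ℕ → ℕ → ℕ) next (fun e _ ih x c =>
    Nat.add (br T e.1 ih x c)
      (bif' (Nat.beq e.2 0) 0 (fH (addc x e.2) fun x' => br T e.1 ih x' c))) E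

theorem go_cons (T : ℕ) (next : ℕ → ℕ → ℕ) (e : ℕ × ℕ) (E : List (ℕ × ℕ)) (x c : ℕ) :
    go T next (e :: E) x c = br T e.1 (go T next E) x c +
      if e.2 = 0 then 0 else br T e.1 (go T next E) (addc x e.2) c := by
  change Nat.add _ (bif' _ _ (fH _ fun x' => br T e.1 (go T next E) x' c)) = _
  rw [bif'_eq, fH_eq]
  simp only [beq_true_iff]
  rfl

theorem go_sum (T : ℕ) (s : Finset ℕ) (n : ℕ → ℕ → ℕ → ℕ) (E : List (ℕ × ℕ)) : ∀ x c,
    go T (fun x c => ∑ j ∈ s, n j x c) E x c = ∑ j ∈ s, go T (n j) E x c := by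
  induction E with
  | nil => exact fun _ _ => rfl
  | cons e E ih =>
    intro x c
    have hb : ∀ x, br T e.1 (go T (fun x c => ∑ j ∈ s, n j x c) E) x c =
        ∑ j ∈ s, br T e.1 (go T (n j) E) x c := fun x => by
      simp only [br, force_eq, bif'_eq, ih]
      split_ifs <;> simp
    simp only [go_cons, sum_add_distrib]
    congr 1
    · exact hb x
    · split_ifs
      · simp
      · exact hb _

/-- validity of an echelon sequence -/
def Val (k : ℕ) (B : AddSubgroup V) : List (ℕ × ℕ) → AddSubgroup V → Prop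
  | [], A => A ≤ B
  | e :: r, A => ∃ p : Fin 28, e.1 = 16 * p ∧ WF e.2 ∧ ∃ A' : AddSubgroup V,
      (∀ y ∈ A, y ∈ A' ∨ y - vec e.2 ∈ A') ∧ (∀ y ∈ A', y p ∈ Dv (k + 1)) ∧ FD 4 ≤ A' ∧ Val k B r A'

/-- the bound for failure -/
def BIG : ℕ := 0x1000000000000000

/-- the value `v` counts leaves covering all `y` with `P y` -/
def Cov (f : ℕ → ℕ) (v : ℕ) (P : V → Prop) : Prop :=
  v < BIG → ∃ l : List ℕ, v = (l.map f).sum ∧ ∀ y, P y → nm y ≤ 16 → ∃ a ∈ l, WF a ∧ y - vec a ∈ FD 4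

theorem Cov.mono {f : ℕ → ℕ} {v : ℕ} {P Q : V → Prop} (h : Cov f v P)
    (hQ : ∀ y, Q y → nm y ≤ 16 → P y) : Cov f v Q := fun hv => by
  obtain ⟨l, h1, h2⟩ := h hv
  exact ⟨l, h1, fun y hy hn => h2 y (hQ y hy hn) hn⟩

theorem Cov.add {f : ℕ → ℕ} {v w : ℕ} {P Q : V → Prop} (h : Cov f v P) (h' : Cov f w Q) :
    Cov f (v + w) fun y => P y ∨ Q y := fun hv => by
  obtain ⟨l, h1, h2⟩ := h (by omega)
  obtain ⟨l', h1', h2'⟩ := h' (by omega)
  refine ⟨l ++ l', by simp [h1, h1'], fun y hy hn => ?_⟩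
  rcases hy with hy | hy
  · obtain ⟨a, ha, e⟩ := h2 y hy hn
    exact ⟨a, List.mem_append_left _ ha, e⟩
  · obtain ⟨a, ha, e⟩ := h2' y hy hn
    exact ⟨a, List.mem_append_right _ ha, e⟩

theorem Cov.zero (f : ℕ → ℕ) : Cov f 0 fun _ => False := fun _ => ⟨[], rfl, fun _ h => h.elim⟩

/-- specification of a search procedure at level `k` -/
def Spec (f : ℕ → ℕ) (k : ℕ) (A : AddSubgroup V) (next : ℕ → ℕ → ℕ) : Prop :=
  ∀ x c, WF x → Cov f (next x c) fun y => y - vec x ∈ A ∧ c ≤ Phi k y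

/-- correctness of a table of increments -/
def TOk (k T : ℕ) : Prop := ∀ a < 4, ∀ b < 4, dgt 4 T (a + 256 * b) + mt k a b = mt (k + 1) a b

/-- the increment at a position -/
def inc (k : ℕ) (y : V) (s : ℕ) : ℕ :=
  if h : s / 16 < 28 then mn (k + 1) (y ⟨_, h⟩) - mn k (y ⟨_, h⟩) else 0

theorem go_spec {f : ℕ → ℕ} {k T : ℕ} (hk : k < 4) (hT : TOk k T) {B : AddSubgroup V}
    {next : ℕ → ℕ → ℕ} (hn : Spec f (k + 1) B next) (E : List (ℕ × ℕ)) :
    ∀ A, Val k B E A → ∀ x c, WF x → Cov f (go T next E x c) fun y => y - vec x ∈ A ∧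
      c + ((E.map Prod.fst).map (inc k y)).sum ≤ Phi (k + 1) y := by
  induction E with
  | nil => exact fun A hA x c hx => (hn x c hx).mono fun y hy _ => ⟨hA hy.1, by simpa using hy.2⟩
  | cons e E ih =>
    rintro A ⟨p, hp, hw, A', h1, h2, h3, h4⟩ x c hx
    have hb : ∀ x, WF x → Cov f (br T e.1 (go T next E) x c) fun y => y - vec x ∈ A' ∧
        c + (((e :: E).map Prod.fst).map (inc k y)).sum ≤ Phi (k + 1) y := fun x hx => by
      have hd : ∀ y, y - vec x ∈ A' →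
          Nat.land (Nat.shiftRight T (Nat.mul 4 (zc x e.1))) 15 = inc k y e.1 := fun y hy => by
        have e1 := hT _ (Nat.lt_succ_of_le (hx.le (2 * p))) _ (Nat.lt_succ_of_le (hx.le (2 * p + 1)))
        rw [← zc_eq, ← mn_vec hx, ← mn_vec hx, ← mn_congr (by omega) (h2 _ hy),
          ← mn_congr (by omega) (Dv_mono (Nat.le_succ k) (h2 _ hy)), ← hp] at e1
        have e2 : e.1 / 16 = p := by omega
        rw [inc, dif_pos (e2 ▸ p.2), show (⟨e.1 / 16, e2 ▸ p.2⟩ : Fin 28) = p from Fin.ext e2, ← e1,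
          Nat.add_sub_cancel]
        rfl
      simp only [br, force_eq, bif'_eq, ble_true_iff, Nat.add_eq]
      split_ifs with h
      · refine (ih A' h4 x _ hx).mono fun y hy _ => ⟨hy.1, ?_⟩
        rw [hd y hy.1, add_assoc]
        simpa using hy.2
      · refine (Cov.zero f).mono fun y hy hn => h ?_
        have := Phi_le (k := k + 1) (by omega) y
        have h5 := hy.2
        rw [hd y hy.1]
        simp only [List.map_cons, List.sum_cons] at h5
        omega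
    rw [go_cons]
    split_ifs with h
    · refine ((hb x hx).add (Cov.zero f)).mono ?_
      rintro y ⟨hy1, hy2⟩ -
      exact Or.inl ⟨by simpa [h, vec_zero] using h1 _ hy1, hy2⟩
    · refine ((hb x hx).add (hb _ (wf_addc x e.2))).mono ?_
      rintro y ⟨hy1, hy2⟩ -
      refine (h1 _ hy1).imp (fun h => ⟨h, hy2⟩) fun h => ⟨?_, hy2⟩
      convert A'.add_mem h (h3 (vec_addc hx hw)) using 1
      abel

end CfsgRu
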