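/-
The Conway–Wales lattice: running the enumeration.
-/
import Cfsg.Agent.H2.Ru4

set_option autoImplicit false

namespace CfsgRu

theorem part0 : part 0 = 403701760 := by decide +kernel
theorem part4 : part 4 = 536871008 := by decide +kernel
theorem part8 : part 8 = 402653248 := by decide +kernel
theorem part12 : part 12 = 738197552 := by decide +kernel
theorem part16 : part 16 = 939524176 := by decide +kernel
theorem part20 : part 20 = 603979920 := by decide +kernel
theorem part24 : part 24 = 805306544 := by decide +kernel
theorem part28 : part 28 = 536870976 := by decide +kernel

end CfsgRu
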