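/-
The Conway–Wales lattice: running the enumeration.
-/
import Cfsg.Agent.H2.Ru4

set_option autoImplicit false

namespace CfsgRu

theorem part1 : part 1 = 671088704 := by decide +kernel
theorem part5 : part 5 = 402653200 := by decide +kernel
theorem part9 : part 9 = 671088752 := by decide +kernel
theorem part13 : part 13 = 603979872 := by decide +kernel
theorem part17 : part 17 = 335544352 := by decide +kernel
theorem part21 : part 21 = 805306496 := by decide +kernel
theorem part25 : part 25 = 402653232 := by decide +kernel
theorem part29 : part 29 = 536870976 := by decide +kernel

end CfsgRu
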