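/-
The Conway–Wales lattice: running the enumeration.
-/
import Cfsg.Agent.H2.Ru4

set_option autoImplicit false

namespace CfsgRu

theorem part2 : part 2 = 872415376 := by decide +kernel
theorem part6 : part 6 = 469762096 := by decide +kernel
theorem part10 : part 10 = 469762112 := by decide +kernel
theorem part14 : part 14 = 1006633104 := by decide +kernel
theorem part18 : part 18 = 469762080 := by decide +kernel
theorem part22 : part 22 = 603979840 := by decide +kernel
theorem part26 : part 26 = 536870992 := by decide +kernel
theorem part30 : part 30 = 671088752 := by decide +kernel

end CfsgRu
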