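/-
The Conway–Wales lattice: running the enumeration.
-/
import Cfsg.Agent.H2.Ru4

set_option autoImplicit false

namespace CfsgRu

theorem part3 : part 3 = 536871008 := by decide +kernel
theorem part7 : part 7 = 134217728 := by decide +kernel
theorem part11 : part 11 = 67108880 := by decide +kernel
theorem part15 : part 15 = 469762096 := by decide +kernel
theorem part19 : part 19 = 335544384 := by decide +kernel
theorem part23 : part 23 = 536870992 := by decide +kernel
theorem part27 : part 27 = 335544400 := by decide +kernel

end CfsgRu
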