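/-
The Conway–Wales lattice: correctness of the enumeration.
-/
import Cfsg.Agent.H2.Ru4

set_option autoImplicit false
set_option maxRecDepth 100000

namespace CfsgRu

open CfsgH5 CfsgH6 Finset

noncomputable section

/-- the chain of groups -/
def A3 : AddSubgroup V := sp (gens E3) (FD 4)
/-- the chain of groups -/
def A2 : AddSubgroup V := sp (gens E2) A3
/-- the chain of groups -/
def A1 : AddSubgroup V := sp (gens E1) A2
/-- the chain of groups -/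
def A0 : AddSubgroup V := sp (gens E0) A1

theorem le3 : FD 4 ≤ A3 := le_sp _ _
theorem le2 : A3 ≤ A2 := le_sp _ _
theorem le1 : A2 ≤ A1 := le_sp _ _
theorem le0 : A1 ≤ A0 := le_sp _ _

/-- reduction -/
def red2 (x : ℕ) : ℕ := fH (rd D3 E2 x) (rd D4 E3)
/-- reduction -/
def red1 (x : ℕ) : ℕ := fH (rd D2 E1 x) red2
/-- reduction -/
def red0 (x : ℕ) : ℕ := fH (rd D1 E0 x) red1

instance (x : ℕ) : Decidable (WF x) := inferInstanceAs (Decidable (_ = _))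

theorem wfE : (∀ e ∈ E0, WF e.2) ∧ (∀ e ∈ E1, WF e.2) ∧ (∀ e ∈ E2, WF e.2) ∧ ∀ e ∈ E3, WF e.2 := by
  decide +kernel

theorem rd_mem {D : ℕ} {E : List (ℕ × ℕ)} (hE : ∀ e ∈ E, WF e.2) {B : AddSubgroup V} (hB : FD 4 ≤ B)
    {r : ℕ → ℕ} (hr : ∀ x, WF x → r x = 0 → vec x ∈ B) (x : ℕ) (hx : WF x)
    (h : fH (rd D E x) r = 0) : vec x ∈ sp (gens E) B := by
  have h1 := rd_spec (D := D) (hB.trans (le_sp (gens E) B))
    (fun e he => ⟨hE e he, mem_gens B he⟩) x hx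
  exact h1.2.1 (le_sp _ _ (hr _ h1.1 (by rwa [fH_eq] at h)))

theorem mem3 (x : ℕ) (hx : WF x) (h : rd D4 E3 x = 0) : vec x ∈ A3 :=
  rd_mem (D := D4) (r := id) wfE.2.2.2 le_rfl (fun x _ h => by
    rw [show x = 0 from h, vec_zero]; exact zero_mem _) x hx (by rwa [fH_eq])

theorem mem2 : ∀ x, WF x → red2 x = 0 → vec x ∈ A2 := rd_mem wfE.2.2.1 le3 mem3
theorem mem1 : ∀ x, WF x → red1 x = 0 → vec x ∈ A1 := rd_mem wfE.2.1 (le3.trans le2) mem2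
theorem mem0 : ∀ x, WF x → red0 x = 0 → vec x ∈ A0 :=
  rd_mem wfE.1 (le3.trans (le2.trans le1)) mem1

theorem adm_of {k : ℕ} {B : AddSubgroup V} (hB : FD 4 ≤ B) {r : ℕ → ℕ}
    (hr : ∀ x, WF x → r x = 0 → vec x ∈ B) {G : List ℕ} (hF : ∀ v ∈ G, WF v → vec v ∈ FD k)
    (h : ∀ v ∈ G, WF v ∧ r (addc v v) = 0) : ∀ v ∈ G, WF v ∧ vec v ∈ Adm k B := fun v hv => by
  refine ⟨(h v hv).1, hF v hv (h v hv).1, ?_⟩
  have := B.add_mem (hB (vec_addc (h v hv).1 (h v hv).1)) (hr _ (wf_addc _ _) (h v hv).2)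
  simpa using this

theorem dok : DOk 1 D1 ∧ DOk 2 D2 ∧ DOk 3 D3 ∧ DOk 4 D4 := by
  unfold DOk
  decide +kernel

theorem tok : TOk 0 T0 ∧ TOk 1 T1 ∧ TOk 2 T2 ∧ TOk 3 T3 := by
  unfold TOk
  decide +kernel

theorem adm3 : ∀ v ∈ gens E3, WF v ∧ vec v ∈ Adm 3 (FD 4) :=
  adm_of (r := id) le_rfl (fun x _ h => by rw [show x = 0 from h, vec_zero]; exact zero_mem _)
    (fun v hv h => mem_FD_of dok.2.2.1 h ((by decide +kernel :
      ∀ v ∈ gens E3, ∀ s ∈ POS, dg1 D3 v s = false) v hv)) (by decide +kernel)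

theorem adm2 : ∀ v ∈ gens E2, WF v ∧ vec v ∈ Adm 2 A3 :=
  adm_of le3 mem3 (fun v hv h => mem_FD_of dok.2.1 h ((by decide +kernel :
      ∀ v ∈ gens E2, ∀ s ∈ POS, dg1 D2 v s = false) v hv)) (by decide +kernel)

theorem adm1 : ∀ v ∈ gens E1, WF v ∧ vec v ∈ Adm 1 A2 :=
  adm_of (le3.trans le2) mem2 (fun v hv h => mem_FD_of dok.1 h ((by decide +kernel :
      ∀ v ∈ gens E1, ∀ s ∈ POS, dg1 D1 v s = false) v hv)) (by decide +kernel)

theorem adm0 : ∀ v ∈ gens E0, WF v ∧ vec v ∈ Adm 0 A1 :=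
  adm_of (le3.trans (le2.trans le1)) mem1 (fun v _ _ => mem_FD.2 fun p => by simp [mem_Dv])
    (by decide +kernel)

theorem fd3 : A3 ≤ FD 3 := sp_le.2 ⟨fun v hv => (adm3 v hv).2.1, FD_mono (by omega)⟩
theorem fd2 : A2 ≤ FD 2 := sp_le.2 ⟨fun v hv => (adm2 v hv).2.1, fd3.trans (FD_mono (by omega))⟩
theorem fd1 : A1 ≤ FD 1 := sp_le.2 ⟨fun v hv => (adm1 v hv).2.1, fd2.trans (FD_mono (by omega))⟩

theorem spec1 : Spec (leafv sel DL) 1 A1 L1 := by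
  have h3 := val_of (E := E3) (by omega) dok.2.2.2 le_rfl le_rfl adm3 (by decide +kernel)
  exact lev_spec C1 (by omega) tok.2.1 dok.2.1 fd2 (le3.trans le2) (lev_spec C2 (by omega)
    tok.2.2.1 dok.2.2.1 fd3 le3 (fixed_spec (by omega) tok.2.2.2 (leaf_spec _) h3.1 h3.2) adm2) adm1

theorem spec0 : Spec (leafv sel DL) 0 A0 (go T0 L1 E0) := by
  have h0 := val_of (E := E0) (by omega) dok.1 fd1 (le3.trans (le2.trans le1)) adm0
    (by decide +kernel)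
  exact fixed_spec (by omega) tok.1 spec1 h0.1 h0.2

theorem go_eq : go T0 L1 E0 0 0 = ∑ j ∈ range 31, part j := by
  have h := go_sum T0 (range 31) (fun j x c => bif' (Nat.beq (Nat.mod x 31) j) (L1 x c) 0) E0 0 0
  have e : (fun x c => ∑ j ∈ range 31, bif' (Nat.beq (Nat.mod x 31) j) (L1 x c) 0) = L1 := by
    funext x c
    simp only [bif'_eq, beq_true_iff]
    rw [sum_ite_eq, if_pos (show Nat.mod x 31 ∈ range 31 from
      mem_range.2 (Nat.mod_lt _ (by norm_num)))]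
  rw [e] at h
  exact h

theorem short (h : ∑ j ∈ range 31, part j = 0x100000 * 16129 + 2304) : ∃ l : List ℕ,
    l.length ≤ 16129 ∧ 0 ∈ l ∧ (l.filter fun x => zc x 0 = 1).length ≤ 2304 ∧
    (∀ x ∈ l, zc x 0 = 1 → sel x = true → x ∈ DL) ∧ ∀ y ∈ A0, nm y ≤ 16 →
      y ∈ FD 4 ∨ ∃ a ∈ l, a ≠ 0 ∧ WF a ∧ y = sv a ∧ nm y = 16 := by
  obtain ⟨l, h1, h2⟩ := spec0 0 0 wf_zero (by rw [go_eq, h]; decide)
  obtain ⟨h3, h4, h5⟩ := leaf_sum (by norm_num) (by norm_num) (h1.symm.trans (go_eq.trans h))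
  have key : ∀ y ∈ A0, nm y ≤ 16 → (0 ∈ l ∧ y ∈ FD 4) ∨
      ∃ a ∈ l, a ≠ 0 ∧ WF a ∧ y = sv a ∧ nm y = 16 := fun y hy hn => by
    obtain ⟨a, ha, h6, h7⟩ := h2 y ⟨by simpa [vec_zero] using hy, Nat.zero_le _⟩ hn
    by_cases h0 : a = 0
    · subst h0
      exact Or.inl ⟨ha, by simpa [vec_zero] using h7⟩
    · exact Or.inr ⟨a, ha, h0, h6, sv_eq h6 h7 hn ((h5 a ha).1.resolve_left h0)⟩
  refine ⟨l, h3, ?_, h4, fun x hx => (h5 x hx).2, fun y hy hn => (key y hy hn).imp_left And.right⟩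
  rcases key 0 (zero_mem _) (by simp [nm]) with h | ⟨a, -, -, -, -, h⟩
  · exact h.1
  · simp [nm] at h

/-- the code of a vector -/
def cd (y : V) : ℕ := evd 8 56 fun q => (rc y q % 4).toNat

theorem dgt_cd (y : V) {q : ℕ} (h : q < 56) : dgt 8 (cd y) q = (rc y q % 4).toNat := by
  rw [cd, dgt_evd fun _ _ => by omega, if_pos h]

theorem wf_cd (y : V) : WF (cd y) := by
  refine eq_of_dgt (W := 8) (by norm_num) fun q => ?_
  rw [Nat.land_eq, dgt_land, dgt_MASK, cd, dgt_evd fun _ _ => by omega]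
  split_ifs
  · exact (Nat.and_two_pow_sub_one_eq_mod _ 2).trans (Nat.mod_eq_of_lt (by omega))
  · rfl

theorem mem_A0 {y : V} (h : fH (cd y) red0 = 0) : y ∈ A0 := by
  rw [fH_eq] at h
  have h1 : y - vec (cd y) ∈ FD 4 := mem_FD.2 fun p => by
    have := p.2
    simp only [mem_Dv, vec, Pi.sub_apply, Zsqrtd.re_sub, Zsqrtd.im_sub,
      dgt_cd y (show 2 * p.1 < 56 by omega), dgt_cd y (show 2 * p.1 + 1 < 56 by omega), rc_even,
      rc_odd]
    norm_num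
    omega
  simpa using A0.add_mem (le0 (le1 (le2 (le3 h1)))) (mem0 _ (wf_cd y) h)

end

end CfsgRu
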