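/-
The Conway–Wales lattice: a basis, and the short vectors.
-/
import Cfsg.Agent.H2.Ru5a
import Cfsg.Agent.H2.Ru5b
import Cfsg.Agent.H2.Ru5c
import Cfsg.Agent.H2.Ru5d
import Cfsg.Agent.H2.Ru7
import Cfsg.Agent.H2.Ru8
import Cfsg.Prelude.Def_Spor_Ru

set_option autoImplicit false
set_option maxRecDepth 100000

namespace CfsgRu

open CfsgH5 CfsgH6 Finset Cfsg.Spor Matrix

noncomputable section

/-- square matrices -/
abbrev MM : Type := Matrix (Fin 28) (Fin 28) GaussianInt

/-- the matrix of a function -/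
def mat (f : ℕ → ℕ → GaussianInt) : MM := Matrix.of fun i j => f i j

theorem mat_mul {A B C : ℕ → ℕ → GaussianInt} (h : mulChk 28 28 28 A B C = true) :
    mat A * mat B = mat C := by
  ext1 i k
  have := mul_ok (by norm_num) h i.2 k.2
  rwa [← Fin.sum_univ_eq_sum_range fun j => A i j * B j k] at this

/-- the unit matrix -/
def idm (i j : ℕ) : GaussianInt := if i = j then 1 else 0

theorem mat_idm : mat idm = 1 := by
  ext1 i j
  simp [mat, idm, one_apply, Fin.ext_iff]

/-- conjugate transpose -/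
def ct (f : ℕ → ℕ → GaussianInt) (i j : ℕ) : GaussianInt := star (f j i)

theorem mat_ct (f : ℕ → ℕ → GaussianInt) : mat (ct f) = (mat f)ᴴ := rfl

/-- numbering of the coordinates -/
def ptn (i : ℕ) : RuIdx := (Fin.ofNat 7 (i / 4), Fin.ofNat 4 i)

/-- numbering of the coordinates -/
def ix (p : RuIdx) : Fin 28 := ⟨4 * p.1 + p.2, by omega⟩

theorem ptn_ix : ∀ p, ptn (ix p) = p := by decide
theorem ix_ptn : ∀ q : Fin 28, ix (ptn q) = q := by decide

/-- renumbered vector -/
def fr (x : RuVec) : V := fun q => x (ptn q)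

theorem fr_inj : Function.Injective fr := fun x y h => funext fun p => by
  simpa [fr, ptn_ix] using congrFun h (ix p)

theorem nm_fr (x : RuVec) : nm (fr x) = ruNorm x :=
  (⟨fun q => ptn q, ix, ix_ptn, ptn_ix⟩ : Fin 28 ≃ RuIdx).sum_comp fun p => (x p).norm

/-- the matrix with given columns -/
def cm (a : ℕ → RuVec) (i j : ℕ) : GaussianInt := a j (ptn i)

theorem mem_of_chk {l : ℕ} {a c : ℕ → RuVec} {B : ℕ → ℕ → GaussianInt}
    (h : mulChk 28 28 l (cm a) B (cm c) = true) {S : Submodule GaussianInt RuVec}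
    (ha : ∀ j < 28, a j ∈ S) : ∀ k < l, c k ∈ S := fun k hk => by
  have : c k = ∑ j ∈ range 28, B j k • a j := funext fun p => by
    have := mul_ok (by norm_num) h (ix p).2 hk
    simp only [cm, ptn_ix] at this
    rw [← this, Finset.sum_apply]
    exact sum_congr rfl fun j _ => mul_comm _ _
  rw [this]
  exact S.sum_mem fun j hj => S.smul_mem _ (ha j (mem_range.1 hj))

theorem smul_eq {ι : Type} (z : GaussianInt) (v : ι → GaussianInt) :
    z • v = z.re • v + z.im • gI • v := by
  funext p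
  ext <;> simp [gI] <;> ring

/-- the lattice as a module -/
def RL : Submodule GaussianInt RuVec where
  toAddSubmonoid := ruLattice.toAddSubmonoid
  smul_mem' z v hv := by
    rw [smul_eq]
    exact ruLattice.add_mem (ruLattice.zsmul_mem hv _)
      (ruLattice.zsmul_mem (gI_smul_mem_ruLattice hv) _)

/-- the generating maps -/
def opf : ℕ → RuVec → RuVec
  | 0 => ruRj
  | 1 => ruRk
  | 2 => ruSign
  | 3 => ruShift
  | _ => fun v => gI • v

theorem opf_mem (k : ℕ) {v : RuVec} (hv : v ∈ RL) : opf k v ∈ RL := by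
  change _ ∈ sInf ruClosed at hv ⊢
  rw [AddSubgroup.mem_sInf] at hv ⊢
  intro L hL
  obtain ⟨h4, h0, h1, h2, h3⟩ := hL.2 v (hv L hL)
  rcases k with _ | _ | _ | _ | k <;> assumption

theorem opf_lin (k : ℕ) : IsLinearMap GaussianInt (opf k) := by
  rcases k with _ | _ | _ | _ | k <;> refine ⟨fun x y => funext ?_, fun c x => funext ?_⟩ <;>
    rintro ⟨n, t⟩ <;> fin_cases t <;>
    simp only [opf, ruRj, ruRk, ruSign, ruShift, Pi.add_apply, Pi.smul_apply, smul_eq_mul] <;>
    (try split_ifs) <;> ring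

/-- the basis vectors -/
def pc (j : ℕ) : RuVec := fun p => en 4 28 dP (ix p) j

/-- the values of the words -/
def wd (j : ℕ) : RuVec :=
  (WS.getD j (0, [])).2.foldl (fun v k => opf k v) (ruTable.getD (WS.getD j (0, [])).1 0)

theorem wd_mem (j : ℕ) : wd j ∈ RL := by
  have h : ∀ i, ruTable.getD i 0 ∈ RL := fun i => by
    rw [List.getD_eq_getElem?_getD]
    rcases e : ruTable[i]? with _ | v
    · exact zero_mem _
    · exact AddSubgroup.mem_sInf.2 fun L hL => hL.1 v (List.mem_of_getElem? e)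
  have h2 : ∀ (w : List ℕ) (v : RuVec), v ∈ RL → w.foldl (fun v k => opf k v) v ∈ RL := fun w => by
    induction w with
    | nil => exact fun _ h => h
    | cons k w ih => exact fun v h => ih _ (opf_mem k h)
  exact h2 _ _ (h _)

theorem chkS : mulChk 28 28 28 (cm wd) (en 5 28 dS) (cm pc) = true := by decide +kernel
theorem chkA : mulChk 28 28 20 (cm pc) (en 10 28 dA) (cm fun j => ruTable.getD j 0) = true := by
  decide +kernel
theorem chkO : ∀ k < 4, mulChk 28 28 28 (cm pc) (en 10 28 ([dO0, dO1, dO2, dO3].getD k 0))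
    (cm fun j => opf k (pc j)) = true := by decide +kernel

theorem RL_eq : RL = Submodule.span GaussianInt (Set.range fun j : Fin 28 => pc j) := by
  refine le_antisymm ?_ (Submodule.span_le.2 ?_)
  · set S := Submodule.span GaussianInt (Set.range fun j : Fin 28 => pc j)
    have hp : ∀ j < 28, pc j ∈ S := fun j hj => Submodule.subset_span ⟨⟨j, hj⟩, rfl⟩
    have ho : ∀ k < 4, ∀ v ∈ S, opf k v ∈ S := fun k hk =>
      Submodule.span_le (p := S.comap (IsLinearMap.mk' _ (opf_lin k))).2 (by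
        rintro _ ⟨j, rfl⟩
        exact mem_of_chk (chkO k hk) hp j j.2)
    refine fun v hv => AddSubgroup.mem_sInf.1 hv S.toAddSubgroup ⟨fun v hv => ?_, fun v hv =>
      ⟨S.smul_mem _ hv, ho 0 (by omega) v hv, ho 1 (by omega) v hv, ho 2 (by omega) v hv,
        ho 3 (by omega) v hv⟩⟩
    obtain ⟨i, hi, rfl⟩ := List.getElem_of_mem hv
    have := mem_of_chk chkA hp i hi
    rwa [List.getD_eq_getElem _ _ hi] at this
  · rintro _ ⟨j, rfl⟩
    exact mem_of_chk chkS (fun j _ => wd_mem j) j j.2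

/-- the matrix of the basis -/
def P : MM := mat (en 4 28 dP)

theorem fr_sum (c : V) : fr (∑ j : Fin 28, c j • pc j) = P *ᵥ c := funext fun q => by
  simp only [fr, Finset.sum_apply, Pi.smul_apply, pc, ix_ptn, mulVec, dotProduct, P, mat, of_apply,
    smul_eq_mul, mul_comm]

theorem mem_iff {x : RuVec} : x ∈ ruLattice ↔ ∃ c, P *ᵥ c = fr x := by
  change x ∈ RL ↔ _
  rw [RL_eq, Submodule.mem_span_range_iff_exists_fun]
  exact exists_congr fun c => by rw [← fr_sum, fr_inj.eq_iff]

/-- the Gram matrix -/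
def gr (i j : ℕ) : GaussianInt := en 4 28 dT i j + ct (en 4 28 dT) i j

theorem gram : Pᴴ * P = (4 : GaussianInt) • mat gr :=
  mat_mul (A := ct (en 4 28 dP)) (C := fun i j => 4 * gr i j) (by decide +kernel)

theorem gram_inv : mat (en 20 28 dG) * mat gr = 1 := mat_idm ▸ mat_mul (by decide +kernel)

theorem re_sum {ι : Type} (s : Finset ι) (g : ι → GaussianInt) :
    (∑ j ∈ s, g j).re = ∑ j ∈ s, (g j).re := map_sum (⟨⟨Zsqrtd.re, rfl⟩, fun _ _ => rfl⟩ :
      GaussianInt →+ ℤ) g s

theorem nm_eq (y : V) : nm y = (star y ⬝ᵥ y).re := by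
  rw [dotProduct, re_sum]
  exact sum_congr rfl fun p _ => by simp [Zsqrtd.norm_def]

theorem nm_mulVec (M : MM) (c : V) : nm (M *ᵥ c) = (star c ⬝ᵥ (Mᴴ * M) *ᵥ c).re := by
  rw [nm_eq, star_mulVec, ← dotProduct_mulVec, mulVec_mulVec]

theorem eight_dvd (c : V) : 8 ∣ nm (P *ᵥ c) := by
  have e : mat gr = mat (en 4 28 dT) + (mat (en 4 28 dT))ᴴ := rfl
  generalize mat (en 4 28 dT) = T at e
  have h : star c ⬝ᵥ Tᴴ *ᵥ c = star (star c ⬝ᵥ T *ᵥ c) := by
    rw [← star_dotProduct_star, star_star, star_mulVec, ← dotProduct_mulVec]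
  rw [nm_mulVec, gram, e, smul_mulVec, add_mulVec, dotProduct_smul, dotProduct_add, h]
  refine ⟨(star c ⬝ᵥ T *ᵥ c).re, ?_⟩
  simp
  ring

theorem mem_A0' (c : V) : P *ᵥ c ∈ A0 := by
  have h : ∀ j < 28, fH (cd (fr (pc j))) red0 = 0 ∧ fH (cd (gI • fr (pc j))) red0 = 0 := by
    decide +kernel
  have e : P *ᵥ c = ∑ j : Fin 28, c j • fr (pc j) := by
    rw [← fr_sum]
    funext q
    simp [fr]
  rw [e]
  refine A0.sum_mem fun j _ => ?_
  rw [smul_eq]
  exact A0.add_mem (A0.zsmul_mem (mem_A0 (h j j.2).1) _) (A0.zsmul_mem (mem_A0 (h j j.2).2) _)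

theorem sum_part : ∑ j ∈ range 31, part j = 0x100000 * 16129 + 2304 := by
  simp only [sum_range_succ, range_zero, sum_empty, part0, part1, part2, part3, part4, part5, part6,
    part7, part8, part9, part10, part11, part12, part13, part14, part15, part16, part17, part18,
    part19, part20, part21, part22, part23, part24, part25, part26, part27, part28, part29, part30]

theorem norm_four {z : GaussianInt} (h : z ∈ Dv 4) : ∃ w : GaussianInt, z = 4 * w ∧
    z.norm = 16 * w.norm := by
  rw [mem_Dv] at h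
  norm_num at h
  have e : z = 4 * (⟨z.re / 4, z.im / 4⟩ : GaussianInt) := by
    ext <;> simp <;> omega
  exact ⟨_, e, (congrArg Zsqrtd.norm e).trans (Zsqrtd.norm_mul _ _)⟩

theorem le_nm (y : V) (p : Fin 28) : (y p).norm ≤ nm y :=
  single_le_sum (f := fun p => (y p).norm) (fun _ _ => GaussianInt.norm_nonneg _) (mem_univ p)

theorem min_norm {y : V} (hy : y ∈ A0) (h0 : y ≠ 0) : 16 ≤ nm y := by
  obtain ⟨l, -, -, -, -, h⟩ := short sum_part
  by_contra hn
  rcases h y hy (by omega) with h | ⟨a, -, -, -, -, h⟩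
  · obtain ⟨p, hp⟩ := Function.ne_iff.1 h0
    obtain ⟨w, h1, h2⟩ := norm_four (mem_FD.1 h p)
    have := le_nm y p
    have := GaussianInt.norm_pos.2 hp
    omega
  · omega

end

end CfsgRu
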