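/-
The Conway–Wales lattice: a bound for the order of the automorphism group.
-/
import Cfsg.Agent.H2.Ru9

set_option autoImplicit false
set_option maxRecDepth 100000

namespace CfsgRu

open CfsgH5 CfsgH6 Finset Cfsg.Spor Matrix MulAction

noncomputable section

/-- a lattice vector in the numbered coordinates -/
def F (x : ruLattice) : V := fr x.1

theorem F_inj : Function.Injective F := fun _ _ h => Subtype.ext (fr_inj h)

theorem F_add (x y : ruLattice) : F (x + y) = F x + F y := rfl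
theorem F_I (x : ruLattice) : F (ruI x) = gI • F x := rfl

theorem P_inj {c d : V} (h : P *ᵥ c = P *ᵥ d) : c = d := by
  have h1 := congrArg (fun y => (mat (en 20 28 dG) * Pᴴ) *ᵥ y) h
  simp only [mulVec_mulVec, Matrix.mul_assoc, gram, Matrix.mul_smul, gram_inv, smul_mulVec,
    one_mulVec] at h1
  exact smul_right_injective _ (by decide) h1

/-- coordinates -/
def kap : V ≃ ruLattice := Equiv.ofBijective
  (fun c => ⟨fun p => (P *ᵥ c) (ix p), mem_iff.2 ⟨c, funext fun q => by simp [fr, ix_ptn]⟩⟩)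
  ⟨fun c d h => P_inj (funext fun q => by
      simpa [ix_ptn] using congrFun (congrArg Subtype.val h) (ptn q)),
    fun x => (mem_iff.1 x.2).imp fun c hc => Subtype.ext (funext fun p => by simp [hc, fr, ptn_ix])⟩

theorem F_kap (c : V) : F (kap c) = P *ᵥ c := funext fun q => congrArg (P *ᵥ c) (ix_ptn q)

theorem kap_add (c d : V) : kap (c + d) = kap c + kap d :=
  F_inj (by rw [F_add, F_kap, F_kap, F_kap, mulVec_add])

theorem kap_I (c : V) : kap (gI • c) = ruI (kap c) :=
  F_inj (by rw [F_I, F_kap, F_kap, mulVec_smul])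

theorem F_mem (x : ruLattice) : F x ∈ A0 := by
  rw [← kap.apply_symm_apply x, F_kap]
  exact mem_A0' _

/-- an automorphism in coordinates -/
def add0 (f : fourRu) : V →+ V := AddMonoidHom.mk' (fun c => kap.symm (f.1 (kap c))) fun c d =>
  kap.injective (by simp only [kap_add, f.2.1, Equiv.apply_symm_apply])

theorem kap_add0 (f : fourRu) (c : V) : kap (add0 f c) = f.1 (kap c) := kap.apply_symm_apply _

/-- an automorphism in coordinates -/
def lin0 (f : fourRu) : V →ₗ[GaussianInt] V where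
  toAddHom := add0 f
  map_smul' z c := by
    have h : add0 f (gI • c) = gI • add0 f c :=
      kap.injective (by rw [kap_I, kap_add0, kap_add0, kap_I, f.2.2.1])
    change add0 f (z • c) = z • add0 f c
    rw [smul_eq, smul_eq z (add0 f c), map_add, map_zsmul, map_zsmul, h]

theorem kap_mulVec (f : fourRu) (c : V) :
    kap (LinearMap.toMatrix' (lin0 f) *ᵥ c) = f.1 (kap c) := by
  rw [LinearMap.toMatrix'_mulVec]
  exact kap_add0 f c

/-- the matrix of an automorphism -/
def psi : fourRu →* MM where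
  toFun f := LinearMap.toMatrix' (lin0 f)
  map_one' := ext_iff_mulVec.2 fun c => kap.injective (by rw [kap_mulVec, one_mulVec]; rfl)
  map_mul' f g := ext_iff_mulVec.2 fun c => kap.injective (by
    rw [← mulVec_mulVec, kap_mulVec, kap_mulVec, kap_mulVec]; rfl)

theorem psi_spec (f : fourRu) (c : V) : kap (psi f *ᵥ c) = f • kap c := kap_mulVec f c

theorem psi_inj : Function.Injective psi := fun f g h => Subtype.ext (Equiv.ext fun x => by
  obtain ⟨c, rfl⟩ := kap.surjective x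
  exact (psi_spec f c).symm.trans (h ▸ psi_spec g c))

theorem psi_surj {M : MM} (h : Mᴴ * (mat gr * M) = mat gr) : ∃ f, psi f = M := by
  have h1 : mat (en 20 28 dG) * Mᴴ * mat gr * M = 1 := by
    rw [Matrix.mul_assoc, Matrix.mul_assoc, h, gram_inv]
  generalize mat (en 20 28 dG) * Mᴴ * mat gr = N at h1
  let e : V ≃ V := ⟨(M *ᵥ ·), (N *ᵥ ·), fun c => by simp [h1],
    fun c => by simp [mul_eq_one_comm.1 h1]⟩
  have he : ∀ c, (kap.symm.trans e).trans kap (kap c) = kap (M *ᵥ c) := fun c => by simp [e]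
  refine ⟨⟨(kap.symm.trans e).trans kap, fun x y => ?_, fun x => ?_, fun x => ?_⟩,
    ext_iff_mulVec.2 fun c => kap.injective ((psi_spec _ c).trans (he c))⟩
  · obtain ⟨c, rfl⟩ := kap.surjective x
    obtain ⟨d, rfl⟩ := kap.surjective y
    rw [← kap_add, he, he, he, mulVec_add, kap_add]
  · obtain ⟨c, rfl⟩ := kap.surjective x
    rw [← kap_I, he, he, mulVec_smul, kap_I]
  · obtain ⟨c, rfl⟩ := kap.surjective x
    rw [he, ← nm_fr, ← nm_fr]
    change nm (F _) = nm (F _)
    rw [F_kap, F_kap, mulVec_mulVec, nm_mulVec, nm_mulVec, conjTranspose_mul, Matrix.mul_assoc,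
      ← Matrix.mul_assoc Pᴴ, gram, Matrix.smul_mul, Matrix.mul_smul, h]

theorem nm_smul (f : fourRu) (x : ruLattice) : nm (F (f • x)) = nm (F x) :=
  (nm_fr _).trans ((f.2.2.2 x).trans (nm_fr _).symm)

theorem nm_add (x y : V) : nm (x + y) = nm x + nm y + 2 * dot x y := by
  simp only [nm, dot, mul_sum, ← sum_add_distrib]
  exact sum_congr rfl fun p _ => by simp [Zsqrtd.norm_def]; ring

theorem dot_smul (f : fourRu) (x y : ruLattice) : dot (F (f • x)) (F (f • y)) = dot (F x) (F y) := by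
  have h := nm_smul f (x + y)
  rw [show f • (x + y) = f • x + f • y from f.2.1 x y, F_add, F_add, nm_add, nm_add, nm_smul,
    nm_smul] at h
  omega

theorem fix_I {f : fourRu} {x : ruLattice} (h : f • x = x) : f • ruI x = ruI x :=
  (f.2.2.1 x).trans (congrArg ruI h)

/-- finite of bounded size -/
def Bd (T : Type) (n : ℕ) : Prop := Finite T ∧ Nat.card T ≤ n

theorem Bd.step {H : Subgroup fourRu} (x : ruLattice) {s : Finset V} {n m : ℕ} (hn : s.card ≤ n)
    (hs : ∀ g ∈ H, F (g • x) ∈ s) (h : Bd ↥(H ⊓ stabilizer fourRu x) m) : Bd H (n * m) := by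
  let a : orbit H x → s := fun y => ⟨F y, by
    obtain ⟨_, g, rfl⟩ := y
    exact hs g g.2⟩
  have ha : Function.Injective a := fun y z e => Subtype.ext (F_inj (congrArg Subtype.val e))
  let b : stabilizer H x → ↥(H ⊓ stabilizer fourRu x) := fun g => ⟨g.1.1, g.1.2, g.2⟩
  have hb : Function.Injective b := fun y z e =>
    Subtype.ext (Subtype.ext (congrArg (fun g => (g.1 : fourRu)) e))
  have := h.1
  have := Finite.of_injective a ha
  have := Finite.of_injective b hb
  refine ⟨Finite.of_equiv _ (orbitProdStabilizerEquivGroup H x), ?_⟩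
  rw [← Nat.card_congr (orbitProdStabilizerEquivGroup H x), Nat.card_prod]
  exact Nat.mul_le_mul ((Nat.card_le_card_of_injective a ha).trans (by simpa using hn))
    ((Nat.card_le_card_of_injective b hb).trans h.2)

/-- the base vectors -/
def bw (i j : ℕ) : GaussianInt := if j = 0 then (if i = 0 then 4 else 0) else
  ⟨sg (dgt 8 ((u2 :: BS).getD (j - 1) 0) (2 * i)), sg (dgt 8 ((u2 :: BS).getD (j - 1) 0) (2 * i + 1))⟩

/-- the base vectors -/
def bx (j : Fin 28) : ruLattice := kap fun k => mat (en 10 28 dB) k j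

theorem F_bx (j : Fin 28) : F (bx j) = fun i : Fin 28 => bw i j := by
  have h : P * mat (en 10 28 dB) = mat bw := mat_mul (by decide +kernel)
  rw [bx, F_kap]
  exact funext fun i => congrFun (congrFun h i) j

theorem F_bx' (j : Fin 28) (h : j.1 ≠ 0) : F (bx j) = sv ((u2 :: BS).getD (j - 1) 0) := by
  rw [F_bx]
  exact funext fun i => if_neg h

theorem F_bx0 : F (bx 0) = Pi.single 0 4 := by
  rw [F_bx]
  decide +kernel

theorem eq_one {f : fourRu} (h : ∀ j, f • bx j = bx j) : f = 1 := by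
  have h1 : mat (en 10 28 dB) * mat (en 10 28 dC) = 1 := mat_idm ▸ mat_mul (by decide +kernel)
  have h2 : psi f * mat (en 10 28 dB) = mat (en 10 28 dB) := Matrix.ext fun i j =>
    congrFun (kap.injective ((psi_spec f _).trans (h j))) i
  refine psi_inj ?_
  rw [map_one, ← Matrix.mul_one (psi f), ← h1, ← Matrix.mul_assoc, h2]

theorem coord0 {f : fourRu} (h : f • bx 0 = bx 0) (x : ruLattice) : F (f • x) 0 = F x 0 := by
  have e1 : ∀ y : V, dot y (Pi.single 0 4) = 4 * (y 0).re := fun y => by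
    rw [dot, sum_eq_single 0 (fun p _ hp => by simp [hp]) (by simp)]
    simp [mul_comm]
  have e2 : ∀ y : V, dot y (gI • Pi.single 0 4) = 4 * (y 0).im := fun y => by
    rw [dot, sum_eq_single 0 (fun p _ hp => by simp [hp]) (by simp)]
    simp [mul_comm, gI]
  have h1 := dot_smul f x (bx 0)
  have h2 := dot_smul f x (ruI (bx 0))
  rw [fix_I h, F_I, F_bx0, e2, e2] at h2
  rw [h, F_bx0, e1, e1] at h1
  exact Zsqrtd.ext (by omega) (by omega)

theorem zc_iff {a : ℕ} (ha : WF a) : sv a 0 = 1 ↔ zc a 0 = 1 := by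
  have h1 := ha.le 0
  have h2 := ha.le 1
  rw [show zc a 0 = _ from zc_eq a 0, Zsqrtd.ext_iff]
  simp only [sv, sg, Fin.val_zero, Nat.mul_zero, Nat.zero_add, Zsqrtd.re_one, Zsqrtd.im_one]
  split_ifs <;> omega

/-- the number of candidates -/
def cnt (ms : List (ℕ × ℕ)) (w : ℕ) : ℕ :=
  (DL.filter fun a => ms.all fun m => Nat.beq (ipc a m) (ipc w m)).length

/-- strict evaluation of a pair -/
def f2 (m : ℕ × ℕ) (k : ℕ × ℕ → ℕ) : ℕ := fH m.1 fun a => fH m.2 fun b => k (a, b)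

theorem f2_eq (m : ℕ × ℕ) (k : ℕ × ℕ → ℕ) : f2 m k = k m := by rw [f2, fH_eq, fH_eq]

/-- the product of the numbers of candidates -/
def chain (B : List ℕ) : List (ℕ × ℕ) → ℕ :=
  List.rec (motive := fun _ => List (ℕ × ℕ) → ℕ) (fun _ => 1) (fun w _ ih ms => cnt ms w *
    f2 (msk (sv w)) fun m => f2 (msk (gI • sv w)) fun m' => ih (m :: m' :: ms)) B

theorem orbit1 {l : List ℕ} (hl : ∀ y ∈ A0, nm y ≤ 16 →
      y ∈ FD 4 ∨ ∃ a ∈ l, a ≠ 0 ∧ WF a ∧ y = sv a ∧ nm y = 16) {f : fourRu} (h : f • bx 0 = bx 0)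
    {w : ℕ} (hw : WF w ∧ zc w 0 = 1 ∧ nm (sv w) ≤ 16) {x : ruLattice} (hx : F x = sv w) :
    ∃ a ∈ l, WF a ∧ zc a 0 = 1 ∧ F (f • x) = sv a := by
  have h0 : F (f • x) 0 = 1 := by rw [coord0 h, hx, (zc_iff hw.1).2 hw.2.1]
  rcases hl _ (F_mem (f • x)) (by rw [nm_smul, hx]; exact hw.2.2) with h1 | ⟨a, h1, -, h2, h3, -⟩
  · have := mem_FD.1 h1 0
    rw [h0, mem_Dv] at this
    norm_num at this
  · exact ⟨a, h1, h2, (zc_iff h2).1 (h3 ▸ h0), h3⟩

theorem chain_spec {l : List ℕ} (hl : ∀ y ∈ A0, nm y ≤ 16 →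
      y ∈ FD 4 ∨ ∃ a ∈ l, a ≠ 0 ∧ WF a ∧ y = sv a ∧ nm y = 16)
    (hD : ∀ x ∈ l, zc x 0 = 1 → sel x = true → x ∈ DL) (B : List ℕ)
    (hB : ∀ w ∈ B, ((WF w ∧ zc w 0 = 1 ∧ nm (sv w) ≤ 16) ∧ sel w = true) ∧ ∃ x, F x = sv w) :
    ∀ (H : Subgroup fourRu) (ms : List (ℕ × ℕ)), (∀ f ∈ H, f • bx 0 = bx 0) → m2 ∈ ms → m2' ∈ ms →
      (∀ m ∈ ms, ∃ x, m = msk (F x) ∧ ∀ f ∈ H, f • x = x) →
      (∀ f ∈ H, (∀ w ∈ B, ∀ x, F x = sv w → f • x = x) → f = 1) → Bd H (chain B ms) := by
  induction B with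
  | nil =>
    intro H _ _ _ _ _ h
    obtain rfl : H = ⊥ := eq_bot_iff.2 fun f hf => h f hf (by simp)
    exact ⟨inferInstance, Subgroup.card_bot.le⟩
  | cons w B ih =>
    intro H ms h0 h1 h2 h3 h4
    obtain ⟨⟨hw, hs⟩, x, hx⟩ := hB w (by simp)
    have e : chain (w :: B) ms = cnt ms w * chain B (msk (sv w) :: msk (gI • sv w) :: ms) := by
      change _ * f2 _ (fun m => f2 _ fun m' => chain B (m :: m' :: ms)) = _
      rw [f2_eq, f2_eq]
    rw [e]
    refine Bd.step x ((card_image_le (f := sv)).trans (List.toFinset_card_le _)) (fun f hf => ?_)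
      (ih (fun u hu => hB u (by simp [hu])) _ _ (fun f hf => h0 f hf.1) (List.mem_cons_of_mem _
        (List.mem_cons_of_mem _ h1)) (List.mem_cons_of_mem _ (List.mem_cons_of_mem _ h2))
        (fun m hm => ?_) fun f hf h => h4 f hf.1 fun u hu y hy => ?_)
    · obtain ⟨a, ha, h5, h6, h7⟩ := orbit1 hl (h0 f hf) hw hx
      have h8 : ∀ m ∈ ms, ipc a m = ipc w m := fun m hm => by
        obtain ⟨z, rfl, hz⟩ := h3 m hm
        have := dot_smul f x z
        rw [hz f hf, h7, hx] at this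
        exact Nat.cast_injective (R := ℤ) (by rw [ipc_eq h5, ipc_eq hw.1, this])
      refine mem_image.2 ⟨a, List.mem_toFinset.2 (List.mem_filter.2 ⟨hD a ha h6 ?_, ?_⟩), h7.symm⟩
      · rwa [sel, h8 _ h1, h8 _ h2]
      · simpa using h8
    · simp only [List.mem_cons] at hm
      rcases hm with rfl | rfl | hm
      · exact ⟨x, by rw [hx], fun f hf => hf.2⟩
      · exact ⟨ruI x, by rw [F_I, hx], fun f hf => fix_I hf.2⟩
      · exact (h3 m hm).imp fun z hz => ⟨hz.1, fun f hf => hz.2 f hf.1⟩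
    · rcases List.mem_cons.1 hu with rfl | hu
      · rw [F_inj (hy.trans hx.symm)]
        exact hf.2
      · exact h u hu y hy

/-- the short vectors with one nonzero coordinate -/
def fours : Finset V := (univ ×ˢ ({⟨1, 0⟩, ⟨-1, 0⟩, ⟨0, 1⟩, ⟨0, -1⟩} : Finset GaussianInt)).image
  fun e => (Pi.single e.1 (4 * e.2) : V)

theorem four_mem {y : V} (hy : y ∈ FD 4) (hn : nm y = 16) : y ∈ fours := by
  obtain ⟨p, hp⟩ := Function.ne_iff.1 (show y ≠ 0 by rintro rfl; simp [nm] at hn)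
  obtain ⟨w, h1, h2⟩ := norm_four (mem_FD.1 hy p)
  have h3 := le_nm y p
  have h4 := GaussianInt.norm_pos.2 hp
  have h5 : w.norm = 1 := by omega
  rw [nm, ← add_sum_erase _ _ (mem_univ p), h2, h5] at hn
  have h6 := (sum_eq_zero_iff_of_nonneg fun q _ => GaussianInt.norm_nonneg (y q)).1
    (show ∑ q ∈ univ.erase p, (y q).norm = 0 by omega)
  refine mem_image.2 ⟨(p, w), mem_product.2 ⟨mem_univ _, ?_⟩, funext fun q => ?_⟩
  · obtain ⟨a, b⟩ := w
    simp only [Zsqrtd.norm_def] at h5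
    have : -1 ≤ a ∧ a ≤ 1 ∧ -1 ≤ b ∧ b ≤ 1 := by
      refine ⟨?_, ?_, ?_, ?_⟩ <;> nlinarith [mul_self_nonneg a, mul_self_nonneg b]
    obtain ⟨_, _, _, _⟩ := this
    interval_cases a <;> interval_cases b <;> simp at h5 ⊢
  · by_cases h : q = p
    · simp [h, h1]
    · simp [h, GaussianInt.norm_eq_zero.1 (h6 q (by simp [h]))]

theorem bound : Bd (⊤ : Subgroup fourRu) (16240 * (2304 * 15600)) := by
  obtain ⟨l, h1, h2, h3, h4, h5⟩ := short sum_part
  have hx : F (bx 1) = sv u2 := F_bx' 1 (by decide)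
  refine Bd.step (bx 0) (s := (l.toFinset.erase 0).image sv ∪ fours) ?_ (fun f _ => ?_)
    (Bd.step (bx 1) (s := (l.filter fun x => zc x 0 = 1).toFinset.image sv)
      (card_image_le.trans ((List.toFinset_card_le _).trans h3)) (fun f hf => ?_) ?_)
  rotate_left
  · have hn : nm (F (f • bx 0)) = 16 := by rw [nm_smul, F_bx0]; decide +kernel
    rcases h5 _ (F_mem (f • bx 0)) hn.le with h | ⟨a, h6, h7, -, h8, -⟩
    · exact mem_union_right _ (four_mem h hn)
    · exact mem_union_left _ (mem_image.2 ⟨a, by simp [h6, h7], h8.symm⟩)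
  · obtain ⟨a, h6, -, h7, h8⟩ := orbit1 h5 hf.2 (by decide +kernel) hx
    exact mem_image.2 ⟨a, by simp [h6, h7], h8.symm⟩
  · rw [show 15600 = chain BS [m2, m2'] by decide +kernel]
    have hb : ∀ w ∈ BS, ∃ j : Fin 28, j.1 ≠ 0 ∧ (u2 :: BS).getD (j - 1) 0 = w := by decide +kernel
    have hc : ∀ j : Fin 28, j = 0 ∨ j = 1 ∨ j.1 ≠ 0 ∧ (u2 :: BS).getD (j - 1) 0 ∈ BS := by
      decide +kernel
    refine chain_spec h5 h4 BS (fun w hw => ⟨(by decide +kernel : ∀ w ∈ BS,
      (WF w ∧ zc w 0 = 1 ∧ nm (sv w) ≤ 16) ∧ sel w = true) w hw, ?_⟩) _ _ (fun f hf => hf.1.2)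
      (by simp) (by simp) (fun m hm => ?_) fun f hf h => eq_one fun j => ?_
    · obtain ⟨j, h6, rfl⟩ := hb w hw
      exact ⟨_, F_bx' j h6⟩
    · simp only [List.mem_cons, List.not_mem_nil, or_false] at hm
      rcases hm with rfl | rfl
      · exact ⟨bx 1, by rw [hx]; decide +kernel, fun f hf => hf.2⟩
      · exact ⟨ruI (bx 1), by rw [F_I, hx]; decide +kernel, fun f hf => fix_I hf.2⟩
    · rcases hc j with rfl | rfl | ⟨h6, h7⟩
      exacts [hf.1.2, hf.2, h _ h7 _ (F_bx' j h6)]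
  · refine (card_union_le _ _).trans (Nat.add_le_add (b := 16128) (d := 112) ?_ ?_)
    · have := List.toFinset_card_le l
      refine card_image_le.trans ?_
      rw [card_erase_of_mem (List.mem_toFinset.2 h2)]
      omega
    · exact card_image_le.trans (by rw [card_product]; decide +kernel)

end

end CfsgRu
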