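/-
The Conway–Wales lattice: lifts of the generators of a simple group.
-/
import Cfsg.Agent.H2.Ru9
import Cfsg.Agent.H6.RuD0

set_option autoImplicit false
set_option maxRecDepth 100000

namespace CfsgRu

open CfsgH5 CfsgH6 CfsgH6.Ru Finset Cfsg.Spor Matrix MulAction

noncomputable section

/-- lifts of the generators -/
def lm (r : ℕ) : ℕ → ℕ → GaussianInt := en 10 28 (LM.getD r (0, 0)).1
/-- products with the Gram matrix -/
def lt (r : ℕ) : ℕ → ℕ → GaussianInt := en 4 28 (LM.getD r (0, 0)).2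

theorem chkL : ∀ r < 16, r ≠ 0 → mulChk 28 28 28 gr (lm r) (lt r) = true ∧
    mulChk 28 28 28 (ct (lm r)) (lt r) gr = true ∧ ∀ i < 28, ∀ j < 28,
      (dgt 1 (R r) (29 * j + i) : ℤ) = ((lm r i j).re + (lm r i j).im) % 2 := by decide +kernel

end

end CfsgRu
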