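/-
The Conway–Wales lattice: the automorphism group modulo its centre is simple.
-/
import Cfsg.Agent.H2.Ru10
import Cfsg.Agent.H2.Ru11
import Cfsg.Agent.H6.Ru

set_option autoImplicit false
set_option maxRecDepth 100000

namespace CfsgRu

open CfsgH5 CfsgH6 CfsgH6.Ru Finset Cfsg.Spor Matrix MulAction

noncomputable section

/-- reduction modulo `1 + i` -/
def rho : GaussianInt →+* ZMod 2 := Zsqrtd.lift ⟨1, by decide⟩

theorem rho_val (z : GaussianInt) : ((rho z).val : ℤ) = (z.re + z.im) % 2 := by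
  have : rho z = ((z.re + z.im : ℤ) : ZMod 2) := by simp [rho, Zsqrtd.lift_apply_apply]
  rw [this, ZMod.val_intCast]
  rfl

/-- the action modulo `1 + i` -/
def phi : fourRu →* (Matrix (Fin 28) (Fin 28) (ZMod 2))ˣ :=
  (rho.mapMatrix.toMonoidHom.comp psi).toHomUnits

theorem phi_val (f : fourRu) (i j : Fin 28) : (phi f).1 i j = rho (psi f i j) := rfl

theorem le_range : C.gen R 65534 ≤ phi.range := by
  refine (Subgroup.closure_le _).2 ?_
  rintro _ ⟨r, hr, rfl⟩
  have h1 : r < 16 := by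
    by_contra h
    rw [Nat.testBit_eq_false_of_lt (lt_of_lt_of_le (by norm_num)
      (Nat.pow_le_pow_right (by norm_num) (not_lt.1 h)))] at hr
    cases hr
  obtain ⟨h2, h3, h4⟩ := chkL r h1 (by rintro rfl; cases hr)
  obtain ⟨f, hf⟩ := psi_surj (M := mat (lm r)) (by rw [mat_mul h2, ← mat_ct, mat_mul h3])
  obtain ⟨g, -, hg⟩ := val3 r hr
  refine ⟨f, ?_⟩
  rw [← hg, GC.el_code]
  ext i j
  have h5 := dgt_mcode (W := 1) (m := 29) (by norm_num) (by norm_num) g.1 (i := i) (by omega) j
  rw [show mcode 1 29 g.1 = R r from hg, ent_fin] at h5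
  refine ZMod.val_injective _ (Nat.cast_injective (R := ℤ) ?_)
  rw [phi_val, rho_val, hf, ← h5, h4 i i.2 j j.2]
  rfl

theorem exists_i : ∃ c : fourRu, c ∈ Subgroup.center fourRu ∧ c ∈ phi.ker ∧ orderOf c = 4 := by
  have hi : star gI * gI = 1 := by decide
  obtain ⟨c, hc⟩ := psi_surj (M := gI • 1) (by simp [smul_smul, hi, mul_comm gI])
  refine ⟨c, Subgroup.mem_center_iff.2 fun g => psi_inj (by simp [hc]), ?_,
    orderOf_eq_prime_pow (p := 2) (n := 1) (fun h => ?_) (psi_inj ?_)⟩
  · rw [MonoidHom.mem_ker]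
    ext i j
    have : rho gI = 1 := by simp [rho, gI, Zsqrtd.lift_apply_apply]
    rw [phi_val, hc]
    simp [one_apply, this, apply_ite rho]
  · have := congrFun (congrFun (congrArg psi h) 0) 0
    rw [map_pow, hc, smul_pow, one_pow, map_one] at this
    simp only [Matrix.smul_apply, one_apply_eq, smul_eq_mul] at this
    exact absurd this (by decide)
  · rw [map_pow, hc, smul_pow, one_pow, map_one, show gI ^ 2 ^ (1 + 1) = 1 by decide, one_smul]

theorem quot_center {Γ Δ : Type} [Group Γ] [Group Δ] [Finite Γ] (φ : Γ →* Δ) {G : Subgroup Δ}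
    (hG : G ≤ φ.range) (hs : IsSimpleGroup G) {n : ℕ} (hc : Nat.card G = n) (hp : ¬ n.Prime)
    (h2 : Nat.card Γ ≤ 4 * n) {c : Γ} (h3 : c ∈ Subgroup.center Γ) (h4 : c ∈ φ.ker)
    (h5 : orderOf c = 4) : Nat.card (Subgroup.center Γ) = 4 ∧
      Nat.card (Γ ⧸ Subgroup.center Γ) = n ∧ IsSimpleGroup (Γ ⧸ Subgroup.center Γ) := by
  rw [← Subgroup.card_mul_index φ.ker, Subgroup.index_ker] at h2
  have : Finite φ.range := Finite.of_surjective _ φ.rangeRestrict_surjective
  have h6 : 4 ≤ Nat.card φ.ker := Nat.le_of_dvd Nat.card_pos (by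
    rw [← h5, ← Nat.card_zpowers]
    exact Subgroup.card_dvd_of_le (Subgroup.zpowers_le.2 h4))
  obtain rfl : G = φ.range := Subgroup.eq_of_le_of_card_ge hG (by rw [hc]; nlinarith)
  rw [← hc] at h2
  have h9 : φ.ker = Subgroup.zpowers c :=
    (Subgroup.eq_of_le_of_card_ge (Subgroup.zpowers_le.2 h4) (by
      rw [Nat.card_zpowers, h5]
      exact Nat.le_of_mul_le_mul_right h2 Nat.card_pos)).symm
  have hz : Subgroup.center Γ = φ.ker := by
    refine le_antisymm (fun z hz => ?_) (h9 ▸ Subgroup.zpowers_le.2 h3)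
    rcases hs.eq_bot_or_eq_top_of_normal (Subgroup.center φ.range) inferInstance with h | h
    · have : φ.rangeRestrict z ∈ Subgroup.center φ.range := Subgroup.mem_center_iff.2 fun g => by
        obtain ⟨g, rfl⟩ := φ.rangeRestrict_surjective g
        rw [← map_mul, ← map_mul, Subgroup.mem_center_iff.1 hz]
      rw [h, Subgroup.mem_bot] at this
      exact congrArg Subtype.val this
    · let _ := Group.commGroupOfCenterEqTop h
      exact absurd (hc ▸ IsSimpleGroup.prime_card (α := φ.range)) hp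
  have e : Γ ⧸ Subgroup.center Γ ≃* φ.range :=
    (QuotientGroup.quotientMulEquivOfEq hz).trans (QuotientGroup.quotientKerEquivRange φ)
  exact ⟨by rw [hz, h9, Nat.card_zpowers, h5], (Nat.card_congr e.toEquiv).trans hc,
    e.isSimpleGroup⟩

theorem main : Nat.card (Subgroup.center fourRu) = 4 ∧ Nat.card Ru = 145926144000 ∧
    IsSimpleGroup Ru := by
  obtain ⟨h1, h2⟩ := bound
  have : Finite fourRu := Finite.of_equiv _ Subgroup.topEquiv.toEquiv
  obtain ⟨c, h3, h4, h5⟩ := exists_i
  exact quot_center phi le_range simple cardG (by norm_num) (Subgroup.card_top.symm.trans_le h2) h3 h4 h5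

end

end CfsgRu
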