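/-
The Conway–Wales lattice: elimination and levels of the search.
-/
import Cfsg.Agent.H2.Ru1

set_option autoImplicit false

namespace CfsgRu

open CfsgH5 CfsgH6 Finset

/-- strict evaluation of a list -/
def forceL {β : Type} (l : List ℕ) : (List ℕ → β) → β :=
  List.rec (motive := fun _ => (List ℕ → β) → β) (fun k => k [])
    (fun a _ ih k => fH a fun a' => ih fun l' => k (a' :: l')) l

theorem forceL_eq {β : Type} (l : List ℕ) (k : List ℕ → β) : forceL l k = k l := by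
  induction l generalizing k with
  | nil => rfl
  | cons a l ih =>
    change fH a (fun a' => forceL l fun l' => k (a' :: l')) = _
    rw [fH_eq, ih]

/-- a bit attached to a coordinate -/
def dg1 (D v s : ℕ) : Bool := Nat.beq (Nat.land (Nat.shiftRight D (zc v s)) 1) 1

/-- correctness of a table of digits -/
def DOk (k D : ℕ) : Prop := ∀ a < 4, ∀ b < 4, (Nat.land (Nat.shiftRight D (a + 256 * b)) 1 = 1 ↔
  ¬ (2 ^ (k / 2) ∣ a ∧ 2 ^ ((k + 1) / 2) ∣ a + b))

theorem dg1_iff {k D v : ℕ} (hD : DOk k D) (hv : WF v) (p : Fin 28) :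
    dg1 D v (16 * p) = true ↔ vec v p ∉ Dv k := by
  rw [dg1, beq_true_iff, zc_eq, hD _ (Nat.lt_succ_of_le (hv.le _)) _ (Nat.lt_succ_of_le (hv.le _)),
    mem_Dv]
  simp only [vec]
  norm_cast

/-- conditional addition -/
def cadd (D s w v : ℕ) : ℕ := bif' (dg1 D v s) (addc v w) v

theorem wf_cadd {D s w v : ℕ} (hv : WF v) : WF (cadd D s w v) := by
  rw [cadd, bif'_eq]
  split_ifs
  exacts [wf_addc _ _, hv]

theorem cadd_mem {D s w v : ℕ} (hv : WF v) (hw : WF w) {C : AddSubgroup V} (hC : FD 4 ≤ C)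
    (h : vec w ∈ C) : vec (cadd D s w v) ∈ C ↔ vec v ∈ C := by
  rw [cadd, bif'_eq]
  split_ifs
  · have := hC (vec_addc hv hw)
    constructor
    · intro h1
      convert C.sub_mem (C.add_mem this h1) h using 1
      abel
    · intro h1
      convert C.sub_mem (C.add_mem h1 h) this using 1
      abel
  · rfl

/-- choice of a pivot -/
def pick (D s : ℕ) (g : List ℕ) : (ℕ → List ℕ → ℕ) → ℕ :=
  List.rec (motive := fun _ => (ℕ → List ℕ → ℕ) → ℕ) (fun k => k 0 [])
    (fun v r ih k => bif' (dg1 D v s) (forceL (r.map (cadd D s v)) (k v))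
      (ih fun w r' => k w (v :: r'))) g

theorem pick_spec {k D : ℕ} (hk : k < 4) (hD : DOk (k + 1) D) (p : Fin 28) (g : List ℕ)
    (hg : ∀ v ∈ g, WF v ∧ vec v p ∈ Dv k) : ∃ w r, (∀ K, pick D (16 * p) g K = K w r) ∧ WF w ∧
      (∀ v ∈ r, WF v ∧ vec v p ∈ Dv (k + 1)) ∧ ∀ C : AddSubgroup V, FD 4 ≤ C →
        ((∀ v ∈ g, vec v ∈ C) ↔ vec w ∈ C ∧ ∀ v ∈ r, vec v ∈ C) := by
  induction g with
  | nil => exact ⟨0, [], fun _ => rfl, wf_zero, by simp, fun C _ => by simp [vec_zero]⟩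
  | cons v g ih =>
    have hv := hg v (by simp)
    have hg' : ∀ v ∈ g, WF v ∧ vec v p ∈ Dv k := fun u hu => hg u (by simp [hu])
    have e : ∀ K, pick D (16 * p) (v :: g) K = if dg1 D v (16 * p) = true then
        K v (g.map (cadd D (16 * p) v)) else pick D (16 * p) g fun w r' => K w (v :: r') :=
      fun K => by
        change bif' _ (forceL _ _) _ = _
        rw [bif'_eq, forceL_eq]
        rfl
    by_cases h : dg1 D v (16 * p) = true
    · refine ⟨v, _, fun K => by rw [e, if_pos h], hv.1, fun u' hu' => ?_, fun C hC => ?_⟩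
      · obtain ⟨u, hu, rfl⟩ := List.mem_map.1 hu'
        refine ⟨wf_cadd (hg' u hu).1, ?_⟩
        rw [cadd, bif'_eq]
        split_ifs with h1
        · have h2 := Dv_add hk (hg' u hu).2 hv.2 ((dg1_iff hD (hg' u hu).1 p).1 h1)
            ((dg1_iff hD hv.1 p).1 h)
          have h3 := Dv_mono (show k + 1 ≤ 4 by omega) (mem_FD.1 (vec_addc (hg' u hu).1 hv.1) p)
          simpa using (Dv (k + 1)).sub_mem h2 h3
        · rwa [dg1_iff hD (hg' u hu).1 p, not_not] at h1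
      · simp only [List.mem_cons, forall_eq_or_imp, List.forall_mem_map]
        exact and_congr_right fun h1 => forall₂_congr fun u hu =>
          (cadd_mem (hg' u hu).1 hv.1 hC h1).symm
    · obtain ⟨w, r, h1, h2, h3, h4⟩ := ih hg'
      refine ⟨w, v :: r, fun K => by rw [e, if_neg h, h1], h2, fun u hu => ?_, fun C hC => ?_⟩
      · rcases List.mem_cons.1 hu with rfl | hu
        · exact ⟨hv.1, by rwa [dg1_iff hD hv.1 p, not_not] at h⟩
        · exact h3 u hu
      · simp only [List.mem_cons, forall_eq_or_imp, h4 C hC]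
        tauto

/-- elimination in a given order -/
def elim (D : ℕ) (o : List ℕ) : List ℕ → (List (ℕ × ℕ) → ℕ) → ℕ :=
  List.rec (motive := fun _ => List ℕ → (List (ℕ × ℕ) → ℕ) → ℕ)
    (fun g k => List.rec (motive := fun _ => ℕ) (k []) (fun _ _ _ => BIG) g)
    (fun s _ ih g k => pick D s g fun w r => ih r fun E => k ((s, w) :: E)) o

/-- the group spanned by codes over `B` -/
def sp (g : List ℕ) (B : AddSubgroup V) : AddSubgroup V :=
  AddSubgroup.closure (vec '' {v | v ∈ g}) ⊔ B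

theorem sp_le {g : List ℕ} {B C : AddSubgroup V} : sp g B ≤ C ↔ (∀ v ∈ g, vec v ∈ C) ∧ B ≤ C := by
  simp [sp, Set.subset_def]

theorem le_sp (g : List ℕ) (B : AddSubgroup V) : B ≤ sp g B := le_sup_right

theorem mem_sp {g : List ℕ} (B : AddSubgroup V) {v : ℕ} (h : v ∈ g) : vec v ∈ sp g B :=
  (sp_le.1 le_rfl).1 v h

theorem dich {A : AddSubgroup V} {w : V} (h : w + w ∈ A) {y : V}
    (hy : y ∈ A ⊔ AddSubgroup.zmultiples w) : y ∈ A ∨ y - w ∈ A := by
  obtain ⟨a, ha, _, ⟨n, rfl⟩, rfl⟩ := AddSubgroup.mem_sup.1 hy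
  rcases Int.even_or_odd' n with ⟨m, rfl | rfl⟩
  · left
    convert A.add_mem ha (A.zsmul_mem h m) using 1
    simp only
    module
  · right
    convert A.add_mem ha (A.zsmul_mem h m) using 1
    simp only
    module

/-- admissible generators -/
def Adm (k : ℕ) (B : AddSubgroup V) : AddSubgroup V :=
  FD k ⊓ B.comap (AddMonoidHom.id V + AddMonoidHom.id V)

theorem FD_mono {k l : ℕ} (h : k ≤ l) : FD l ≤ FD k := fun _ hy =>
  mem_FD.2 fun p => Dv_mono h (mem_FD.1 hy p)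

theorem elim_spec {k D : ℕ} (hk : k < 4) (hD : DOk (k + 1) D) {B : AddSubgroup V}
    (hB : B ≤ FD (k + 1)) (hB' : FD 4 ≤ B) (o : List ℕ) (ho : ∀ s ∈ o, ∃ p : Fin 28, s = 16 * p) :
    ∀ g : List ℕ, (∀ v ∈ g, WF v ∧ vec v ∈ Adm k B) → (∀ K, elim D o g K = BIG) ∨
      ∃ E, (∀ K, elim D o g K = K E) ∧ E.map Prod.fst = o ∧ Val k B E (sp g B) := by
  induction o with
  | nil =>
    rintro (_ | ⟨v, g⟩) _
    · exact Or.inr ⟨[], fun _ => rfl, rfl, sp_le.2 ⟨by simp, le_rfl⟩⟩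
    · exact Or.inl fun _ => rfl
  | cons s o ih =>
    intro g hg
    obtain ⟨p, rfl⟩ := ho s (by simp)
    obtain ⟨w, r, h1, h2, h3, h4⟩ := pick_spec hk hD p g fun v hv =>
      ⟨(hg v hv).1, mem_FD.1 (hg v hv).2.1 p⟩
    have e : ∀ K, elim D (16 * p :: o) g K = elim D o r fun E => K ((16 * p, w) :: E) :=
      fun K => h1 _
    have h5 := (h4 (Adm k B) (le_inf (FD_mono hk.le) fun y hy => B.add_mem (hB' hy) (hB' hy))).1
      fun v hv => (hg v hv).2
    rcases ih (fun s hs => ho s (by simp [hs])) r fun v hv => ⟨(h3 v hv).1, h5.2 v hv⟩ with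
      h | ⟨E, h6, h7, h8⟩
    · exact Or.inl fun K => by rw [e, h]
    refine Or.inr ⟨(16 * p, w) :: E, fun K => by rw [e, h6], by simp [h7], p, rfl, h2, sp r B,
      fun y hy => dich (le_sp _ _ h5.1.2) ?_, fun y hy => ?_, hB'.trans (le_sp _ _), h8⟩
    · refine sp_le.2 ⟨(h4 _ (hB'.trans ((le_sp _ _).trans le_sup_left))).2
        ⟨AddSubgroup.mem_sup_right (AddSubgroup.mem_zmultiples _),
        fun v hv => AddSubgroup.mem_sup_left (mem_sp B hv)⟩, (le_sp _ _).trans le_sup_left⟩ hy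
    · exact (sp_le (C := (Dv (k + 1)).comap (Pi.evalAddMonoidHom _ p))).2
        ⟨fun v hv => (h3 v hv).2, fun y hy => mem_FD.1 (hB hy) p⟩ hy

/-- the positions -/
def POS : List ℕ := [0, 16, 32, 48, 64, 80, 96, 112, 128, 144, 160, 176, 192, 208, 224, 240, 256,
  272, 288, 304, 320, 336, 352, 368, 384, 400, 416, 432]

theorem POS_eq : POS = (List.finRange 28).map fun p => 16 * p.1 := by decide +kernel

theorem mem_POS {s : ℕ} (h : s ∈ POS) : ∃ p : Fin 28, s = 16 * p := by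
  rw [POS_eq] at h
  obtain ⟨p, -, rfl⟩ := List.mem_map.1 h
  exact ⟨p, rfl⟩

theorem sum_POS {k : ℕ} (hk : k < 4) (y : V) :
    Phi k y + (POS.map (inc k y)).sum = Phi (k + 1) y := by
  rw [POS_eq, List.map_map, ← Fin.sum_univ_def, Phi, ← sum_add_distrib]
  refine sum_congr rfl fun p _ => ?_
  have e : 16 * p.1 / 16 = p := by omega
  rw [Function.comp, inc, dif_pos (e.symm ▸ p.2), show (⟨16 * p.1 / 16, e.symm ▸ p.2⟩ : Fin 28) = p
    from Fin.ext e, Nat.add_sub_cancel' (mn_mono hk _)]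

theorem fixed_spec {f : ℕ → ℕ} {k T : ℕ} (hk : k < 4) (hT : TOk k T) {A B : AddSubgroup V}
    {next : ℕ → ℕ → ℕ} (hn : Spec f (k + 1) B next) {E : List (ℕ × ℕ)}
    (hE : (E.map Prod.fst).Perm POS) (hV : Val k B E A) : Spec f k A (go T next E) :=
  fun x c hx => (go_spec hk hT hn E A hV x c hx).mono fun y hy _ => ⟨hy.1, by
    rw [(hE.map _).sum_eq, ← sum_POS hk]
    exact Nat.add_le_add_right hy.2 _⟩

/-- costly positions first -/
def ord (C x : ℕ) : List ℕ := POS.filter (dg1 C x) ++ POS.filter fun s => !dg1 C x s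

/-- a level with adapted elimination -/
def lev (T D C : ℕ) (G : List ℕ) (next : ℕ → ℕ → ℕ) (x c : ℕ) : ℕ :=
  forceL (ord C x) fun o => elim D o G fun E => go T next E x c

theorem lev_spec {f : ℕ → ℕ} {k T D : ℕ} (C : ℕ) (hk : k < 4) (hT : TOk k T) (hD : DOk (k + 1) D)
    {B : AddSubgroup V} (hB : B ≤ FD (k + 1)) (hB' : FD 4 ≤ B) {next : ℕ → ℕ → ℕ}
    (hn : Spec f (k + 1) B next) {G : List ℕ} (hG : ∀ v ∈ G, WF v ∧ vec v ∈ Adm k B) :
    Spec f k (sp G B) (lev T D C G next) := fun x c hx => by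
  have hp : (ord C x).Perm POS := List.filter_append_perm _ _
  rw [lev, forceL_eq]
  rcases elim_spec hk hD hB hB' (ord C x) (fun s hs => mem_POS (hp.subset hs)) G hG with
    h | ⟨E, h1, h2, h3⟩
  · rw [h]
    exact fun h => absurd h (lt_irrefl _)
  · rw [h1]
    exact fixed_spec hk hT hn (h2 ▸ hp) h3 x c hx

theorem val_of {k D : ℕ} (hk : k < 4) (hD : DOk (k + 1) D) {B : AddSubgroup V}
    (hB : B ≤ FD (k + 1)) (hB' : FD 4 ≤ B) {G : List ℕ} (hG : ∀ v ∈ G, WF v ∧ vec v ∈ Adm k B)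
    {E : List (ℕ × ℕ)} (h : elim D POS G (fun E' => if E' = E then 0 else 1) = 0) :
    (E.map Prod.fst).Perm POS ∧ Val k B E (sp G B) := by
  rcases elim_spec hk hD hB hB' POS (fun s => mem_POS) G hG with h1 | ⟨E', h1, h2, h3⟩
  · rw [h1] at h
    exact absurd h (by decide)
  · rw [h1] at h
    obtain rfl : E' = E := by simpa using h
    exact ⟨h2 ▸ List.Perm.refl _, h3⟩

theorem leaf_spec (f : ℕ → ℕ) : Spec f 4 (FD 4) fun x _ => f x := fun x _ hx _ =>
  ⟨[x], by simp, fun _ hy _ => ⟨x, by simp, hx, hy.1⟩⟩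

/-- reduction along a sequence -/
def rd (D : ℕ) (E : List (ℕ × ℕ)) : ℕ → ℕ :=
  List.rec (motive := fun _ => ℕ → ℕ) (fun x => x) (fun e _ ih x => fH (cadd D e.1 e.2 x) ih) E

theorem rd_spec {D : ℕ} {E : List (ℕ × ℕ)} {C : AddSubgroup V} (hC : FD 4 ≤ C)
    (hE : ∀ e ∈ E, WF e.2 ∧ vec e.2 ∈ C) : ∀ x, WF x →
      WF (rd D E x) ∧ (vec (rd D E x) ∈ C ↔ vec x ∈ C) := by
  induction E with
  | nil => exact fun x hx => ⟨hx, Iff.rfl⟩
  | cons e E ih =>
    intro x hx
    have e1 : rd D (e :: E) x = rd D E (cadd D e.1 e.2 x) := fH_eq _ _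
    have h := ih (fun e he => hE e (by simp [he])) _ (wf_cadd (D := D) (s := e.1) (w := e.2) hx)
    rw [e1]
    exact ⟨h.1, h.2.trans (cadd_mem hx (hE e (by simp)).1 hC (hE e (by simp)).2)⟩

/-- the nonzero vectors of a sequence -/
def gens (E : List (ℕ × ℕ)) : List ℕ := (E.map Prod.snd).filter fun w => !Nat.beq w 0

theorem mem_gens {E : List (ℕ × ℕ)} (B : AddSubgroup V) {e : ℕ × ℕ} (he : e ∈ E) :
    vec e.2 ∈ sp (gens E) B := by
  by_cases h : e.2 = 0
  · rw [h, vec_zero]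
    exact zero_mem _
  · refine mem_sp B (List.mem_filter.2 ⟨List.mem_map.2 ⟨e, he, rfl⟩, ?_⟩)
    simpa [← Bool.not_eq_true, beq_true_iff] using h

theorem mem_FD_of {k D v : ℕ} (hD : DOk k D) (hv : WF v) (h : ∀ s ∈ POS, dg1 D v s = false) :
    vec v ∈ FD k := mem_FD.2 fun p => by
  have := h (16 * p) (POS_eq ▸ List.mem_map.2 ⟨p, List.mem_finRange p, rfl⟩)
  rwa [← Bool.not_eq_true, dg1_iff hD hv, not_not] at this

end CfsgRu
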