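/-
The Conway–Wales lattice: leaves of the search, inner products modulo `3`.
-/
import Cfsg.Agent.H2.Ru2

set_option autoImplicit false

namespace CfsgRu

open CfsgH5 CfsgH6 Finset

noncomputable section

theorem evd_modEq {m : ℕ} (h : 2 ^ 8 ≡ 1 [MOD m]) (n : ℕ) (f : ℕ → ℕ) :
    evd 8 n f ≡ ∑ k ∈ range n, f k [MOD m] := by
  refine Nat.ModEq.sum fun k _ => ?_
  have := (h.pow k).mul_left (f k)
  rwa [one_pow, mul_one, ← pow_mul] at this

theorem sum56 {M : Type*} [AddCommMonoid M] (g : ℕ → M) :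
    ∑ q ∈ range 56, g q = ∑ p : Fin 28, (g (2 * p) + g (2 * p + 1)) := by
  have : ∀ n, ∑ q ∈ range (2 * n), g q = ∑ p ∈ range n, (g (2 * p) + g (2 * p + 1)) := fun n => by
    induction n with
    | zero => simp
    | succ n ih => rw [Nat.mul_succ, sum_range_succ, sum_range_succ, ih, sum_range_succ, add_assoc]
  rw [this 28, Fin.sum_univ_eq_sum_range fun p => g (2 * p) + g (2 * p + 1)]

/-- signed value of a digit -/
def sg (d : ℕ) : ℤ := if 2 ≤ d then (d : ℤ) - 4 else d

/-- the short vector of a code -/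
def sv (x : ℕ) : V := fun p => ⟨sg (dgt 8 x (2 * p)), sg (dgt 8 x (2 * p + 1))⟩

/-- all digits one -/
def ONES : ℕ := 0x0101010101010101010101010101010101010101010101010101010101010101010101010101010101010101010101010101010101010101

theorem ONES_eq : ONES = evd 8 56 fun _ => 1 := by decide +kernel

theorem land_evd (x : ℕ) {f : ℕ → ℕ} (hf : ∀ k, f k < 256) :
    Nat.land x (evd 8 56 f) = evd 8 56 fun q => dgt 8 x q &&& f q :=
  eq_evd (by norm_num) (fun k _ => lt_of_le_of_lt Nat.and_le_right (hf k)) fun k => by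
    rw [Nat.land_eq, dgt_land, dgt_evd fun k _ => hf k]
    split_ifs <;> simp

theorem sq_eq {r : ℤ} {d : ℕ} (hd : d ≤ 3) (h : 4 ∣ r - d) :
    ((d % 2 : ℕ) : ℤ) ≤ r * r ∧ (r * r = (d % 2 : ℕ) → r = sg d) := by
  obtain ⟨t, ht⟩ := h
  obtain rfl : r = 4 * t + d := by linarith
  rcases lt_trichotomy t 0 with h | rfl | h
  · rcases eq_or_lt_of_le (show t ≤ -1 by omega) with rfl | h
    · interval_cases d <;> simp [sg]
    · interval_cases d <;> simp <;> constructor <;> (try intro h1) <;> nlinarith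
  · interval_cases d <;> simp [sg]
  · interval_cases d <;> simp <;> constructor <;> (try intro h1) <;> nlinarith

theorem sv_eq {a : ℕ} (ha : WF a) {y : V} (hy : y - vec a ∈ FD 4) (hn : nm y ≤ 16)
    (hc : Nat.mod (Nat.land a ONES) 255 = 16) : y = sv a ∧ nm y = 16 := by
  have h1 : ∑ q ∈ range 56, dgt 8 a q % 2 = 16 := by
    rw [ONES_eq, land_evd _ fun _ => by norm_num] at hc
    have h2 := evd_modEq (m := 255) rfl 56 fun q => dgt 8 a q &&& 1
    simp only [Nat.and_one_is_mod] at h2 hc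
    have h3 : ∑ q ∈ range 56, dgt 8 a q % 2 ≤ ∑ q ∈ range 56, 1 := sum_le_sum fun q _ => by omega
    rw [sum_const, card_range] at h3
    generalize evd 8 56 _ = z at h2 hc
    change z % 255 = 16 at hc
    rw [h2, Nat.mod_eq_of_lt (by simp at h3; omega)] at hc
    exact hc
  have hd : ∀ p : Fin 28, 4 ∣ (y p).re - dgt 8 a (2 * p) ∧ 4 ∣ (y p).im - dgt 8 a (2 * p + 1) :=
    fun p => by
      have := mem_FD.1 hy p
      simp only [mem_Dv, vec, Pi.sub_apply, Zsqrtd.re_sub, Zsqrtd.im_sub] at this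
      norm_num at this
      omega
  have h4 := fun p : Fin 28 => sq_eq (ha.le _) (hd p).1
  have h5 := fun p : Fin 28 => sq_eq (ha.le _) (hd p).2
  have h6 : ∀ p : Fin 28, ((dgt 8 a (2 * p) % 2 + dgt 8 a (2 * p + 1) % 2 : ℕ) : ℤ) ≤ (y p).norm :=
    fun p => by
      rw [Zsqrtd.norm_def, Nat.cast_add]
      linarith [(h4 p).1, (h5 p).1]
  rw [sum56] at h1
  have h7 := (sum_eq_sum_iff_of_le fun p _ => h6 p).1 (le_antisymm (sum_le_sum fun p _ => h6 p) (by
    rw [← Nat.cast_sum, h1]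
    exact hn))
  refine ⟨funext fun p => ?_, by rw [nm, ← sum_congr rfl h7, ← Nat.cast_sum, h1]; rfl⟩
  have h8 := h7 p (mem_univ _)
  rw [Zsqrtd.norm_def, Nat.cast_add] at h8
  exact Zsqrtd.ext ((h4 p).2 (by linarith [(h4 p).1, (h5 p).1]))
    ((h5 p).2 (by linarith [(h4 p).1, (h5 p).1]))

/-- real coordinates -/
def rc (w : V) (q : ℕ) : ℤ :=
  if h : q / 2 < 28 then (if q % 2 = 0 then (w ⟨_, h⟩).re else (w ⟨_, h⟩).im) else 0

theorem rc_even (w : V) (p : Fin 28) : rc w (2 * p) = (w p).re := by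
  have e : 2 * p.1 / 2 = p := by omega
  rw [rc, dif_pos (e.symm ▸ p.2), if_pos (by omega)]
  exact congrArg (fun p => (w p).re) (Fin.ext e)

theorem rc_odd (w : V) (p : Fin 28) : rc w (2 * p + 1) = (w p).im := by
  have e : (2 * p.1 + 1) / 2 = p := by omega
  rw [rc, dif_pos (e.symm ▸ p.2), if_neg (by omega)]
  exact congrArg (fun p => (w p).im) (Fin.ext e)

/-- the real inner product -/
def dot (x y : V) : ℤ := ∑ p, ((x p).re * (y p).re + (x p).im * (y p).im)

/-- masks for an inner product modulo `3` -/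
def msk (w : V) : ℕ × ℕ :=
  (evd 8 56 fun q => (rc w q % 3).toNat, evd 8 56 fun q => (2 * rc w q % 3).toNat)

/-- inner product modulo `3` -/
def ipc (x : ℕ) (m : ℕ × ℕ) : ℕ := Nat.mod (Nat.add (Nat.land x m.1) (Nat.mul 2 (Nat.land x m.2))) 3

theorem ipc_eq {x : ℕ} (hx : WF x) (w : V) : (ipc x (msk w) : ℤ) = dot (sv x) w % 3 := by
  have key : ∀ d < 4, ∀ r : ℤ, (((d &&& (r % 3).toNat) + 2 * (d &&& (2 * r % 3).toNat) : ℕ) : ℤ) ≡
      sg d * r [ZMOD 3] := fun d hd r => by
    obtain ⟨t, e, he, rfl⟩ : ∃ (t : ℤ) (e : ℕ), e < 3 ∧ r = 3 * t + e :=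
      ⟨r / 3, (r % 3).toNat, by omega, by omega⟩
    rw [show (3 * t + e) % 3 = e by omega, show 2 * (3 * t + e) % 3 = (2 * e % 3 : ℕ) by omega,
      Int.toNat_natCast, Int.toNat_natCast]
    interval_cases d <;> interval_cases e <;> simp [sg, Int.ModEq] <;> omega
  have h1 := ((evd_modEq (m := 3) rfl 56 fun q => dgt 8 x q &&& (rc w q % 3).toNat).add
    ((evd_modEq (m := 3) rfl 56 fun q => dgt 8 x q &&& (2 * rc w q % 3).toNat).mul_left 2))
  rw [mul_sum, ← sum_add_distrib] at h1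
  have h2 : ipc x (msk w) = (∑ q ∈ range 56, ((dgt 8 x q &&& (rc w q % 3).toNat) +
      2 * (dgt 8 x q &&& (2 * rc w q % 3).toNat))) % 3 := by
    rw [ipc, msk, land_evd _ fun _ => by omega, land_evd _ fun _ => by omega]
    exact h1
  rw [h2, Int.natCast_mod, Nat.cast_sum]
  refine (Int.ModEq.sum (g := fun q => sg (dgt 8 x q) * rc w q)
    fun q _ => key _ (Nat.lt_succ_of_le (hx.le q)) _).trans ?_
  rw [sum56]
  simp only [rc_even, rc_odd]
  rfl

/-- membership in a list -/
def memL (d : List ℕ) (x : ℕ) : Bool :=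
  List.rec (motive := fun _ => Bool) false (fun a _ ih => bor (Nat.beq a x) ih) d

theorem memL_iff {d : List ℕ} {x : ℕ} : memL d x = true ↔ x ∈ d := by
  induction d with
  | nil => simp [memL]
  | cons a d ih =>
    change bor (Nat.beq a x) (memL d x) = true ↔ _
    rw [bor_eq, Bool.or_eq_true, ih, beq_true_iff, List.mem_cons, eq_comm]

/-- the value of a leaf -/
def leafv (sel : ℕ → Bool) (d : List ℕ) (x : ℕ) : ℕ :=
  Nat.add (Nat.add 0x100000 (bif' (Nat.beq (zc x 0) 1) 1 0)) (Nat.mul 0x10000000000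
    (bif' (band (bor (Nat.beq x 0) (Nat.beq (Nat.mod (Nat.land x ONES) 255) 16))
      (bimp (band (Nat.beq (zc x 0) 1) (sel x)) (memL d x))) 0 1))

theorem leaf_sum {sel : ℕ → Bool} {d l : List ℕ} {n m : ℕ} (hn : n < 0x100000) (hm : m < 0x100000)
    (h : (l.map (leafv sel d)).sum = 0x100000 * n + m) : l.length ≤ n ∧
      (l.filter fun x => zc x 0 = 1).length ≤ m ∧ ∀ x ∈ l,
        (x = 0 ∨ Nat.mod (Nat.land x ONES) 255 = 16) ∧ (zc x 0 = 1 → sel x = true → x ∈ d) := by
  have key : ∃ b, (l.map (leafv sel d)).sum = 0x100000 * l.length +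
      (l.filter fun x => zc x 0 = 1).length + 0x10000000000 * b ∧ (b = 0 → ∀ x ∈ l,
        (x = 0 ∨ Nat.mod (Nat.land x ONES) 255 = 16) ∧ (zc x 0 = 1 → sel x = true → x ∈ d)) := by
    clear h
    induction l with
    | nil => exact ⟨0, rfl, by simp⟩
    | cons a l ih =>
      obtain ⟨b, h1, h2⟩ := ih
      refine ⟨b + bif' (band (bor (Nat.beq a 0) (Nat.beq (Nat.mod (Nat.land a ONES) 255) 16))
        (bimp (band (Nat.beq (zc a 0) 1) (sel a)) (memL d a))) 0 1, ?_, fun hb => ?_⟩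
      · rw [List.map_cons, List.sum_cons, h1, leafv, List.filter_cons]
        simp only [Nat.add_eq, Nat.mul_eq, bif'_eq (Nat.beq _ 1), beq_true_iff, decide_eq_true_eq]
        split_ifs <;> simp only [List.length_cons] <;> ring
      · rw [Nat.add_eq_zero_iff, bif'_eq] at hb
        simp only [List.mem_cons, forall_eq_or_imp]
        refine ⟨?_, h2 hb.1⟩
        have h3 := hb.2
        split_ifs at h3 with h4
        simp only [band_eq, bor_eq, bimp_eq, Bool.and_eq_true, Bool.or_eq_true, beq_true_iff,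
          memL_iff, Bool.not_eq_true', Bool.and_eq_false_iff] at h4
        refine ⟨h4.1, fun h5 h6 => h4.2.resolve_left ?_⟩
        simp [h5, h6]
  obtain ⟨b, h1, h2⟩ := key
  have := List.length_filter_le (fun x => decide (zc x 0 = 1)) l
  exact ⟨by omega, by omega, h2 (by omega)⟩

end

end CfsgRu
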