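/-
The Conway–Wales lattice: checking matrix products.
-/
import Cfsg.Agent.H2.Ru3

set_option autoImplicit false

namespace CfsgRu

open CfsgH5 CfsgH6 Finset

noncomputable section

/-- entry of a coded matrix with `n` rows -/
def en (W n a i j : ℕ) : GaussianInt :=
  ⟨(dgt W a (2 * (n * j + i)) : ℤ) - 2 ^ (W - 1), (dgt W a (2 * (n * j + i) + 1) : ℤ) - 2 ^ (W - 1)⟩

/-- small entries -/
def sm (n m : ℕ) (f : ℕ → ℕ → GaussianInt) : Bool :=
  allLt n fun i => allLt m fun j => decide (|(f i j).re| ≤ 2 ^ 24 ∧ |(f i j).im| ≤ 2 ^ 24)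

theorem sm_iff {n m : ℕ} {f : ℕ → ℕ → GaussianInt} : sm n m f = true ↔
    ∀ i < n, ∀ j < m, |(f i j).re| ≤ 2 ^ 24 ∧ |(f i j).im| ≤ 2 ^ 24 := by
  simp only [sm, allLt_iff, decide_eq_true_eq]

/-- strict evaluation of an integer -/
def fI {α : Type} (x : ℤ) (k : ℤ → α) : α :=
  Int.rec (motive := fun _ => α) (fun n => fH n fun n => k (Int.ofNat n))
    (fun n => fH n fun n => k (Int.negSucc n)) x

theorem fI_eq {α : Type} (x : ℤ) (k : ℤ → α) : fI x k = k x := by
  cases x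
  exacts [fH_eq _ fun n => k (Int.ofNat n), fH_eq _ fun n => k (Int.negSucc n)]

/-- sum of the first `n` values -/
def sumI (n : ℕ) (f : ℕ → ℤ) : ℤ := Nat.rec (motive := fun _ => ℤ) 0 (fun j s => Int.add s (f j)) n

theorem sumI_eq (n : ℕ) (f : ℕ → ℤ) : sumI n f = ∑ j ∈ range n, f j := by
  induction n with
  | zero => rfl
  | succ n ih => rw [sum_range_succ, ← ih]; rfl

/-- packed column -/
def pk (n : ℕ) (f : ℕ → ℤ) : ℤ := sumI n fun i => Int.mul (f i) (Int.ofNat (Nat.pow 2 (Nat.mul 64 i)))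

theorem pk_eq (n : ℕ) (f : ℕ → ℤ) : pk n f = ∑ i ∈ range n, f i * (2 ^ 64) ^ i := by
  rw [pk, sumI_eq]
  exact sum_congr rfl fun i _ => by simp [pow_mul]

theorem pk_inj (n : ℕ) : ∀ f : ℕ → ℤ, (∀ i < n, |f i| < 2 ^ 64) →
    ∑ i ∈ range n, f i * (2 ^ 64) ^ i = 0 → ∀ i < n, f i = 0 := by
  induction n with
  | zero => simp
  | succ n ih =>
    intro f hf h
    rw [sum_range_succ'] at h
    have e : ∑ i ∈ range n, f (i + 1) * (2 ^ 64) ^ (i + 1) =
        2 ^ 64 * ∑ i ∈ range n, f (i + 1) * (2 ^ 64) ^ i := by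
      rw [mul_sum]
      exact sum_congr rfl fun i _ => by ring
    rw [e] at h
    have h0 := abs_lt.1 (hf 0 (by omega))
    generalize hs : ∑ i ∈ range n, f (i + 1) * (2 ^ 64 : ℤ) ^ i = s at h
    have h1 : s = 0 := by omega
    intro i hi
    rcases i with _ | i
    · omega
    · exact ih (fun i => f (i + 1)) (fun i hi => hf _ (by omega)) (hs.trans h1) i (by omega)

/-- the packed columns of a matrix, passed to a continuation -/
def cols (n : ℕ) (A : ℕ → ℕ → GaussianInt) (m : ℕ) : (List (ℤ × ℤ) → Bool) → Bool :=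
  Nat.rec (motive := fun _ => (List (ℤ × ℤ) → Bool) → Bool) (fun k => k [])
    (fun j ih k => fI (pk n fun i => (A i j).re) fun a => fI (pk n fun i => (A i j).im) fun b =>
      ih fun l => k ((a, b) :: l)) m

/-- linear combination of packed columns -/
def lin (l : List (ℤ × ℤ)) (c : ℕ → GaussianInt) : ℕ → ℤ → ℤ → ℤ × ℤ :=
  List.rec (motive := fun _ => ℕ → ℤ → ℤ → ℤ × ℤ) (fun _ s t => (s, t)) (fun e _ ih j s t =>
    force (Nat.pred j) fun j' => fI (c j').re fun u => fI (c j').im fun v =>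
      ih j' (Int.add s (Int.sub (Int.mul u e.1) (Int.mul v e.2)))
        (Int.add t (Int.add (Int.mul u e.2) (Int.mul v e.1)))) l

/-- check of a matrix product -/
def mulChk (n m l : ℕ) (A B C : ℕ → ℕ → GaussianInt) : Bool :=
  band (band (band (sm n m A) (sm m l B)) (sm n l C)) (cols n A m fun L => allLt l fun k =>
    decide (lin L (fun j => B j k) m 0 0 = (pk n fun i => (C i k).re, pk n fun i => (C i k).im)))

theorem cols_lin (n : ℕ) (A : ℕ → ℕ → GaussianInt) (m : ℕ) : ∃ L, (∀ k, cols n A m k = k L) ∧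
    ∀ (c : ℕ → GaussianInt) s t, lin L c m s t =
      (s + ∑ i ∈ range n, (∑ j ∈ range m, A i j * c j).re * (2 ^ 64) ^ i,
        t + ∑ i ∈ range n, (∑ j ∈ range m, A i j * c j).im * (2 ^ 64) ^ i) := by
  induction m with
  | zero => exact ⟨[], fun _ => rfl, fun c s t => by simp [lin]⟩
  | succ m ih =>
    obtain ⟨L, h1, h2⟩ := ih
    refine ⟨(pk n fun i => (A i m).re, pk n fun i => (A i m).im) :: L, fun k => ?_, fun c s t => ?_⟩
    · change fI _ (fun a => fI _ fun b => cols n A m fun l => k ((a, b) :: l)) = _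
      rw [fI_eq, fI_eq, h1]
    · have e : ∀ (e : ℤ × ℤ), lin (e :: L) c (m + 1) s t = lin L c m
          (Int.add s (Int.sub (Int.mul (c m).re e.1) (Int.mul (c m).im e.2)))
          (Int.add t (Int.add (Int.mul (c m).re e.2) (Int.mul (c m).im e.1))) := fun e => by
        change force _ (fun j' => fI (c j').re fun u => fI (c j').im fun v => lin L c j'
          (Int.add s (Int.sub (Int.mul u e.1) (Int.mul v e.2)))
          (Int.add t (Int.add (Int.mul u e.2) (Int.mul v e.1)))) = _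
        rw [force_eq, fI_eq, fI_eq, Nat.pred_succ]
      rw [e, h2]
      simp only [Int.add_def, Int.mul_def, pk_eq, sum_range_succ (n := m), Zsqrtd.re_add,
        Zsqrtd.im_add, Zsqrtd.re_mul, Zsqrtd.im_mul, add_mul, sum_add_distrib, mul_sum,
        show ∀ a b : ℤ, Int.sub a b = a - b from fun _ _ => rfl, ← sum_sub_distrib]
      refine Prod.ext ?_ ?_ <;> simp only [add_assoc, ← sum_add_distrib] <;> congr 1 <;>
        exact sum_congr rfl fun i _ => by ring

theorem mul_ok {n m l : ℕ} {A B C : ℕ → ℕ → GaussianInt} (hm : m ≤ 64)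
    (h : mulChk n m l A B C = true) {i k : ℕ} (hi : i < n) (hk : k < l) :
    ∑ j ∈ range m, A i j * B j k = C i k := by
  obtain ⟨L, h1, h2⟩ := cols_lin n A m
  simp only [mulChk, h1, allLt_iff, band_eq, Bool.and_eq_true, sm_iff] at h
  obtain ⟨⟨⟨hA, hB⟩, hC⟩, h⟩ := h
  have h3 := of_decide_eq_true (h k hk)
  rw [h2, pk_eq, pk_eq, zero_add, zero_add, Prod.mk.injEq] at h3
  replace h3 := And.intro (sub_eq_zero.2 h3.1) (sub_eq_zero.2 h3.2)
  simp only [← sum_sub_distrib, ← sub_mul] at h3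
  have hb : ∀ a b : ℤ, |a| ≤ 2 ^ 24 → |b| ≤ 2 ^ 24 → |a * b| ≤ 2 ^ 48 := fun a b ha hb => by
    rw [abs_mul]
    exact (mul_le_mul ha hb (abs_nonneg _) (by norm_num)).trans (by norm_num)
  have hs : ∀ g : ℕ → ℤ, (∀ j < m, |g j| ≤ 2 ^ 49) → ∀ c : ℤ, |c| ≤ 2 ^ 24 →
      |∑ j ∈ range m, g j - c| < 2 ^ 64 := fun g hg c hc => by
    have e1 := (abs_sum_le_sum_abs g (range m)).trans (sum_le_sum fun j hj => hg j (mem_range.1 hj))
    rw [sum_const, card_range, nsmul_eq_mul] at e1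
    have e2 := abs_sub (∑ j ∈ range m, g j) c
    have : (m : ℤ) ≤ 64 := by exact_mod_cast hm
    nlinarith
  have re_sum : ∀ g : ℕ → GaussianInt, (∑ j ∈ range m, g j).re = ∑ j ∈ range m, (g j).re ∧
      (∑ j ∈ range m, g j).im = ∑ j ∈ range m, (g j).im := fun g => by
    clear hm h h2 h1 h3 hs hA hB
    induction m with
    | zero => simp
    | succ m ih => simp [sum_range_succ, ih]
  refine Zsqrtd.ext (sub_eq_zero.1 (pk_inj n _ (fun i hi => ?_) h3.1 i hi))
    (sub_eq_zero.1 (pk_inj n _ (fun i hi => ?_) h3.2 i hi))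
  · rw [(re_sum _).1]
    refine hs _ (fun j hj => ?_) _ (hC i hi k hk).1
    have e1 := abs_le.1 (hb _ _ (hA i hi j hj).1 (hB j hj k hk).1)
    have e2 := abs_le.1 (hb _ _ (hA i hi j hj).2 (hB j hj k hk).2)
    rw [Zsqrtd.re_mul, abs_le]
    constructor <;> linarith [e1.1, e1.2, e2.1, e2.2]
  · rw [(re_sum _).2]
    refine hs _ (fun j hj => ?_) _ (hC i hi k hk).2
    have e1 := abs_le.1 (hb _ _ (hA i hi j hj).1 (hB j hj k hk).2)
    have e2 := abs_le.1 (hb _ _ (hA i hi j hj).2 (hB j hj k hk).1)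
    rw [Zsqrtd.im_mul, abs_le]
    constructor <;> linarith [e1.1, e1.2, e2.1, e2.2]

end

end CfsgRu
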