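import Mathlib
import Cfsg.Agent.H2.Frob
import Cfsg.Agent.H2.Generation
import Cfsg.Agent.H2.Extra2
import Cfsg.Agent.H2.Sect
import Cfsg.Agent.H1.PNil

/-! Automorphisms of `p`-groups centralizing every proper invariant subgroup (Schmidt groups). -/

namespace CfsgH2
open Subgroup Cfsg
open scoped commutatorElement

/-- `α` is a nontrivial automorphism with `α ^ q = 1` centralizing every proper invariant
subgroup. -/
structure Schm (q : ℕ) {P : Type*} [Group P] (α : MulAut P) : Prop where
  pow : α ^ q = 1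
  ne : α ≠ 1
  fix : ∀ K : Subgroup P, (∀ x ∈ K, α x ∈ K) → K ≠ ⊤ → ∀ x ∈ K, α x = x

variable {p q : ℕ} {P : Type*} [Group P] {α : MulAut P}

theorem Schm.of_equiv {P' : Type*} [Group P'] (h : Schm q α) (e : P ≃* P') :
    Schm q (MulAut.congr e α) where
  pow := by rw [← map_pow, h.pow, map_one]
  ne := fun e' => h.ne ((MulEquiv.map_eq_one_iff _).mp e')
  fix := fun K hK hKt x hx => by
    obtain ⟨x, rfl⟩ := e.surjective x
    have := h.fix (K.comap e.toMonoidHom) (fun y hy => by simpa using hK _ hy)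
      (fun h => hKt (eq_top_iff.mpr fun y _ => by
        simpa using (h ▸ mem_top (e.symm y) : e.symm y ∈ K.comap e.toMonoidHom))) x hx
    simp [this]

theorem zpowers_invariant [Finite P] {K : Subgroup P} (h : ∀ x ∈ K, α x ∈ K) :
    ∀ a : zpowers α, ∀ x ∈ K, (zpowers α).subtype a x ∈ K := by
  rintro ⟨a, ha⟩ x hx
  obtain ⟨n, rfl⟩ := (mem_powers_iff_mem_zpowers).mpr ha
  change (α ^ n) x ∈ K
  induction n with
  | zero => simpa using hx
  | succ n ih => rw [pow_succ', MulAut.mul_apply]; exact h _ (ih (npow_mem_zpowers _ _))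

theorem mem_fixAut_zpowers {x : P} : x ∈ fixAut (zpowers α).subtype ↔ α x = x :=
  ⟨fun h => h ⟨α, mem_zpowers α⟩, fun h a =>
    (zpowers_le.mpr (show α ∈ MulAction.stabilizer (MulAut P) x from h)) a.2⟩

variable [hp : Fact p.Prime] [hq : Fact q.Prime] [Finite P]

omit [Finite P] in
theorem Schm.coprime (h : Schm q α) (hpq : p ≠ q) : Nat.Coprime (Nat.card (zpowers α)) p := by
  rw [Nat.card_zpowers, orderOf_eq_prime h.pow h.ne]
  exact (Nat.coprime_primes hq.out hp.out).mpr hpq.symm

theorem Schm.commAut_eq (h : Schm q α) (hP : IsPGroup p P) (hpq : p ≠ q) :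
    commAut (zpowers α).subtype ⊤ = ⊤ := by
  by_contra hne
  have := le_fixAut_of_commAut_le (zpowers α).subtype
    (coprime_card_of_coprime_p (hP.to_subgroup _) (h.coprime hpq)) (Or.inl inferInstance)
    (fun x hx => mem_fixAut_zpowers.mpr (h.fix _
      (commAut_invariant (zpowers α).subtype ⊤ ⟨α, mem_zpowers α⟩) hne x hx)) le_rfl
  exact h.ne (MulEquiv.ext fun x => mem_fixAut_zpowers.mp (this (mem_top x)))

omit hq [Finite P] in
theorem Schm.nontrivial (h : Schm q α) : Nontrivial P := by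
  by_contra hn
  rw [not_nontrivial_iff_subsingleton] at hn
  exact h.ne (MulEquiv.ext fun _ => Subsingleton.elim _ _)

theorem Schm.special (h : Schm q α) (hP : IsPGroup p P) (hpq : p ≠ q)
    (hna : ¬ IsMulCommutative P) : IsSpecial p P ∧ center P = fixAut (zpowers α).subtype :=
  special_of_trivial_on_char_abelian hP _ (h.coprime hpq) (h.commAut_eq hP hpq)
    fun H hH hHc x hx => mem_fixAut_zpowers.mpr (h.fix H
      (fun _ hy => Characteristic.apply_mem hH _ hy)
      (fun e => hna ⟨⟨fun a b => isMulCommutative_iff.mp (e ▸ hHc) a (mem_top a) b (mem_top b)⟩⟩)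
      x hx)

theorem Schm.struct (h : Schm q α) (hP : IsPGroup p P) (hpq : p ≠ q) :
    commutator P = frattini P ∧ frattini P ≤ center P ∧ ∀ x, α x = x ↔ x ∈ frattini P := by
  by_cases hna : IsMulCommutative P
  · have h1 := commAut_inf_fixAut (zpowers α).subtype (K := ⊤) inferInstance
      (fun _ _ _ => mem_top _) (coprime_card_of_coprime_p (hP.to_subgroup _) (h.coprime hpq))
    rw [h.commAut_eq hP hpq, top_inf_eq] at h1
    have := h.nontrivial
    have h2 : frattini P = ⊥ := eq_bot_iff.mpr fun x hx => h1 ▸ mem_fixAut_zpowers.mpr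
      (h.fix _ (fun _ hy => Characteristic.apply_mem inferInstance _ hy) (fun e => top_ne_bot
        (frattini_nongenerating (K := (⊥ : Subgroup P)) (by rw [e, sup_top_eq])).symm) x hx)
    refine ⟨le_antisymm (commutator_le_frattini hP) (h2 ▸ bot_le), h2 ▸ bot_le, fun x => ?_⟩
    rw [← mem_fixAut_zpowers, h1, h2]
  · obtain ⟨⟨-, h1, h2⟩, h3⟩ := h.special hP hpq hna
    exact ⟨h2.trans h1.symm, h1.le, fun x => by rw [← mem_fixAut_zpowers, h1, h3]⟩

/-- Minimal non-`p`-nilpotent groups. -/
theorem schm_of_minimal {X : Type*} [Group X] [Finite X] (hpq : p ≠ q)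
    (hmin : ∀ K : Subgroup X, K ≠ ⊤ → CfsgH1.PNil p K) {U : Subgroup X} (hU : IsPGroup p U)
    {g : X} (hg : g ∈ normalizer (U : Set X)) {k : ℕ} (hk : g ^ q ^ k = 1)
    (hgU : g ∉ centralizer (U : Set X)) :
    U ⊔ zpowers g = ⊤ ∧ ∃ _ : U.Normal, Schm q (MulAut.conjNormal g : MulAut U) := by
  have hco : ∀ y ∈ zpowers g, (orderOf y).Coprime p := fun y hy =>
    (((Nat.coprime_primes hq.out hp.out).mpr hpq.symm).pow_left k).coprime_dvd_left
      (orderOf_dvd_of_pow_eq_one (pow_eq_one_of_mem_zpowers hk y hy))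
  have key : ∀ K : Subgroup X, K ≤ U → ∀ y ∈ zpowers g, y ∈ normalizer (K : Set X) →
      K ⊔ zpowers y ≠ ⊤ → y ∈ centralizer (K : Set X) := fun K hK y hy hn hne =>
    (hmin _ hne).mem_centralizer (hU.to_le hK) le_sup_left
      (CfsgH1.mem_resIn (mem_sup_right (mem_zpowers y)) (hco y hy)) hn
  have hd : ∀ y ∈ zpowers g, y ∈ U → y = 1 := fun y hy hyU => by
    obtain ⟨j, hj⟩ := IsPGroup.exists_pow_eq_one hU hyU
    exact eq_one_of_pow_coprime (pow_orderOf_eq_one y) hj ((hco y hy).pow_right j)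
  have h1 : U ⊔ zpowers g = ⊤ := by
    by_contra h
    exact hgU (key U le_rfl g (mem_zpowers g) hg h)
  have hn : U.Normal := normalizer_eq_top_iff.mp
    (eq_top_iff.mpr (h1 ▸ sup_le le_normalizer (zpowers_le.mpr hg)))
  refine ⟨h1, hn, ?_, fun h => hgU fun x hx => ?_, fun K hK hKt x hx => ?_⟩
  · have := key U le_rfl (g ^ q) (npow_mem_zpowers g q) (mem_normalizer_of_normal _ _) fun h => by
      obtain ⟨u, hu, i, e⟩ := (mem_sup_zpowers_iff (mem_normalizer_of_normal _ _)).mp
        (h ▸ mem_top g)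
      have hu1 : u = 1 := hd u (by
        rw [← mul_inv_eq_iff_eq_mul] at e
        exact e ▸ mul_mem (mem_zpowers g) (inv_mem (zpow_mem (npow_mem_zpowers g q) i))) hu
      rw [hu1, one_mul] at e
      have h2 : g ∈ (⊥ : Subgroup X) := by
        by_contra h3
        obtain ⟨j, hj1, hj2⟩ := exists_pow_not_mem hk h3
        apply hj1
        rw [e, ← zpow_natCast, ← zpow_mul, mul_comm, zpow_mul, zpow_natCast, ← pow_mul,
          mul_comm, pow_mul, mem_bot.mp hj2, one_zpow]
        exact one_mem _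
      exact hgU (mem_bot.mp h2 ▸ one_mem _)
    ext x
    rw [← map_pow, MulAut.conjNormal_apply, ← this x x.2]
    simp
  · exact (mul_inv_eq_iff_eq_mul.mp
      (congrArg Subtype.val (DFunLike.congr_fun h ⟨x, hx⟩))).symm
  · have hn' : g ∈ normalizer ((K.map U.subtype : Subgroup X) : Set X) :=
      mem_normalizer_fintype (by rintro _ ⟨y, hy, rfl⟩; exact ⟨_, hK y hy, rfl⟩)
    have := key _ (map_subtype_le K) g (mem_zpowers g) hn' fun h => hKt (eq_top_iff.mpr
      fun u _ => by
        obtain ⟨_, ⟨v, hv, rfl⟩, i, e⟩ := (mem_sup_zpowers_iff hn').mp (h ▸ mem_top (u : X))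
        have := hd _ (zpow_mem_zpowers g i) (by
          rw [← inv_mul_eq_iff_eq_mul] at e
          exact e ▸ mul_mem (inv_mem v.2) u.2)
        rw [this, mul_one] at e
        exact (Subtype.ext e : u = v) ▸ hv)
    exact Subtype.ext (mul_inv_eq_iff_eq_mul.mpr (this _ ⟨x, hx, rfl⟩).symm)

/-- A subgroup with cyclic supplement whose Frattini subgroup misses part of the centre. -/
theorem Schm.three_lt (h : Schm q α) (hP : IsPGroup p P) (hpq : p ≠ q)
    (hna : ¬ IsMulCommutative P) {R H : Subgroup P} {x : P} (hx : R ⊔ zpowers x = ⊤)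
    (hZ : center P ≤ R) (hH : ¬ center P ≤ H) (hc : ∀ a ∈ R, ∀ b ∈ R, ⁅a, b⁆ ∈ H)
    (hpw : ∀ a ∈ R, a ^ p ∈ H) : 3 < p := by
  obtain ⟨⟨-, hΦ, hD⟩, hF⟩ := h.special hP hpq hna
  have hfix : ∀ K : Subgroup P, (∀ x ∈ K, α x ∈ K) → K ≠ ⊤ → K ≤ center P :=
    fun K h1 h2 y hy => hF ▸ mem_fixAut_zpowers.mpr (h.fix K h1 h2 y hy)
  have hcz : ∀ x y : P, ⁅x, y⁆ ∈ center P := fun x y => hD ▸ comm_mem_commutator x y
  have hcc : ∀ w x y : P, Commute w ⁅x, y⁆ := fun w x y => commute_of_mem_center (hcz x y) w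
  have hpz : ∀ x : P, x ^ p ∈ center P := fun x => hΦ ▸ pow_mem_frattini hP x
  obtain ⟨M, hM, hHM⟩ := exists_isCoatom_ge (K := H.subgroupOf (center P))
    (fun e => hH (subgroupOf_eq_top.mp e))
  have hMi := index_of_isCoatom (hP.to_subgroup _) hM
  have hMn := normal_of_isCoatom (hP.to_subgroup _) hM
  have hM'n : (M.map (center P).subtype).Normal := normal_of_le_center (map_subtype_le _)
  have hS : centralMod 0 (M.map (center P).subtype) ≤ center P := by
    refine hfix _ (centralMod_invariant 0 α fun y hy => ?_) fun e => hM.1 ?_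
    · rwa [mem_fixAut_zpowers.mp (hF ▸ map_subtype_le M hy)]
    · have : commutator P ≤ M.map (center P).subtype := by
        rw [_root_.commutator_def, commutator_le]
        exact fun a _ b _ => (e ▸ mem_top a : a ∈ centralMod 0 _).2 b
      exact eq_top_iff.mpr fun z _ =>
        (mem_map_iff_mem (center P).subtype_injective).mp (this (hD.ge z.2))
  let γ : R →* center P ⧸ M := MonoidHom.mk' (fun u => (⟨⁅(u : P), x⁆, hcz _ _⟩ : center P))
    fun u v => by
      rw [← QuotientGroup.mk_mul]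
      congr 1
      exact Subtype.ext ((comm_mul_left_of_commute (hcc _ _ _)).trans (hcc _ _ _).eq)
  have : IsCyclic (center P ⧸ M) := isCyclic_of_prime_card hMi
  obtain ⟨-, a, ha, hRa⟩ := isCocyclic_ker γ inferInstance
  have hRn : R.Normal := ⟨fun n hn g => by
    simpa [commutatorElement_def] using mul_mem (hZ (hcz g n)) hn⟩
  have hk : γ.ker.map R.subtype ≤ center P := by
    rintro _ ⟨u, hu, rfl⟩
    refine hS ⟨by simp, fun g => ?_⟩
    obtain ⟨r, hr, i, rfl⟩ := (mem_sup_zpowers_iff (mem_normalizer_of_normal _ x)).mp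
      (hx ▸ mem_top g)
    rw [comm_mul_right_of_commute (hcc _ _ _), comm_zpow_right (hcc _ _ _)]
    exact mul_mem ⟨⟨_, hcz _ _⟩, hHM (hc _ u.2 r hr), rfl⟩
      (zpow_mem (mem_map_of_mem _ ((QuotientGroup.eq_one_iff _).mp hu)) i)
  have hR : R = center P ⊔ zpowers a :=
    le_antisymm (hRa ▸ sup_le_sup_right hk _) (sup_le hZ (zpowers_le.mpr ha))
  have hgen : ∀ y, y ∉ R → R ⊔ zpowers y = ⊤ → center P = zpowers ⁅a, y⁆ := fun y _ hy => by
    have := normal_zpowers_of_mem_center (hcz a y)
    refine le_antisymm (hD ▸ commutator_le_of_generators (s := center P ∪ {a, y}) ?_ ?_)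
      (zpowers_le.mpr (hcz _ _))
    · rw [Subgroup.closure_union, closure_eq, ← hy, hR, sup_assoc, zpowers_eq_closure,
        zpowers_eq_closure, ← Subgroup.closure_union]
      rfl
    · rintro u (hu | rfl | rfl) v (hv | rfl | rfl)
      any_goals simp only [commutatorElement_self, one_mem, mem_zpowers]
      any_goals (rw [comm_eq_one_iff.mpr (commute_of_mem_center hu _).symm]; exact one_mem _)
      any_goals (rw [comm_eq_one_iff.mpr (commute_of_mem_center hv _)]; exact one_mem _)
      exact inv_mem_iff.mp (by rw [commutatorElement_inv]; exact mem_zpowers _)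
  have hRc : IsMulCommutative R := hR ▸ isMulCommutative_sup_zpowers inferInstance
    fun y hy => (mem_center_iff.mp hy a).symm
  have hRt : R ≠ ⊤ := fun e => hna
    ⟨⟨fun a b => isMulCommutative_iff.mp (e ▸ hRc) a (mem_top a) b (mem_top b)⟩⟩
  have hxR : x ∉ R := fun h => hRt (by rw [← hx, left_eq_sup]; exact zpowers_le.mpr h)
  have hc1 : ⁅a, x⁆ ≠ 1 := fun e => hH (by rw [hgen x hxR hx, e]; simp)
  have hZp : Nat.card (center P) = p := by
    rw [hgen x hxR hx, card_zpowers_of_pow_eq_one (p := p) hc1]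
    rw [← comm_pow_left (hcc _ _ _), comm_eq_one_iff]
    exact (commute_of_mem_center (hpz a) x).symm
  have haZ : a ∉ center P := fun h => hc1 (comm_eq_one_iff.mpr (commute_of_mem_center h x).symm)
  have hap : a ^ p = 1 := by
    by_contra h1
    exact hH (le_of_card_prime hZp (hpz a) (hpw a ha) h1)
  have hsm : ∀ y, center P ⊔ zpowers y ≠ ⊤ := fun y e => hna ⟨⟨fun a b =>
    isMulCommutative_iff.mp (e ▸ isMulCommutative_sup_zpowers (K := center P) inferInstance
      fun z hz => (mem_center_iff.mp hz y).symm) a (mem_top a) b (mem_top b)⟩⟩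
  have hinv : ∀ y, y ∉ center P → α y ∉ center P ⊔ zpowers y := fun y hy hy' =>
    hy (hfix (center P ⊔ zpowers y) (fun z hz => (sup_le (fun w hw => mem_sup_left
      (Characteristic.apply_mem inferInstance α hw)) (zpowers_le.mpr hy') :
        center P ⊔ zpowers y ≤ (center P ⊔ zpowers y).comap α.toMonoidHom) hz) (hsm y)
      (mem_sup_right (mem_zpowers y)))
  have hcard : Nat.card P = p * p * p := by
    rw [← card_top, ← hx, card_sup_zpowers (mem_normalizer_of_normal _ x) hp.out (hZ (hpz x)) hxR,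
      hR, card_sup_zpowers (mem_normalizer_of_normal _ a) hp.out (hpz a) haZ, hZp]
  by_contra h3
  have h2 := hp.out.two_le
  rcases (by omega : p = 2 ∨ p = 3) with rfl | rfl
  · set b := α a with hb
    have hbR : b ∉ R := hR ▸ hinv a haZ
    have hb2 : b ^ 2 = 1 := by rw [hb, ← map_pow, hap, map_one]
    have hRb : R ⊔ zpowers b = ⊤ := eq_top_of_card_eq _ (by
      rw [card_sup_zpowers (mem_normalizer_of_normal _ b) hp.out (hZ (hpz b)) hbR,
        hR, card_sup_zpowers (mem_normalizer_of_normal _ a) hp.out (hpz a) haZ, hZp, hcard])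
    have hab : ⁅a, b⁆ ≠ 1 := fun e => hH (by rw [hgen b hbR hRb, e]; simp)
    have hsq : (b * a) ^ 2 ≠ 1 := by
      rw [mul_pow_class_two (hcc _ _ _) (hcc _ _ _), hap, hb2]; simpa using hab
    refine hinv (b * a) (fun e => hbR ((mul_mem_cancel_right ha).mp (hZ e))) ?_
    have hsq' : α (b * a) ^ 2 ≠ 1 := by rw [← map_pow]; exact fun e => hsq ((MulEquiv.map_eq_one_iff _).mp e)
    have hz2 : ∀ z ∈ center P, z ^ 2 = 1 := fun z hz => by
      have := pow_card_eq_one' (x := (⟨z, hz⟩ : center P))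
      rw [hZp] at this
      exact congrArg Subtype.val this
    obtain ⟨r, hr, l, hl, e⟩ := (mem_sup_of_le_normalizer le_normalizer_of_normal).mp
      (hRb ▸ mem_top (α (b * a)))
    rw [hR] at hr
    obtain ⟨z, hz, m, hm, rfl⟩ := (mem_sup_of_le_normalizer le_normalizer_of_normal).mp hr
    rw [← e, mul_assoc, (commute_of_mem_center hz _).symm.mul_pow, hz2 z hz, one_mul] at hsq'
    rw [← e, mul_assoc]
    refine mul_mem (mem_sup_left hz) ?_
    rcases eq_or_eq_of_mem_zpowers_two hap hm with rfl | rfl <;>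
      rcases eq_or_eq_of_mem_zpowers_two hb2 hl with rfl | rfl
    · simp
    · exact absurd (by simpa using hb2) hsq'
    · exact absurd (by simpa using hap) hsq'
    · rw [mul_eq_comm_mul m, mul_assoc]
      exact mul_mem (mem_sup_left (hcz _ _)) (mem_sup_right (mem_zpowers _))
  · have hq2 : q = 2 := by
      have hq' : IsPGroup q (zpowers α) := IsPGroup.of_card (n := 1) (by
        rw [Nat.card_zpowers, orderOf_eq_prime h.pow h.ne, pow_one])
      have h4 := hq'.card_modEq_card_fixedPoints P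
      have h5 : Nat.card (MulAction.fixedPoints (zpowers α) P) = 3 := by
        rw [← hZp, hF]; rfl
      rw [hcard, h5] at h4
      have h6 : q ∣ 2 ^ 3 * 3 := (Nat.modEq_iff_dvd' (by norm_num)).mp h4.symm
      rcases (Nat.Prime.dvd_mul hq.out).mp h6 with h7 | h7
      · exact (Nat.prime_dvd_prime_iff_eq hq.out Nat.prime_two).mp (hq.out.dvd_of_dvd_pow h7)
      · exact absurd ((Nat.prime_dvd_prime_iff_eq hq.out Nat.prime_three).mp h7) hpq.symm
    subst hq2
    by_cases h4 : a * α a ∈ center P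
    · refine hinv a haZ ?_
      simpa using mul_mem (inv_mem (mem_sup_right (S := center P) (mem_zpowers a)))
        (mem_sup_left h4)
    · refine hinv _ h4 ?_
      rw [map_mul, ← MulAut.mul_apply, ← sq, h.pow, MulAut.one_apply, mul_eq_comm_mul (α a), mul_assoc]
      exact mul_mem (mem_sup_left (hcz _ _)) (mem_sup_right (mem_zpowers _))

end CfsgH2
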