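import Mathlib
import Cfsg.Agent.H2.Invol

/-! External (automorphism) versions of coprime generation results, via semidirect products. -/

namespace CfsgH2
open Subgroup Cfsg
open scoped commutatorElement

variable {A X : Type*} [Group A] [Group X] (φ : A →* MulAut X)

/-- copy of `X` in the semidirect product -/
abbrev sdL : Subgroup (X ⋊[φ] A) := (SemidirectProduct.inl : X →* X ⋊[φ] A).range
/-- copy of `A` in the semidirect product -/
abbrev sdR : Subgroup (X ⋊[φ] A) := (SemidirectProduct.inr : A →* X ⋊[φ] A).range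

theorem sd_finite [Finite A] [Finite X] : Finite (X ⋊[φ] A) :=
  Finite.of_equiv _ SemidirectProduct.equivProd.symm

instance sdL_normal : (sdL φ).Normal := by
  unfold sdL
  rw [SemidirectProduct.range_inl_eq_ker_rightHom]; infer_instance

theorem card_sdL : Nat.card (sdL φ) = Nat.card X :=
  (Nat.card_congr (MonoidHom.ofInjective SemidirectProduct.inl_injective).toEquiv).symm

theorem card_sdR : Nat.card (sdR φ) = Nat.card A :=
  (Nat.card_congr (MonoidHom.ofInjective SemidirectProduct.inr_injective).toEquiv).symm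

theorem sd_conj (a : A) (x : X) : (SemidirectProduct.inr a : X ⋊[φ] A) * .inl x *
    (SemidirectProduct.inr a)⁻¹ = .inl (φ a x) := by
  rw [SemidirectProduct.inl_aut, map_inv]

theorem sd_commute_iff {a : A} {x : X} : (SemidirectProduct.inl x : X ⋊[φ] A) * .inr a =
    .inr a * .inl x ↔ φ a x = x := by
  rw [← SemidirectProduct.inl_injective.eq_iff (f := (SemidirectProduct.inl : X →* X ⋊[φ] A)),
    ← sd_conj, mul_inv_eq_iff_eq_mul, eq_comm]

theorem sdR_comm (hA : IsMulCommutative A) : IsMulCommutative (sdR φ) :=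
  isMulCommutative_iff.mpr (by
    rintro _ ⟨a, rfl⟩ _ ⟨b, rfl⟩
    rw [← map_mul, ← map_mul, hA.is_comm.comm])

theorem sdR_le_normalizer : sdR φ ≤ normalizer (sdL φ : Set (X ⋊[φ] A)) := by
  rw [normalizer_eq_top]; exact le_top

/-- External form of generation by centralizers of nonidentity elements. -/
theorem eq_top_of_noncyclic [Finite A] [Finite X] (hA : IsMulCommutative A) (hnc : ¬ IsCyclic A)
    (hc : Nat.Coprime (Nat.card A) (Nat.card X)) {K : Subgroup X}
    (h : ∀ a, a ≠ 1 → ∀ x, φ a x = x → x ∈ K) : K = ⊤ := by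
  haveI := sd_finite φ
  have h1 : sdL φ ≤ K.map SemidirectProduct.inl := by
    refine le_of_noncyclic (sdR_comm φ hA) (fun hh => hnc ?_) (sdR_le_normalizer φ)
      (by rwa [card_sdL, card_sdR]) ?_
    · exact (MonoidHom.ofInjective SemidirectProduct.inr_injective).isCyclic.mpr hh
    · rintro _ ⟨a, rfl⟩ ha _ ⟨⟨x, rfl⟩, hx⟩
      exact ⟨x, h a (fun e => ha (by rw [e, map_one])) x
        ((sd_commute_iff φ).mp (mem_centralizer_singleton_iff.mp hx)), rfl⟩
  refine eq_top_iff.mpr fun x _ => ?_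
  obtain ⟨y, hy, e⟩ := h1 ⟨x, rfl⟩
  rwa [← SemidirectProduct.inl_injective e]

/-- External form of `exists_inverted_prime`. -/
theorem exists_inverted_ext [Finite A] [Finite X] (hA : IsMulCommutative A)
    (hA2 : ∀ a : A, a ^ 2 = 1) (hc : Nat.Coprime (Nat.card A) (Nat.card X)) {j : A}
    (hj : φ j ≠ 1) : ∃ x : X, (orderOf x).Prime ∧ φ j x = x⁻¹ ∧
      ∀ i, φ i x = x ∨ φ i x = x⁻¹ := by
  haveI := sd_finite φ
  obtain ⟨_, ⟨x, rfl⟩, h1, h2, h3⟩ := exists_inverted_prime (I := sdR φ) (A := sdL φ)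
    ⟨sdR_comm φ hA, by rintro _ ⟨a, rfl⟩; rw [← map_pow, hA2, map_one]⟩ (sdR_le_normalizer φ)
    (by rwa [card_sdL, card_sdR]) (j := .inr j) ⟨j, rfl⟩
    fun h => hj (MulEquiv.ext fun x => (sd_commute_iff φ).mp (h _ ⟨x, rfl⟩))
  rw [orderOf_injective _ SemidirectProduct.inl_injective] at h1
  rw [sd_conj, ← map_inv] at h2
  have h2' := SemidirectProduct.inl_injective h2
  refine ⟨x, h1, h2', fun i => ?_⟩
  rcases h3 (.inr i) ⟨i, rfl⟩ with h | h
  · exact Or.inl ((sd_commute_iff φ).mp (mem_centralizer_singleton_iff.mp h).symm)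
  · rw [← map_mul] at h
    have := (sd_commute_iff φ).mp (mem_centralizer_singleton_iff.mp h).symm
    rw [map_mul, MulAut.mul_apply, h2', map_inv, inv_eq_iff_eq_inv] at this
    exact Or.inr this

end CfsgH2
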