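import Cfsg.Agent.FT.BG6_1
import Cfsg.Agent.FT.BG1_5
import Cfsg.Agent.FT.X_h3c
import Cfsg.Agent.FT.X_h3d
import Cfsg.Agent.FT.X_cMod
import Cfsg.Agent.FT.X_helper2_p
import Cfsg.Agent.H4.Prod
import Cfsg.Agent.H2.SdpAct

/-! General lemmas for the solvable signalizer functor theorem. -/

set_option autoImplicit false
set_option linter.unusedSectionVars false
set_option linter.style.haveILetI false

namespace CfsgSig

open Subgroup CfsgL0 CfsgFT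
open scoped commutatorElement

variable {G : Type*} [Group G]

/-- `g ∈ XY` -/
def Prd (X Y : Subgroup G) (g : G) : Prop := ∃ x ∈ X, ∃ y ∈ Y, g = x * y

theorem Prd.mono {X Y X' Y' : Subgroup G} {g : G} (h : Prd X Y g) (hX : X ≤ X') (hY : Y ≤ Y') :
    Prd X' Y' g := by
  obtain ⟨x, hx, y, hy, e⟩ := h
  exact ⟨x, hX hx, y, hY hy, e⟩

theorem Prd.inv {X Y : Subgroup G} {g : G} (h : Prd X Y g) : Prd Y X g⁻¹ := by
  obtain ⟨x, hx, y, hy, rfl⟩ := h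
  exact ⟨_, inv_mem hy, _, inv_mem hx, mul_inv_rev _ _⟩

theorem Prd.mem {X Y K : Subgroup G} {g : G} (h : Prd X Y g) (hX : X ≤ K) (hY : Y ≤ K) : g ∈ K := by
  obtain ⟨x, hx, y, hy, rfl⟩ := h
  exact mul_mem (hX hx) (hY hy)

theorem prd_left {X : Subgroup G} (Y : Subgroup G) {g : G} (h : g ∈ X) : Prd X Y g :=
  ⟨g, h, 1, one_mem _, (mul_one g).symm⟩

theorem prd_right (X : Subgroup G) {Y : Subgroup G} {g : G} (h : g ∈ Y) : Prd X Y g :=
  ⟨1, one_mem _, g, h, (one_mul g).symm⟩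

theorem Prd.mul_left {X Y : Subgroup G} {g x : G} (h : Prd X Y g) (hx : x ∈ X) : Prd X Y (x * g) := by
  obtain ⟨a, ha, y, hy, rfl⟩ := h
  exact ⟨x * a, mul_mem hx ha, y, hy, (mul_assoc _ _ _).symm⟩

theorem Prd.mul_right {X Y : Subgroup G} {g y : G} (h : Prd X Y g) (hy : y ∈ Y) :
    Prd X Y (g * y) := by
  obtain ⟨a, ha, b, hb, rfl⟩ := h
  exact ⟨a, ha, b * y, mul_mem hb hy, mul_assoc _ _ _⟩

theorem prd_symm {X Y K : Subgroup G} (h : ∀ g ∈ K, Prd X Y g) : ∀ g ∈ K, Prd Y X g := fun g hg => by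
  simpa using (h _ (inv_mem hg)).inv

theorem prd_of_sup {X Y : Subgroup G} (hn : Y ≤ 𝒩 X) {g : G} (hg : g ∈ X ⊔ Y) : Prd X Y g := by
  obtain ⟨a, ha, b, hb, e⟩ := (CfsgH2.mem_sup_of_le_normalizer hn).mp hg
  exact ⟨a, ha, b, hb, e.symm⟩

/-- Dedekind -/
theorem Prd.inf_right {X Y K : Subgroup G} {g : G} (h : Prd X Y g) (hX : X ≤ K) (hg : g ∈ K) :
    Prd X (Y ⊓ K) g := by
  obtain ⟨x, hx, y, hy, rfl⟩ := h
  exact ⟨x, hx, y, ⟨hy, (mul_mem_cancel_left (hX hx)).mp hg⟩, rfl⟩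

theorem Prd.inf_left {X Y K : Subgroup G} {g : G} (h : Prd X Y g) (hY : Y ≤ K) (hg : g ∈ K) :
    Prd (X ⊓ K) Y g := by
  obtain ⟨x, hx, y, hy, rfl⟩ := h
  exact ⟨x, ⟨hx, (mul_mem_cancel_right (hY hy)).mp hg⟩, y, hy, rfl⟩

theorem comm_of_mem_cent {B : Subgroup G} {g b : G} (hg : g ∈ 𝒞 B) (hb : b ∈ B) : b * g = g * b :=
  hg b hb

variable [Finite G]

/-- a finite subset closed under multiplication is a subgroup -/
def mkSub (S : Set G) (h1 : (1 : G) ∈ S) (hm : ∀ a ∈ S, ∀ b ∈ S, a * b ∈ S) : Subgroup G where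
  carrier := S
  one_mem' := h1
  mul_mem' := fun ha hb => hm _ ha _ hb
  inv_mem' := fun {a} ha => by
    have : ∀ n : ℕ, a ^ n ∈ S := fun n => by
      induction n with
      | zero => simpa using h1
      | succ n ih => rw [pow_succ]; exact hm _ ih _ ha
    have e : a⁻¹ = a ^ (orderOf a - 1) := by
      rw [inv_eq_iff_mul_eq_one, ← pow_succ', Nat.sub_add_cancel (orderOf_pos a), pow_orderOf_eq_one]
    rw [e]; exact this _

/-- fixed points of a product -/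
theorem Prd.fix {B X Y : Subgroup G} {g : G} (h : Prd X Y g) (hX : B ≤ 𝒩 X) (hY : B ≤ 𝒩 Y)
    (hc : (#B).Coprime #(X ⊓ Y)) (hs : Group.IsSolvable B) (hg : g ∈ 𝒞 B) :
    Prd (X ⊓ 𝒞 B) (Y ⊓ 𝒞 B) g := by
  obtain ⟨x, hx, y, hy, rfl⟩ := h
  obtain ⟨c, hc', n, hn, rfl⟩ := CfsgH2.exists_eq_centralizer_mul (A := B) (N := X ⊓ Y) (x := x)
    (CfsgH2.le_normalizer_inf hX hY) hc (Or.inl hs) fun b hb => by
      refine ⟨?_, ?_⟩
      · have : ⁅x⁻¹, b⁆ = x⁻¹ * (b * x * b⁻¹) := by simp only [commutatorElement_def]; group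
        change ⁅x⁻¹, b⁆ ∈ X
        rw [this]
        exact mul_mem (inv_mem hx) (CfsgH2.conj_mem_of_le_normalizer hX hb hx)
      · have e := comm_of_mem_cent hg hb
        have : ⁅x⁻¹, b⁆ = y * (b * y⁻¹ * b⁻¹) := by
          simp only [commutatorElement_def]
          calc x⁻¹ * b * x⁻¹⁻¹ * b⁻¹ = x⁻¹ * (b * (x * y)) * y⁻¹ * b⁻¹ := by group
            _ = _ := by rw [e]; group
        change ⁅x⁻¹, b⁆ ∈ Y
        rw [this]
        exact mul_mem hy (CfsgH2.conj_mem_of_le_normalizer hY hb (inv_mem hy))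
  refine ⟨c, ⟨(X.mul_mem_cancel_right hn.1).mp hx, hc'⟩, n * y, ⟨Y.mul_mem hn.2 hy, ?_⟩, mul_assoc _ _ _⟩
  rw [mul_assoc] at hg
  exact ((𝒞 B).mul_mem_cancel_left hc').mp hg

theorem prd_iff_card {X Y K : Subgroup G} (hX : X ≤ K) (hY : Y ≤ K) :
    (∀ g ∈ K, Prd X Y g) ↔ #K * #(X ⊓ Y) = #X * #Y := by
  have h1 := CfsgH2.card_inf_mul_relIndex X Y
  have h2 := CfsgH2.card_mul_relIndex hY
  have e : #K * #(X ⊓ Y) = #X * #Y ↔ Y.relIndex K = Y.relIndex X := by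
    rw [← h1, ← h2]
    constructor
    · intro h
      refine Nat.eq_of_mul_eq_mul_left (Nat.mul_pos (Nat.card_pos (α := Y))
        (Nat.card_pos (α := (X ⊓ Y : Subgroup G)))) ?_
      linarith
    · intro h; rw [h]; ring
  rw [e]
  refine ⟨fun h => ?_, fun h g hg => CfsgH4.exists_mul_of_relIndex_ge hX h.le hg⟩
  refine (Nat.card_eq_of_bijective (quotientSubgroupOfEmbeddingOfLE Y hX)
    ⟨Function.Embedding.injective _, fun q => ?_⟩).symm
  induction q using QuotientGroup.induction_on with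
  | H g =>
  obtain ⟨x, hx, y, hy, e⟩ := h g g.2
  refine ⟨((⟨x, hx⟩ : X) : X ⧸ Y.subgroupOf X), ?_⟩
  rw [quotientSubgroupOfEmbeddingOfLE_apply_mk, QuotientGroup.eq, mem_subgroupOf]
  simpa [e] using hy

theorem sylow_card_mul {r : ℕ} [Fact r.Prime] {a b c d a' b' c' d' : Subgroup G}
    (ha : IsSylowOf r a' a) (hb : IsSylowOf r b' b) (hc : IsSylowOf r c' c) (hd : IsSylowOf r d' d) :
    #a' * #b' = #c' * #d' ↔ (#a * #b).factorization r = (#c * #d).factorization r := by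
  rw [ha.card_eq, hb.card_eq, hc.card_eq, hd.card_eq, ← pow_add, ← pow_add,
    Nat.factorization_mul Nat.card_pos.ne' Nat.card_pos.ne',
    Nat.factorization_mul Nat.card_pos.ne' Nat.card_pos.ne', Finsupp.add_apply, Finsupp.add_apply]
  exact (Nat.pow_right_injective (Fact.out : r.Prime).two_le).eq_iff

theorem ks_nil {B R X Y : Subgroup G} (hB : IsMulCommutative B) (hnc : ¬ IsCyclic B)
    (hBR : B ≤ 𝒩 R) (hc : (#B).Coprime #R) (hR : Group.IsNilpotent R) (hX : X ≤ R) (hY : Y ≤ R)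
    (h : ∀ b ∈ B, b ≠ 1 → ∀ g ∈ R ⊓ 𝒞₁ b, Prd X Y g) : ∀ g ∈ R, Prd X Y g := by
  obtain ⟨M, ⟨hMR, hRM, hBM, hM⟩, -, hmax⟩ := exists_max_subgroup
    (fun M : Subgroup G => M ≤ R ∧ R ≤ 𝒩 M ∧ B ≤ 𝒩 M ∧ ∀ g ∈ M, Prd X Y g) (C := ⊥)
    ⟨bot_le, le_normalizer_bot _, le_normalizer_bot _, fun g hg => prd_left _ (by
      rw [mem_bot.mp hg]; exact one_mem _)⟩
  set M1 := R ⊓ cMod R M with hM1
  have k : ∀ x ∈ X, ∀ m ∈ M, ∀ y ∈ Y, Prd X Y (x * m * y) := fun x hx m hm y hy =>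
    ((hM m hm).mul_left hx).mul_right hy
  have h1 : ∀ g ∈ M1, Prd X Y g := by
    let S : Subgroup G := mkSub {g | g ∈ M1 ∧ Prd X Y g} ⟨one_mem _, prd_left _ (one_mem _)⟩ (by
      rintro _ ⟨ha, x, hx, y, hy, rfl⟩ b ⟨hb, x', hx', y', hy', e⟩
      refine ⟨mul_mem ha hb, ?_⟩
      have h2 : ⁅b⁻¹, y⁆ ∈ M := (inv_mem hb).2.2 y (hY hy)
      have h3 := CfsgH2.conj_mem_of_le_normalizer hRM (hY hy') h2
      have := k _ (mul_mem hx hx') _ h3 _ (mul_mem hy' hy)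
      rwa [show x * x' * (y' * ⁅b⁻¹, y⁆ * y'⁻¹) * (y' * y) = x * y * b by
        rw [e]; simp only [commutatorElement_def]; group] at this)
    have : M1 ≤ S := CfsgH2.le_of_noncyclic hB hnc
      (CfsgH2.le_normalizer_inf hBR (le_normalizer_cMod hBR hBM))
      (CfsgH2.coprime_mono hc le_rfl inf_le_left) fun b hb b1 g hg => ⟨hg.1, h b hb b1 g ⟨hg.1.1, hg.2⟩⟩
    exact fun g hg => (this hg).2
  have h2 := hmax M1 ⟨inf_le_left, CfsgH2.le_normalizer_inf le_normalizer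
    (le_normalizer_cMod le_normalizer hRM), CfsgH2.le_normalizer_inf hBR (le_normalizer_cMod hBR hBM),
    h1⟩ (le_inf hMR (le_cMod_self hRM))
  by_contra hcon
  have hlt : M < R := lt_of_le_of_ne hMR fun e => hcon (e ▸ hM)
  obtain ⟨U, hU, hUM, hc⟩ := CfsgH2.exists_central_mod_of_nilpotent hR le_rfl le_normalizer
    (not_le_of_gt hlt)
  exact hUM (h2 ▸ le_inf hU (le_cMod_iff.mpr ⟨hU.trans hRM, hc⟩))

/-- Kurzweil–Stellmacher 11.2.1 -/
theorem ks {B K X Y : Subgroup G} (hB : IsMulCommutative B) (hnc : ¬ IsCyclic B)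
    (hBK : B ≤ 𝒩 K) (hc : (#B).Coprime #K) (hX : X ≤ K) (hY : Y ≤ K) (hBX : B ≤ 𝒩 X)
    (hBY : B ≤ 𝒩 Y) (hCX : K ⊓ 𝒞 B ≤ 𝒩 X)
    (h : ∀ b ∈ B, b ≠ 1 → ∀ g ∈ K ⊓ 𝒞₁ b, Prd X Y g) : ∀ g ∈ K, Prd X Y g := by
  have hs := CfsgH2.isSolvable_of_isMulCommutative hB
  have co : ∀ {U : Subgroup G}, U ≤ K → (#B).Coprime #U := fun hU =>
    CfsgH2.coprime_mono hc le_rfl hU
  rw [prd_iff_card hX hY]
  refine Nat.eq_of_factorization_eq (Nat.mul_pos Nat.card_pos Nat.card_pos).ne'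
    (Nat.mul_pos Nat.card_pos Nat.card_pos).ne' fun r => ?_
  by_cases hr : ¬ r.Prime
  · rw [Nat.factorization_eq_zero_of_not_prime _ hr, Nat.factorization_eq_zero_of_not_prime _ hr]
  haveI : Fact r.Prime := ⟨not_not.mp hr⟩
  have hBD := CfsgH2.le_normalizer_inf hBX hBY
  obtain ⟨D, hD, hDn⟩ := CfsgH2.exists_invariant_sylow r hBD (co (inf_le_left.trans hX)) (Or.inl hs)
  obtain ⟨RY, hRY, hRYn, hDY⟩ := CfsgH2.exists_invariant_sylow_ge hBY (co hY) (Or.inl hs) hD.2.1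
    (hD.1.trans inf_le_right) hDn
  obtain ⟨R, hR, hRn, hYR⟩ := CfsgH2.exists_invariant_sylow_ge hBK hc (Or.inl hs) hRY.2.1
    (hRY.1.trans hY) hRYn
  have sX : IsSylowOf r (R ⊓ X) X := by
    obtain ⟨RX, hRX, hRXn⟩ := CfsgH2.exists_invariant_sylow r hBX (co hX) (Or.inl hs)
    obtain ⟨R', hR', hR'n, hXR⟩ := CfsgH2.exists_invariant_sylow_ge hBK hc (Or.inl hs) hRX.2.1
      (hRX.1.trans hX) hRXn
    obtain ⟨c, hcc, e⟩ := CfsgH2.invariant_sylow_conj hBK hc (Or.inl hs) hR' hR hR'n hRn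
    have h1 := hRX.cj_of_mem_normalizer (hCX hcc)
    rwa [h1.eq_of_le hR.2.1.to_inf_left (le_inf (e ▸ cj_mono c hXR) h1.1) inf_le_right]
  have sY : IsSylowOf r (R ⊓ Y) Y := by
    rwa [hRY.eq_of_le hR.2.1.to_inf_left (le_inf hYR hRY.1) inf_le_right]
  have sD : IsSylowOf r (R ⊓ X ⊓ (R ⊓ Y)) (X ⊓ Y) := by
    rwa [hD.eq_of_le hR.2.1.to_inf_left.to_inf_left (le_inf (le_inf (hDY.trans hYR)
      (hD.1.trans inf_le_left)) (le_inf (hDY.trans hYR) (hD.1.trans inf_le_right)))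
      (inf_le_inf inf_le_right inf_le_right)]
  rw [← sylow_card_mul hR sD sX sY, ← prd_iff_card inf_le_left inf_le_left]
  refine ks_nil hB hnc hRn (co hR.1) hR.2.1.isNilpotent inf_le_left inf_le_left
    fun b hb b1 g hg => ?_
  have hb' : zpowers b ≤ B := zpowers_le.mpr hb
  have hs' := CfsgH2.isSolvable_of_le hb' hs
  have co' : ∀ {U : Subgroup G}, U ≤ K → (#(zpowers b)).Coprime #U := fun hU =>
    CfsgH2.coprime_mono hc hb' hU
  have hRX := CfsgH2.le_normalizer_inf hRn hBX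
  have hRY' := CfsgH2.le_normalizer_inf hRn hBY
  have t1 := hR.inf_centralizer (hb'.trans hBK) (co' le_rfl) (Or.inl hs') (hb'.trans hRn)
  have t2 := sX.inf_centralizer (hb'.trans hBX) (co' hX) (Or.inl hs') (hb'.trans hRX)
  have t3 := sY.inf_centralizer (hb'.trans hBY) (co' hY) (Or.inl hs') (hb'.trans hRY')
  have t4 := sD.inf_centralizer (hb'.trans hBD) (co' (inf_le_left.trans hX)) (Or.inl hs')
    (hb'.trans (CfsgH2.le_normalizer_inf hRX hRY'))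
  have e1 : ∀ U V : Subgroup G, U ⊓ V ⊓ 𝒞 (zpowers b) = U ⊓ 𝒞 (zpowers b) ⊓ (V ⊓ 𝒞 (zpowers b)) :=
    fun U V => inf_inf_distrib_right _ _ _
  rw [e1 (R ⊓ X), e1 X] at t4
  have t5 := (prd_iff_card (K := K ⊓ 𝒞 (zpowers b)) (inf_le_inf_right _ hX)
    (inf_le_inf_right _ hY)).mp fun g hg => (h b hb b1 g (CfsgFT.centralizer_zpowers b ▸ hg)).fix
      (hb'.trans hBX) (hb'.trans hBY) (co' (inf_le_left.trans hX)) hs' hg.2
  have t6 := (prd_iff_card (K := R ⊓ 𝒞 (zpowers b)) (inf_le_inf_right _ inf_le_left)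
    (inf_le_inf_right _ inf_le_left)).mpr ((sylow_card_mul t1 t4 t2 t3).mpr (by rw [t5])) g
    (by rw [CfsgFT.centralizer_zpowers]; exact hg)
  exact t6.mono inf_le_left inf_le_left

theorem solv_sup {N K : Subgroup G} (hn : K ≤ 𝒩 N) (hN : Group.IsSolvable N)
    (hK : Group.IsSolvable K) : Group.IsSolvable (N ⊔ K : Subgroup G) := by
  rw [← qc_qm hn]; exact isSolvable_qc hN (isSolvable_qm hK)

theorem not_dvd_sup {q : ℕ} (hq : q.Prime) {N K : Subgroup G} (hn : K ≤ 𝒩 N) (hN : ¬ q ∣ #N)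
    (hK : ¬ q ∣ #K) : ¬ q ∣ #(N ⊔ K) := fun h => by
  rw [sup_comm] at h
  exact ((Nat.Prime.dvd_mul hq).mp (h.trans (card_sup_dvd_of_le_normalizer hn))).elim hK hN

variable {q : ℕ} [hq : Fact q.Prime]

/-- a `q'`-subgroup normalised by a Sylow `q`-subgroup lies in `O_{q'}` -/
theorem le_core_of_sylow {H T Y : Subgroup G} (hs : Group.IsSolvable H) (hT : IsSylowOf q T H)
    (hY : Y ≤ H) (hYq : ¬ q ∣ #Y) (hn : T ≤ 𝒩 Y) : Y ≤ pPrimeCoreOf q H := by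
  have h1 := hT.inf_of_normal (ppCoreOf_le q H) (le_normalizer_ppCoreOf q H)
  refine le_pPrimeCoreOf_of_ppCoreOf inf_le_right h1.2.1 hY hYq (inf_le_left.trans hn) ?_
  exact le_pPrimeCoreOf_of_le_ppCoreOf ((inf_le_inf_right _ hY).trans (bg1_15a hs h1))
    (not_dvd_card_of_le hYq inf_le_left)

theorem abel_sylow_fact {H Z : Subgroup G} (hs : Group.IsSolvable H) (hZ : IsSylowOf q Z H)
    (hab : IsMulCommutative Z) : pPrimeCoreOf q H ⊔ (H ⊓ 𝒩 Z) = H := by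
  have h1 := hZ.inf_of_normal (ppCoreOf_le q H) (le_normalizer_ppCoreOf q H)
  have h2 : Z ≤ ppCoreOf q H := (le_inf hZ.1 ((isMulCommutative_iff_le.mp hab).trans
    (centralizer_anti' inf_le_left))).trans (bg1_15a hs h1)
  rw [inf_eq_left.mpr h2] at h1
  refine sup_inf_normalizer_eq pPrimeCoreOf_le le_normalizer_pPrimeCoreOf
    (not_dvd_card_pPrimeCoreOf q H) hZ.1 hZ.2.1 ?_
  rw [sup_eq_ppCoreOf h1]; exact le_normalizer_ppCoreOf q H

theorem zj_solv (hq3 : 3 < q) {X S : Subgroup G} (hs : Group.IsSolvable X) (hS : IsSylowOf q S X) :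
    pPrimeCoreOf q X ⊔ (X ⊓ 𝒩 (ZJ S)) = X := by
  have hp : q ≠ 2 := by omega
  have core : ∀ {G : Type _} [Group G] [Finite G] {H S : Subgroup G}, Group.IsSolvable H →
      IsSylowOf q S H → pPrimeCoreOf q H = ⊥ → H ≤ 𝒩 (ZJ S) := by
    intro G _ _ H S hs hS h0
    have h1 := (isSylowOf_iff_isSylowIn.mp hS).subgroupOf le_rfl
    rw [subgroupOf_self] at h1
    have h2 := (CfsgH3.pStab_of_not_isSec hp (CfsgH3.not_isSec_QD_of_isSolvable hq3 (G := H))).nStab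
      (S.subgroupOf H)
    have h3 : CfsgH3.Constr q H := centralizer_pCore_le (isPSolvable_of_isSolvable hs)
      (pPrimeCoreOf_eq_bot_iff.mp h0)
    haveI := CfsgH3.zj_normal (Or.inl rfl) hp h1 h2 h3
    have := CfsgH2.le_normalizer_map_subtype (ctr (CfsgH3.JJ 0 (S.subgroupOf H)))
    rwa [← ZJ_eq, ← ZJ_subgroupOf hS.1 hS.2.1, map_subgroupOf_eq_of_le ((ZJ_le S).trans hS.1)]
      at this
  have hN : X ≤ 𝒩 (pPrimeCoreOf q X) := le_normalizer_pPrimeCoreOf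
  have hZ := (ZJ_le S).trans hS.1
  refine sup_inf_normalizer_eq pPrimeCoreOf_le hN (not_dvd_card_pPrimeCoreOf q X) hZ
    (hS.2.1.to_le (ZJ_le S)) ?_
  have hd : ¬ q ∣ #(pPrimeCoreOf q X ⊓ X) := by
    rw [inf_eq_left.mpr pPrimeCoreOf_le]; exact not_dvd_card_pPrimeCoreOf q X
  have := core (isSolvable_qm hs) (sylow_qm hN hS) (by rw [← qm_pPrimeCoreOf hN hd, qm_self])
  rwa [← qm_ZJ (hS.1.trans hN) hS.2.1 ((inf_comm _ _).trans (CfsgH1.inf_eq_bot_of_pgroup_of_not_dvd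
    hS.2.1 (not_dvd_card_pPrimeCoreOf q X))), qm_le_normalizer_iff hN (hZ.trans hN)] at this

end CfsgSig
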