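import Cfsg.Agent.H2.Sig0

/-! Quadratic action on a module of functions. -/

set_option autoImplicit false
set_option linter.unusedSectionVars false
set_option linter.style.haveILetI false

namespace CfsgSig

open Subgroup CfsgL0 CfsgFT
open scoped commutatorElement

variable {q : ℕ} [hq : Fact q.Prime]

theorem quad_ext (hq3 : 3 < q) {Γ V : Type*} [Group Γ] [Finite Γ] [Group V] [Finite V]
    [Group.IsSolvable Γ] [Group.IsSolvable V] (φ : Γ →* MulAut V) {U : Subgroup V}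
    (hUq : IsPGroup q U) (hU : ∀ g, ∀ v ∈ U, φ g v ∈ U) (hf : ∀ g, (∀ v ∈ U, φ g v = v) → g = 1)
    {Z Y : Subgroup Γ} (hY : ¬ q ∣ #Y) (hn : Z ≤ 𝒩 Y)
    (hquad : ∀ z ∈ Z, ∀ z' ∈ Z, ∀ v ∈ U, φ z' (v * φ z v⁻¹) = v * φ z v⁻¹) : Z ≤ 𝒞 Y := by
  haveI := CfsgH2.sd_finite φ
  haveI : Group.IsSolvable (V ⋊[φ] Γ) := Group.isSolvable_of_ker_le_range
    (SemidirectProduct.inl : V →* V ⋊[φ] Γ) SemidirectProduct.rightHom
    SemidirectProduct.range_inl_eq_ker_rightHom.ge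
  have hst := CfsgH3.pStab_of_not_isSec (p := q) (by omega)
    (CfsgH3.not_isSec_QD_of_isSolvable hq3 (G := V ⋊[φ] Γ))
  set P := U.map (SemidirectProduct.inl : V →* V ⋊[φ] Γ) with hP
  have hN : ∀ g : Γ, (SemidirectProduct.inr g : V ⋊[φ] Γ) ∈ 𝒩 P := fun g =>
    mem_normalizer_of_conj_mem (by
      rintro _ ⟨v, hv, rfl⟩
      exact ⟨φ g v, hU g v hv, (CfsgH2.sd_conj φ g v).symm⟩)
  intro z hz y hy
  set R := Z.map (SemidirectProduct.inr : Γ →* V ⋊[φ] Γ) with hR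
  have h1 : ⁅⁅P, R⁆, R⁆ = ⊥ := by
    rw [commutator_eq_bot_iff_le_centralizer, commutator_le]
    rintro _ ⟨v, hv, rfl⟩ _ ⟨a, ha, rfl⟩ _ ⟨b, hb, rfl⟩
    have e : ⁅(SemidirectProduct.inl v : V ⋊[φ] Γ), (SemidirectProduct.inr a : V ⋊[φ] Γ)⁆ =
        SemidirectProduct.inl (v * φ a v⁻¹) := by
      rw [map_mul, ← CfsgH2.sd_conj, map_inv, commutatorElement_def]; group
    rw [e]
    exact ((CfsgH2.sd_commute_iff φ).mpr (hquad a ha b hb v hv)).symm
  have hz' : zpowers (SemidirectProduct.inr z : V ⋊[φ] Γ) ≤ R := zpowers_le.mpr ⟨z, hz, rfl⟩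
  obtain ⟨X, hzX, -, hXn, hX⟩ := hst P (hUq.map _) _ (hN z)
    (le_bot_iff.mp ((commutator_mono (commutator_mono le_rfl hz') hz').trans h1.le))
  have h2 : (SemidirectProduct.inr ⁅y, z⁆ : V ⋊[φ] Γ) ∈ X := by
    rw [map_commutatorElement, commutatorElement_def]
    exact mul_mem (CfsgH2.conj_mem_of_le_normalizer hXn (hN y) hzX) (inv_mem hzX)
  obtain ⟨k, hk⟩ := hX _ h2
  rw [← map_pow] at hk
  have h3 := hf _ fun v hv => (CfsgH2.sd_commute_iff φ).mp (hk _ ⟨v, hv, rfl⟩)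
  have h4 : ⁅y, z⁆ ∈ Y := by
    rw [commutatorElement_def, mul_assoc, mul_assoc, ← mul_assoc z]
    exact mul_mem hy (CfsgH2.conj_mem_of_le_normalizer hn hz (inv_mem hy))
  have h5 : orderOf ⁅y, z⁆ = 1 := Nat.eq_one_of_dvd_coprimes
    (Nat.Coprime.pow_left k ((Nat.Prime.coprime_iff_not_dvd hq.out).mpr hY))
    (orderOf_dvd_of_pow_eq_one h3) (orderOf_dvd_natCard _ h4)
  exact commutatorElement_eq_one_iff_mul_comm.mp (orderOf_eq_one_iff.mp h5)

variable {G : Type*} [Group G] [Finite G]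

theorem cent_of_core (hq3 : 3 < q) {K Z Y Z0 : Subgroup G} (hZ : IsPGroup q Z)
    (hab : IsMulCommutative Z) (hK : ¬ q ∣ #K) (hL : ∀ g ∈ K ⊔ Z, Prd Z K g) (hY : Y ≤ K)
    (hYs : Group.IsSolvable Y) (hZ0 : Z0 ≤ Z) (hn : Z0 ≤ 𝒩 Y)
    (hf : ∀ k ∈ K, Prd (K ⊓ 𝒩 Z) Y k) (hX : ∀ g : G, (∀ z ∈ Z, z⁻¹ * g * z ∈ K) → g = 1) :
    Z0 ≤ 𝒞 Y := by
  classical
  have hc : ∀ a b : Z, a * b = b * a := hab.1.1
  have hd : ∀ x ∈ Z, x ∈ K → x = 1 := fun x h1 h2 => by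
    have : x ∈ Z ⊓ K := ⟨h1, h2⟩
    rwa [CfsgH1.inf_eq_bot_of_pgroup_of_not_dvd hZ hK] at this
  let ι : G → Z := fun g => if h : Prd Z K g then ⟨h.choose, h.choose_spec.1⟩ else 1
  have hι : ∀ z : Z, ∀ k ∈ K, ι (z * k) = z := fun z k hk => by
    have h : Prd Z K (z * k) := ⟨z, z.2, k, hk, rfl⟩
    obtain ⟨h1, k', hk', e⟩ := h.choose_spec
    simp only [ι, dif_pos h]
    refine Subtype.ext ?_
    have h2 : (z : G)⁻¹ * h.choose = k * k'⁻¹ := by
      rw [inv_mul_eq_iff_eq_mul, ← mul_assoc, eq_mul_inv_iff_mul_eq]; exact e.symm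
    have := hd _ (mul_mem (inv_mem z.2) h1) (h2 ▸ mul_mem hk (inv_mem hk'))
    exact (inv_mul_eq_one.mp this).symm
  have hι' : ∀ g, g ∉ K ⊔ Z → ι g = 1 := fun g hg =>
    dif_neg fun h => hg (h.mem le_sup_right le_sup_left)
  set Γ := Y ⊔ Z0 with hΓ
  have hΓL : Γ ≤ K ⊔ Z := sup_le_sup hY hZ0
  haveI : Group.IsSolvable Γ := solv_sup hn hYs
    (CfsgH2.isSolvable_of_isPGroup (hZ.to_le hZ0))
  letI : CommGroup Z := { (inferInstance : Group Z) with mul_comm := hc }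
  let U : Subgroup (G → Z) :=
    { carrier := {f | ∀ g ∈ Γ, ∀ a ∈ Z0, ∀ b ∈ Z0, ∀ x,
        f (g * a * b * x) * f (g * x) = f (g * a * x) * f (g * b * x)}
      one_mem' := fun _ _ _ _ _ _ _ => rfl
      mul_mem' := fun {f f'} h h' g hg a ha b hb x => by
        simp only [Pi.mul_apply]
        rw [mul_mul_mul_comm, h g hg a ha b hb x, h' g hg a ha b hb x, mul_mul_mul_comm]
      inv_mem' := fun {f} h g hg a ha b hb x => by
        simp only [Pi.inv_apply]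
        rw [← mul_inv, h g hg a ha b hb x, mul_inv] }
  let φ : Γ →* MulAut (G → Z) := mulAutArrow
  have hφ : ∀ (g : Γ) (f : G → Z) (x : G), φ g f x = f ((g : G)⁻¹ * x) := fun _ _ _ => rfl
  have hιU : ι ∈ U := fun g hg a ha b hb x => by
    by_cases hx : x ∈ K ⊔ Z
    · obtain ⟨x0, hx0, k0, hk0, rfl⟩ := hL x hx
      obtain ⟨x', hx', k', hk', e⟩ := hL _ (mul_mem (hΓL hg) (mem_sup_right hx0))
      obtain ⟨n, hn', y, hy, rfl⟩ := hf k' hk'
      have key : ∀ c (hc : c ∈ Z0), ι (g * c * (x0 * k0)) = ⟨x', hx'⟩ * ⟨n * c * n⁻¹,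
          CfsgH2.conj_mem_of_le_normalizer le_rfl hn'.2 (hZ0 hc)⟩ := fun c hc' => by
        refine Eq.trans ?_ (hι _ (n * (c⁻¹ * y * c) * k0) (mul_mem (mul_mem hn'.1
          (hY (CfsgH2.conj_mem_of_le_normalizer' hn hc' hy))) hk0))
        congr 1
        have e2 : c * x0 = x0 * c := congrArg Subtype.val (hc ⟨c, hZ0 hc'⟩ ⟨x0, hx0⟩)
        calc g * c * (x0 * k0) = g * (c * x0) * k0 := by group
          _ = (g * x0) * c * k0 := by rw [e2]; group
          _ = _ := by rw [e]; simp only [Subgroup.coe_mul]; group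
      have k1 := key 1 (one_mem _)
      rw [mul_one] at k1
      rw [mul_assoc g a b, key _ (mul_mem ha hb), k1, key a ha, key b hb, mul_mul_mul_comm]
      refine Eq.trans ?_ (mul_mul_mul_comm _ _ _ _)
      congr 1
      exact Subtype.ext (by simp only [Subgroup.coe_mul]; group)
    · have k : ∀ g ∈ K ⊔ Z, ι (g * x) = 1 := fun g hg => hι' _ fun h =>
        hx ((mul_mem_cancel_left hg).mp h)
      have h1 := hΓL hg
      have h2 : a ∈ K ⊔ Z := mem_sup_right (hZ0 ha)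
      have h3 : b ∈ K ⊔ Z := mem_sup_right (hZ0 hb)
      rw [k _ (mul_mem (mul_mem h1 h2) h3), k _ h1, k _ (mul_mem h1 h2), k _ (mul_mem h1 h3)]
  have hpi : IsPGroup q (G → Z) := by
    obtain ⟨n, hn⟩ := IsPGroup.iff_card.mp hZ
    exact fun f => ⟨n, funext fun x => by rw [Pi.pow_apply, ← hn, pow_card_eq_one', Pi.one_apply]⟩
  have main := quad_ext hq3 φ (U := U) (hpi.to_subgroup U) (fun g f hf' c hc' a ha b hb x => by
      simp only [hφ, ← mul_assoc]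
      exact hf' _ (mul_mem (inv_mem g.2) hc') a ha b hb x)
    (fun g hg => by
      have h1 := hg ι hιU
      refine Subtype.ext (inv_eq_one.mp (hX _ fun z hz => ?_))
      have h2 := congrFun h1 z
      obtain ⟨z', hz', k, hk, e⟩ := hL _ (mul_mem (inv_mem (hΓL g.2)) (mem_sup_right hz))
      have h3 := hι ⟨z, hz⟩ 1 (one_mem _)
      rw [mul_one] at h3
      rw [hφ, e, hι ⟨z', hz'⟩ k hk, h3] at h2
      rw [mul_assoc, e, show z' = z from congrArg Subtype.val h2, inv_mul_cancel_left]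
      exact hk)
    (Z := Z0.subgroupOf Γ) (Y := Y.subgroupOf Γ) (by
      rw [card_subgroupOf_of_le le_sup_left]; exact not_dvd_card_of_le hK hY)
    (subgroupOf_le_normalizer hn) (fun a ha b hb f hf' => funext fun x => by
      have := hf' 1 (one_mem _) _ (inv_mem ha) _ (inv_mem hb) x
      simp only [one_mul, Subgroup.coe_subtype] at this
      simp only [hφ, Pi.mul_apply, Pi.inv_apply, ← mul_assoc]
      rw [mul_inv_eq_iff_eq_mul, mul_right_comm, eq_mul_inv_iff_mul_eq, mul_comm (f x), this,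
        mul_comm])
  intro z hz y hy
  exact congrArg Subtype.val (main (x := ⟨z, mem_sup_right hz⟩) hz ⟨y, mem_sup_left hy⟩ hy)

end CfsgSig
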