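import Cfsg.Agent.H2.Sig0b

/-! Solvable signalizer functors: definitions, local completeness, transitivity. -/

set_option autoImplicit false
set_option linter.unusedSectionVars false
set_option linter.style.haveILetI false

namespace CfsgSig

open Subgroup CfsgL0 CfsgFT
open scoped commutatorElement

universe u

variable {G : Type*} [Group G]

/-- solvable signalizer functor of rank three -/
structure SF (p : ℕ) (A : Subgroup G) (θ : G → Subgroup G) : Prop where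
  ea : EA p 3 A
  cent : ∀ a ∈ A, a ≠ 1 → θ a ≤ 𝒞₁ a
  np : ∀ a ∈ A, a ≠ 1 → ¬ p ∣ #(θ a)
  inv : ∀ a ∈ A, a ≠ 1 → A ≤ 𝒩 (θ a)
  solv : ∀ a ∈ A, a ≠ 1 → Group.IsSolvable (θ a)
  bal : ∀ a ∈ A, a ≠ 1 → ∀ b ∈ A, b ≠ 1 → θ a ⊓ 𝒞₁ b ≤ θ b

/-- `θ`-subgroup -/
structure TS (p : ℕ) (A : Subgroup G) (θ : G → Subgroup G) (U : Subgroup G) : Prop where
  inv : A ≤ 𝒩 U
  np : ¬ p ∣ #U
  solv : Group.IsSolvable U
  le : ∀ a ∈ A, a ≠ 1 → U ⊓ 𝒞₁ a ≤ θ a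

/-- completeness -/
def Compl (p : ℕ) (A : Subgroup G) (θ : G → Subgroup G) : Prop :=
  ∃ W, TS p A θ W ∧ ∀ a ∈ A, a ≠ 1 → θ a ≤ W

/-- the size of a functor -/
noncomputable def msr (A : Subgroup G) (θ : G → Subgroup G) : ℕ :=
  Set.ncard {x : G × G | x.1 ∈ A ∧ x.1 ≠ 1 ∧ x.2 ∈ θ x.1}

/-- the situation of a minimal counterexample -/
structure LC (p : ℕ) (A : Subgroup G) (θ : G → Subgroup G) : Prop extends SF p A θ where
  loc : ∀ X, TS p A θ X → X ≠ ⊥ → ∃ W, TS p A θ W ∧ ∀ a ∈ A, a ≠ 1 → θ a ⊓ 𝒩 X ≤ W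
  sub : ∀ θ', SF p A θ' → (∀ a ∈ A, a ≠ 1 → θ' a ≤ θ a) → (∃ a ∈ A, a ≠ 1 ∧ θ' a ≠ θ a) →
    Compl p A θ'

variable [Finite G] {p : ℕ} [hp : Fact p.Prime] {A : Subgroup G} {θ : G → Subgroup G}

theorem TS.of_le {U V : Subgroup G} (h : TS p A θ U) (hV : V ≤ U) (hn : A ≤ 𝒩 V) : TS p A θ V :=
  ⟨hn, not_dvd_card_of_le h.np hV, CfsgH2.isSolvable_of_le hV h.solv,
    fun a ha a1 => (inf_le_inf_right _ hV).trans (h.le a ha a1)⟩

theorem TS.inf {U V : Subgroup G} (h : TS p A θ U) (hn : A ≤ 𝒩 V) : TS p A θ (U ⊓ V) :=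
  h.of_le inf_le_left (CfsgH2.le_normalizer_inf h.inv hn)

theorem TS.char {U V : Subgroup G} (h : TS p A θ U) (hV : V ≤ U) (hn : 𝒩 U ≤ 𝒩 V) : TS p A θ V :=
  h.of_le hV (h.inv.trans hn)

theorem le_normalizer_cent_one {a : G} (hA : IsMulCommutative A) (ha : a ∈ A) : A ≤ 𝒩 (𝒞₁ a) :=
  (le_centralizer_singleton_of_comm hA ha).trans le_normalizer

namespace SF

variable (h : SF p A θ)
include h

theorem comm : IsMulCommutative A := h.ea.comm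
theorem solvA : Group.IsSolvable A := CfsgH2.isSolvable_of_isMulCommutative h.comm
theorem ncyc : ¬ IsCyclic A := h.ea.not_isCyclic (by norm_num)

theorem cop {B U : Subgroup G} (hB : B ≤ A) (hU : ¬ p ∣ #U) : (#B).Coprime #U :=
  CfsgH2.coprime_card_of_isPGroup (h.ea.isPGroup.to_le hB) hU

theorem exists_ne : ∃ a ∈ A, a ≠ 1 := by
  by_contra hc
  push Not at hc
  exact h.ea.ne_bot (by norm_num) ((eq_bot_iff_forall _).mpr hc)

theorem ts {a : G} (ha : a ∈ A) (a1 : a ≠ 1) : TS p A θ (θ a) :=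
  ⟨h.inv a ha a1, h.np a ha a1, h.solv a ha a1, h.bal a ha a1⟩

theorem ts_bot : TS p A θ ⊥ := by
  obtain ⟨a, ha, a1⟩ := h.exists_ne
  exact (h.ts ha a1).of_le bot_le (le_normalizer_bot A)

theorem gen {U K : Subgroup G} (hn : A ≤ 𝒩 U) (hU : ¬ p ∣ #U)
    (hK : ∀ a ∈ A, a ≠ 1 → U ⊓ 𝒞₁ a ≤ K) : U ≤ K :=
  CfsgH2.le_of_noncyclic h.comm h.ncyc hn (h.cop le_rfl hU) hK

theorem le_of_compl {U W : Subgroup G} (hU : TS p A θ U) (hW : ∀ a ∈ A, a ≠ 1 → θ a ≤ W) :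
    U ≤ W := h.gen hU.inv hU.np fun a ha a1 => (hU.le a ha a1).trans (hW a ha a1)

theorem cocyc_card {B : Subgroup G} (hB : CfsgH2.IsCocyclic B A) : p ^ 2 ≤ #B := by
  have h1 := CfsgH2.card_mul_relIndex hB.1
  have h2 := Nat.le_of_dvd hp.out.pos (hB.relIndex_dvd h.comm h.ea.1.2)
  rw [h.ea.card] at h1
  by_contra hc
  have : #B * B.relIndex A < p ^ 2 * p :=
    Nat.mul_lt_mul_of_lt_of_le (not_le.mp hc) h2 hp.out.pos
  rw [h1, ← pow_succ] at this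
  exact lt_irrefl _ this

theorem cocyc_ncyc {B : Subgroup G} (hB : CfsgH2.IsCocyclic B A) : ¬ IsCyclic B := by
  obtain ⟨n, hn⟩ := exists_EA_of_isElementaryAbelian (isElementaryAbelian_mono h.ea.1 hB.1)
  have := h.cocyc_card hB
  rw [hn.card] at this
  exact hn.not_isCyclic ((Nat.pow_le_pow_iff_right hp.out.one_lt).mp this)

theorem cocyc_inf {B B' : Subgroup G} (hB : CfsgH2.IsCocyclic B A) (hB' : CfsgH2.IsCocyclic B' A) :
    ∃ a ∈ B, a ∈ B' ∧ a ≠ 1 := by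
  by_contra hc
  push Not at hc
  have h0 : B ⊓ B' = ⊥ := (eq_bot_iff_forall _).mpr fun x hx => hc x hx.1 hx.2
  have h1 := CfsgH2.card_sup_of_disjoint ((hB.1.trans (h.ea.le_centralizer.trans
    (centralizer_anti' hB'.1))).trans (centralizer_le_normalizer' _)) h0
  have h2 := card_le_of_le (sup_le hB.1 hB'.1)
  rw [h1, h.ea.card] at h2
  have h3 := (Nat.mul_le_mul (h.cocyc_card hB) (h.cocyc_card hB')).trans h2
  rw [← pow_add, Nat.pow_le_pow_iff_right hp.out.one_lt] at h3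
  omega

theorem gen' {U K : Subgroup G} (hn : A ≤ 𝒩 U) (hU : ¬ p ∣ #U)
    (hK : ∀ B, CfsgH2.IsCocyclic B A → U ⊓ 𝒞 B ≤ K) : U ≤ K :=
  CfsgH2.le_of_cocyclic h.comm hn (h.cop le_rfl hU) hK

theorem fix {X Y : Subgroup G} {a g : G} (ha : a ∈ A) (hX : A ≤ 𝒩 X) (hY : A ≤ 𝒩 Y)
    (hXp : ¬ p ∣ #X) (hg : Prd X Y g) (hc : g ∈ 𝒞₁ a) : Prd (X ⊓ 𝒞₁ a) (Y ⊓ 𝒞₁ a) g := by
  have hb := zpowers_le.mpr ha
  rw [← CfsgFT.centralizer_zpowers] at hc ⊢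
  exact hg.fix (hb.trans hX) (hb.trans hY) (h.cop hb (not_dvd_card_of_le hXp inf_le_left))
    (CfsgH2.isSolvable_of_le hb h.solvA) hc

theorem fixA {X Y : Subgroup G} {g : G} (hX : A ≤ 𝒩 X) (hY : A ≤ 𝒩 Y)
    (hXp : ¬ p ∣ #X) (hg : Prd X Y g) (hc : g ∈ 𝒞 A) : Prd (X ⊓ 𝒞 A) (Y ⊓ 𝒞 A) g :=
  hg.fix hX hY (h.cop le_rfl (not_dvd_card_of_le hXp inf_le_left)) h.solvA hc

/-- a product of `θ`-subgroups -/
theorem ts_prd {X Y L : Subgroup G} (hX : TS p A θ X) (hY : TS p A θ Y) (hXL : X ≤ L) (hYL : Y ≤ L)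
    (hL : ∀ g ∈ L, Prd X Y g) : A ≤ 𝒩 L ∧ ¬ p ∣ #L ∧ ∀ a ∈ A, a ≠ 1 → L ⊓ 𝒞₁ a ≤ θ a := by
  refine ⟨?_, fun hd => ?_, fun a ha a1 g hg => ?_⟩
  · rw [show L = X ⊔ Y from le_antisymm (fun g hg => (hL g hg).mem le_sup_left le_sup_right)
      (sup_le hXL hYL)]
    exact CfsgH2.le_normalizer_sup hX.inv hY.inv
  · have := (prd_iff_card hXL hYL).mp hL
    exact ((Nat.Prime.dvd_mul hp.out).mp (this ▸ hd.mul_right _)).elim hX.np hY.np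
  · exact (h.fix ha hX.inv hY.inv hX.np (hL g hg.1) hg.2).mem (hX.le a ha a1) (hY.le a ha a1)

theorem ts_sup {X Y : Subgroup G} (hX : TS p A θ X) (hY : TS p A θ Y) (hn : Y ≤ 𝒩 X) :
    TS p A θ (X ⊔ Y) := by
  obtain ⟨h1, h2, h3⟩ := h.ts_prd hX hY le_sup_left le_sup_right fun g hg => prd_of_sup hn hg
  exact ⟨h1, h2, solv_sup hn hX.solv hY.solv, h3⟩

theorem exists_sylow {q : ℕ} [Fact q.Prime] {U T : Subgroup G} (hU : TS p A θ U)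
    (hT : IsPGroup q T) (hTU : T ≤ U) (hn : A ≤ 𝒩 T) :
    ∃ P, IsSylowOf q P U ∧ TS p A θ P ∧ T ≤ P := by
  obtain ⟨P, h1, h2, h3⟩ := CfsgH2.exists_invariant_sylow_ge hU.inv (h.cop le_rfl hU.np)
    (Or.inl h.solvA) hT hTU hn
  exact ⟨P, h1, hU.of_le h1.1 h2, h3⟩

theorem exists_sylow' (q : ℕ) [Fact q.Prime] {U : Subgroup G} (hU : TS p A θ U) :
    ∃ P, IsSylowOf q P U ∧ TS p A θ P :=
  (h.exists_sylow hU IsPGroup.of_bot bot_le (le_normalizer_bot A)).imp fun _ h => ⟨h.1, h.2.1⟩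

theorem sylow_fix {q : ℕ} [Fact q.Prime] {U P : Subgroup G} {a : G} (ha : a ∈ A) (hU : TS p A θ U)
    (hP : IsSylowOf q P U) (hn : A ≤ 𝒩 P) : IsSylowOf q (P ⊓ 𝒞₁ a) (U ⊓ 𝒞₁ a) := by
  have hb := zpowers_le.mpr ha
  rw [← CfsgFT.centralizer_zpowers]
  exact hP.inf_centralizer (hb.trans hU.inv) (h.cop hb hU.np)
    (Or.inr hU.solv) (hb.trans hn)

end SF

/-- the fixed subgroup `θ(A)` -/
def HH (A : Subgroup G) (θ : G → Subgroup G) : Subgroup G :=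
  (⨅ a : {a : G // a ∈ A ∧ a ≠ 1}, θ a) ⊓ 𝒞 A

theorem HH_le {a : G} (ha : a ∈ A) (a1 : a ≠ 1) : HH A θ ≤ θ a :=
  inf_le_left.trans (iInf_le_of_le ⟨a, ha, a1⟩ le_rfl)

theorem HH_le_cent : HH A θ ≤ 𝒞 A := inf_le_right

theorem TS.le_HH {U : Subgroup G} (hU : TS p A θ U) : U ⊓ 𝒞 A ≤ HH A θ :=
  le_inf (le_iInf fun a => (inf_le_inf_left _ (centralizer_le_centralizer_singleton a.2.1)).trans
    (hU.le a a.2.1 a.2.2)) inf_le_right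

theorem cj_eq_of_cent {g : G} (hg : g ∈ 𝒞 A) : cj g A = A := cj_eq_of_mem_centralizer hg

theorem cj_cent_one {g a : G} (hg : g ∈ 𝒞₁ a) : cj g (𝒞₁ a) = 𝒞₁ a := cj_eq_of_mem hg

theorem TS.cj {U : Subgroup G} (hU : TS p A θ U) {g : G} (hg : g ∈ HH A θ) : TS p A θ (cj g U) := by
  refine ⟨?_, by rw [card_cj]; exact hU.np, ?_, fun a ha a1 => ?_⟩
  · rw [← cj_eq_of_cent hg.2, ← cj_normalizer]; exact cj_mono g hU.inv
  · haveI := hU.solv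
    exact Group.isSolvable_of_surjective (MonoidHom.subgroupMap_surjective _ U)
  · rw [← cj_cent_one (centralizer_le_centralizer_singleton ha hg.2), ← cj_inf,
      ← cj_eq_of_mem (HH_le ha a1 hg)]
    exact cj_mono g (hU.le a ha a1)

theorem SF.sylow_conj (h : SF p A θ) {q : ℕ} [Fact q.Prime] {U P Q : Subgroup G} (hU : TS p A θ U)
    (hP : IsSylowOf q P U) (hQ : IsSylowOf q Q U) (hPn : A ≤ 𝒩 P) (hQn : A ≤ 𝒩 Q) :
    ∃ g ∈ HH A θ, g ∈ U ∧ cj g P = Q := by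
  obtain ⟨c, hc, e⟩ := CfsgH2.invariant_sylow_conj hU.inv (h.cop le_rfl hU.np) (Or.inl h.solvA)
    hP hQ hPn hQn
  exact ⟨c, hU.le_HH hc, hc.1, e⟩

/-! ### the induction -/

theorem msr_lt {θ' : G → Subgroup G} (h : ∀ a ∈ A, a ≠ 1 → θ' a ≤ θ a)
    (hne : ∃ a ∈ A, a ≠ 1 ∧ θ' a ≠ θ a) : msr A θ' < msr A θ := by
  obtain ⟨a, ha, a1, hne⟩ := hne
  obtain ⟨x, hx, hx'⟩ := SetLike.exists_of_lt (lt_of_le_of_ne (h a ha a1) hne)
  exact Set.ncard_lt_ncard ⟨fun y hy => ⟨hy.1, hy.2.1, h _ hy.1 hy.2.1 hy.2.2⟩,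
    fun hc => hx' (hc (a := (a, x)) ⟨ha, a1, hx⟩).2.2⟩

theorem SF.loc_of_ih (h : SF p A θ) {X : Subgroup G} (hX : TS p A θ X) (h0 : X ≠ ⊥)
    (ih : ∀ (A' : Subgroup (Qt X)) (θ' : Qt X → Subgroup (Qt X)), SF p A' θ' →
      msr A' θ' < msr A θ → Compl p A' θ') :
    ∃ W, TS p A θ W ∧ ∀ a ∈ A, a ≠ 1 → θ a ⊓ 𝒩 X ≤ W := by
  classical
  have hAX := hX.inv
  have hd : X ⊓ A = ⊥ := by
    rw [inf_comm]; exact CfsgH1.inf_eq_bot_of_pgroup_of_not_dvd h.ea.isPGroup hX.np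
  have hinj : ∀ a (ha : a ∈ A) b (hb : b ∈ A), qp X ⟨a, hAX ha⟩ = qp X ⟨b, hAX hb⟩ → a = b :=
    fun a ha b hb e => by
      have : a⁻¹ * b ∈ X ⊓ A := ⟨qp_eq_iff.mp e, A.mul_mem (A.inv_mem ha) hb⟩
      rw [hd] at this
      exact inv_mul_eq_one.mp this
  have hne : ∀ a (ha : a ∈ A), qp X ⟨a, hAX ha⟩ ≠ 1 ↔ a ≠ 1 := fun a ha =>
    not_congr ⟨fun e => hinj a ha 1 (one_mem _) e, fun e => by subst e; rfl⟩
  let θ' : Qt X → Subgroup (Qt X) := fun y =>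
    if hy : y ∈ qm X A then qm X (θ hy.choose ⊓ 𝒩 X) else ⊥
  have hθ : ∀ a (ha : a ∈ A), θ' (qp X ⟨a, hAX ha⟩) = qm X (θ a ⊓ 𝒩 X) := fun a ha => by
    have hy : qp X ⟨a, hAX ha⟩ ∈ qm X A := qp_mem_qm ha
    simp only [θ', dif_pos hy]
    rw [show (hy.choose : G) = a from hinj _ hy.choose_spec.1 a ha hy.choose_spec.2]
  have hT : ∀ a ∈ A, a ≠ 1 → TS p A θ (X ⊔ θ a ⊓ 𝒩 X) := fun a ha a1 =>
    h.ts_sup hX ((h.ts ha a1).inf (CfsgH2.le_normalizer_normalizer hAX)) inf_le_right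
  have hfix : ∀ b (hb : b ∈ A) (U : Subgroup G), U ≤ 𝒩 X → X ≤ U →
      qm X U ⊓ 𝒞₁ (qp X ⟨b, hAX hb⟩) = qm X (U ⊓ 𝒞₁ b) := fun b hb U hU hXU => by
    have hb' := zpowers_le.mpr hb
    rw [← CfsgFT.centralizer_zpowers, ← CfsgFT.centralizer_zpowers,
      qm_inf_centralizer (hb'.trans hAX) hU hXU (h.cop hb' hX.np) (Or.inr hX.solv),
      ← qm_zpowers ⟨b, hAX hb⟩]
  have hSF : SF p (qm X A) θ' := by
    refine ⟨⟨isElementaryAbelian_qm h.ea.1, ?_⟩, ?_, ?_, ?_, ?_, ?_⟩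
    · have := CfsgH2.card_inf_mul_relIndex A X
      rw [inf_comm, hd, card_bot, one_mul] at this
      rw [card_qm hAX, this, h.ea.card]
    · rintro _ ⟨⟨a, _⟩, ha, rfl⟩ a1
      rw [hθ a ha, ← CfsgFT.centralizer_zpowers, ← qm_zpowers]
      refine qm_le_centralizer ?_
      rw [CfsgFT.centralizer_zpowers]
      exact inf_le_left.trans (h.cent a ha ((hne a ha).mp a1))
    · rintro _ ⟨⟨a, _⟩, ha, rfl⟩ a1
      rw [hθ a ha]
      exact not_dvd_card_qm (not_dvd_card_of_le (h.np a ha ((hne a ha).mp a1)) inf_le_left)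
    · rintro _ ⟨⟨a, _⟩, ha, rfl⟩ a1
      rw [hθ a ha]
      exact qm_le_normalizer ((h.ts ha ((hne a ha).mp a1)).inf
        (CfsgH2.le_normalizer_normalizer hAX)).inv
    · rintro _ ⟨⟨a, _⟩, ha, rfl⟩ a1
      rw [hθ a ha]
      exact isSolvable_qm (CfsgH2.isSolvable_of_le inf_le_left (h.solv a ha ((hne a ha).mp a1)))
    · rintro _ ⟨⟨a, _⟩, ha, rfl⟩ a1 _ ⟨⟨b, _⟩, hb, rfl⟩ b1
      have hn : X ⊔ θ a ⊓ 𝒩 X ≤ 𝒩 X := sup_le le_normalizer inf_le_right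
      rw [hθ a ha, hθ b hb, ← qm_sup_self inf_le_right, hfix b hb _ hn le_sup_left]
      exact qm_mono (le_inf ((hT a ha ((hne a ha).mp a1)).le b hb ((hne b hb).mp b1))
        (inf_le_left.trans hn))
  have hlt : msr (qm X A) θ' < msr A θ := by
    let π : G → Qt X := fun g => if hg : g ∈ 𝒩 X then qp X ⟨g, hg⟩ else 1
    have hπ : ∀ g (hg : g ∈ 𝒩 X), π g = qp X ⟨g, hg⟩ := fun g hg => dif_pos hg
    let S : Set (G × G) := {x | x.1 ∈ A ∧ x.1 ≠ 1 ∧ x.2 ∈ θ x.1}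
    have h1 : msr (qm X A) θ' ≤ (Prod.map π π '' S).ncard := Set.ncard_le_ncard (by
      rintro ⟨_, y⟩ ⟨⟨⟨a, _⟩, ha, rfl⟩, a1, hy⟩
      rw [hθ a ha] at hy
      obtain ⟨x, hx, rfl⟩ := hy
      exact ⟨(a, x), ⟨ha, (hne a ha).mp a1, hx.1⟩, Prod.ext (hπ a _) (hπ x x.2)⟩)
    refine h1.trans_lt (lt_of_le_of_ne (Set.ncard_image_le) fun e => h0 ?_)
    have h2 := Set.injOn_of_ncard_image_eq e
    refine le_bot_iff.mp (h.gen hAX hX.np fun a ha a1 x hx => ?_)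
    have := h2 (x₁ := (a, x)) (x₂ := (a, 1)) ⟨ha, a1, hX.le a ha a1 hx⟩ ⟨ha, a1, one_mem _⟩
      (Prod.ext rfl (by
        simp only [Prod.map_snd]
        rw [hπ x (le_normalizer hx.1), hπ 1 (one_mem _), qp_eq_one_iff.mpr hx.1]; rfl))
    exact congrArg Prod.snd this
  obtain ⟨W, hW, hle⟩ := ih _ _ hSF hlt
  refine ⟨qc X W, ⟨le_normalizer_qc hAX hW.inv, ?_, isSolvable_qc hX.solv hW.solv,
    fun a ha a1 => ?_⟩, fun a ha a1 => ?_⟩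
  · rw [card_qc]
    exact fun hd => ((Nat.Prime.dvd_mul hp.out).mp hd).elim hW.np hX.np
  · have h1 := hW.le _ (qp_mem_qm (x := ⟨a, hAX ha⟩) ha) ((hne a ha).mpr a1)
    rw [← qm_qc W, hfix a ha _ (qc_le_normalizer W) (le_qc W), hθ a ha,
      qm_le_qm_iff (inf_le_left.trans (qc_le_normalizer W)) inf_le_right] at h1
    exact (le_inf h1 inf_le_right).trans ((hT a ha a1).le a ha a1)
  · rw [← qm_le_iff inf_le_right, ← hθ a ha]
    exact hle _ (qp_mem_qm (x := ⟨a, hAX ha⟩) ha) ((hne a ha).mpr a1)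

theorem compl_of_lc (p : ℕ) [Fact p.Prime]
    (main : ∀ (G : Type u) [Group G] [Finite G] (A : Subgroup G) (θ : G → Subgroup G),
      LC p A θ → Compl p A θ) (n : ℕ) :
    ∀ (G : Type u) [Group G] [Finite G] (A : Subgroup G) (θ : G → Subgroup G),
      SF p A θ → msr A θ = n → Compl p A θ := by
  induction n using Nat.strong_induction_on with
  | _ n ih =>
  intro G _ _ A θ h hn
  exact main G A θ ⟨h, fun X hX h0 => h.loc_of_ih hX h0 fun A' θ' h' hlt =>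
    ih _ (hn ▸ hlt) _ A' θ' h' rfl, fun θ' h' hle hne => ih _ (hn ▸ msr_lt hle hne) G A θ' h' rfl⟩

/-! ### consequences of local completeness -/

/-- `W = N_θ(X)` -/
structure IsN (p : ℕ) (A : Subgroup G) (θ : G → Subgroup G) (X W : Subgroup G) : Prop where
  ts : TS p A θ W
  le : W ≤ 𝒩 X
  max : ∀ U, TS p A θ U → U ≤ 𝒩 X → U ≤ W

/-- maximal `θ`-`q`-subgroup -/
structure MaxQ (p : ℕ) (A : Subgroup G) (θ : G → Subgroup G) (q : ℕ) (S : Subgroup G) : Prop where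
  ts : TS p A θ S
  pg : IsPGroup q S
  max : ∀ U, TS p A θ U → IsPGroup q U → S ≤ U → U = S

theorem exists_maxQ {q : ℕ} {T : Subgroup G} (hT : TS p A θ T) (hq : IsPGroup q T) :
    ∃ S, MaxQ p A θ q S ∧ T ≤ S := by
  obtain ⟨S, h1, h2, h3⟩ := exists_max_subgroup (fun U => TS p A θ U ∧ IsPGroup q U) ⟨hT, hq⟩
  exact ⟨S, ⟨h1.1, h1.2, fun U a b c => h3 U ⟨a, b⟩ c⟩, h2⟩

theorem MaxQ.cj {q : ℕ} {S : Subgroup G} (h : MaxQ p A θ q S) {g : G} (hg : g ∈ HH A θ) :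
    MaxQ p A θ q (cj g S) := ⟨h.ts.cj hg, isPGroup_cj g h.pg, fun U a b c => by
  rw [← h.max (CfsgH1.cj g⁻¹ U) (a.cj (inv_mem hg)) (isPGroup_cj _ b) (cj_le_iff_le_cj_inv.mp c),
    cj_cj_inv]⟩

namespace LC

variable (h : LC p A θ)
include h

theorem exists_N {X : Subgroup G} (hX : TS p A θ X) (h0 : X ≠ ⊥) : ∃ W, IsN p A θ X W := by
  obtain ⟨W, hW, hle⟩ := h.loc X hX h0
  exact ⟨W ⊓ 𝒩 X, hW.inf (CfsgH2.le_normalizer_normalizer hX.inv), inf_le_right, fun U hU hn =>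
    le_inf (h.gen hU.inv hU.np fun a ha a1 => (le_inf (hU.le a ha a1) (inf_le_left.trans hn)).trans
      (hle a ha a1)) hn⟩

theorem compl_of_norm {X : Subgroup G} (hX : TS p A θ X) (h0 : X ≠ ⊥)
    (hn : ∀ a ∈ A, a ≠ 1 → θ a ≤ 𝒩 X) : Compl p A θ := by
  obtain ⟨W, hW⟩ := h.exists_N hX h0
  exact ⟨W, hW.ts, fun a ha a1 => hW.max _ (h.ts ha a1) (hn a ha a1)⟩

variable {q : ℕ} [hq : Fact q.Prime]

theorem trans_aux {Q1 Q2 W : Subgroup G} (h1 : MaxQ p A θ q Q1) (h2 : MaxQ p A θ q Q2)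
    (hW : TS p A θ W) : ∃ Q3, MaxQ p A θ q Q3 ∧ ∃ g ∈ HH A θ, Q1 ⊓ W ≤ Q3 ∧ Q2 ⊓ W ≤ cj g Q3 := by
  obtain ⟨P1, hP1, t1, l1⟩ := h.exists_sylow hW h1.pg.to_inf_left inf_le_right (h1.ts.inf hW.inv).inv
  obtain ⟨P2, hP2, t2, l2⟩ := h.exists_sylow hW h2.pg.to_inf_left inf_le_right (h2.ts.inf hW.inv).inv
  obtain ⟨g, hg, -, e⟩ := h.sylow_conj hW hP1 hP2 t1.inv t2.inv
  obtain ⟨Q3, h3, l3⟩ := exists_maxQ t1 hP1.2.1
  exact ⟨Q3, h3, g, hg, l1.trans l3, l2.trans (e ▸ cj_mono g l3)⟩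

/-- the transitivity theorem -/
theorem trans {Q1 Q2 : Subgroup G} (h1 : MaxQ p A θ q Q1) (h2 : MaxQ p A θ q Q2) :
    ∃ g ∈ HH A θ, cj g Q1 = Q2 := by
  have key : ∀ n, ∀ Q1 Q2 : Subgroup G, MaxQ p A θ q Q1 → MaxQ p A θ q Q2 →
      Nat.card G - #(Q1 ⊓ Q2) = n → ∃ g ∈ HH A θ, cj g Q1 = Q2 := by
    intro n
    induction n using Nat.strong_induction_on with
    | _ n ih =>
    intro Q1 Q2 h1 h2 hn
    have step : ∀ W, TS p A θ W → Q1 ⊓ Q2 < Q1 ⊓ W → Q1 ⊓ Q2 < Q2 ⊓ W →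
        ∃ g ∈ HH A θ, cj g Q1 = Q2 := fun W hW l1 l2 => by
      obtain ⟨Q3, h3, g, hg, m1, m2⟩ := h.trans_aux h1 h2 hW
      have b : ∀ U : Subgroup G, Q1 ⊓ Q2 < U → Nat.card G - #U < n := fun U hU => by
        have := card_lt_card hU
        have := card_le_card_group U
        omega
      obtain ⟨a, ha, e1⟩ := ih _ (b _ (l1.trans_le (le_inf inf_le_left m1))) Q1 Q3 h1 h3 rfl
      obtain ⟨c, hc, e2⟩ := ih _ (b _ (l2.trans_le (le_inf m2 inf_le_left))) _ Q2 (h3.cj hg) h2 rfl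
      exact ⟨c * g * a, mul_mem (mul_mem hc hg) ha, by rw [← cj_cj, ← cj_cj, e1, e2]⟩
    by_cases e : Q1 ≤ Q2
    · exact ⟨1, one_mem _, by rw [CfsgH1.cj_one, h1.max Q2 h2.ts h2.pg e]⟩
    have e' : ¬ Q2 ≤ Q1 := fun e' => e (h2.max Q1 h1.ts h1.pg e').le
    by_cases h0 : Q1 ⊓ Q2 = ⊥
    · have ex : ∀ Q : Subgroup G, TS p A θ Q → Q ≠ ⊥ →
          ∃ B, CfsgH2.IsCocyclic B A ∧ Q ⊓ 𝒞 B ≠ ⊥ := fun Q hQ hQ0 => by
        by_contra hc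
        push Not at hc
        exact hQ0 (le_bot_iff.mp (h.gen' hQ.inv hQ.np fun B hB => (hc B hB).le))
      obtain ⟨B1, hB1, n1⟩ := ex Q1 h1.ts fun e0 => e (e0 ▸ bot_le)
      obtain ⟨B2, hB2, n2⟩ := ex Q2 h2.ts fun e0 => e' (e0 ▸ bot_le)
      obtain ⟨a, a1, a2, a0⟩ := h.cocyc_inf hB1 hB2
      have ha := hB1.1 a1
      refine step (θ a) (h.ts ha a0) ?_ ?_
      · rw [h0, bot_lt_iff_ne_bot]
        exact ne_bot_of_le_ne_bot n1 (le_inf inf_le_left ((inf_le_inf_left _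
          (centralizer_le_centralizer_singleton a1)).trans (h1.ts.le a ha a0)))
      · rw [h0, bot_lt_iff_ne_bot]
        exact ne_bot_of_le_ne_bot n2 (le_inf inf_le_left ((inf_le_inf_left _
          (centralizer_le_centralizer_singleton a2)).trans (h2.ts.le a ha a0)))
    · have hD := h1.ts.inf h2.ts.inv
      obtain ⟨W, hW⟩ := h.exists_N hD h0
      have k : ∀ Q, MaxQ p A θ q Q → Q1 ⊓ Q2 ≤ Q → Q1 ⊓ Q2 ≠ Q → Q1 ⊓ Q2 < Q ⊓ W :=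
        fun Q hQ l ne => by
          have l2 : Q ⊓ 𝒩 (Q1 ⊓ Q2) ≤ Q ⊓ W := le_inf inf_le_left
            (hW.max _ (hQ.ts.inf (CfsgH2.le_normalizer_normalizer hD.inv)) inf_le_right)
          refine lt_of_le_of_ne ((le_inf l le_normalizer).trans l2) fun e0 => ne ?_
          exact CfsgH2.normalizer_inf_ne_of_nilpotent hQ.pg.isNilpotent l (l2.trans e0.ge)
      exact step W hW.ts (k Q1 h1 inf_le_left fun e0 => e (e0.ge.trans inf_le_right))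
        (k Q2 h2 inf_le_right fun e0 => e' (e0.ge.trans inf_le_left))
  exact key _ Q1 Q2 h1 h2 rfl

theorem exists_cj_le {S T : Subgroup G} (hS : MaxQ p A θ q S) (hT : TS p A θ T) (hq : IsPGroup q T) :
    ∃ g ∈ HH A θ, cj g T ≤ S := by
  obtain ⟨Q, hQ, l⟩ := exists_maxQ hT hq
  obtain ⟨g, hg, e⟩ := h.trans hQ hS
  exact ⟨g, hg, e ▸ cj_mono g l⟩

theorem sylow_inf {S U : Subgroup G} (hS : MaxQ p A θ q S) (hU : TS p A θ U) (hH : HH A θ ≤ U) :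
    IsSylowOf q (S ⊓ U) U := by
  obtain ⟨P, hP, t⟩ := h.exists_sylow' q hU
  obtain ⟨g, hg, l⟩ := h.exists_cj_le hS t hP.2.1
  have h1 := hP.cj_of_mem_normalizer (le_normalizer (hH hg))
  rwa [h1.eq_of_le hS.pg.to_inf_left (le_inf l h1.1) inf_le_right]

end LC

end CfsgSig
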