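import Cfsg.Agent.H2.Sig1
import Cfsg.Agent.H1.Burnside

/-! Solvable signalizer functors: tame primes. -/

set_option autoImplicit false
set_option linter.unusedSectionVars false
set_option linter.style.haveILetI false

namespace CfsgSig

open Subgroup CfsgL0 CfsgFT
open scoped commutatorElement

variable {G : Type*} [Group G]

/-- `⟨Z^H⟩` -/
def ncl (H Z : Subgroup G) : Subgroup G := ⨆ g : H, cj g Z

theorem cj_le_ncl {H : Subgroup G} (Z : Subgroup G) {g : G} (hg : g ∈ H) : cj g Z ≤ ncl H Z :=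
  le_iSup_of_le (⟨g, hg⟩ : H) le_rfl

theorem le_ncl (H Z : Subgroup G) : Z ≤ ncl H Z := by
  simpa [CfsgH1.cj_one] using cj_le_ncl Z (one_mem H)

theorem ncl_le {H Z K : Subgroup G} (h : ∀ g ∈ H, cj g Z ≤ K) : ncl H Z ≤ K :=
  iSup_le fun g => h g g.2

theorem ncl_le_of_le {H Z K : Subgroup G} (hH : H ≤ 𝒩 K) (hZ : Z ≤ K) : ncl H Z ≤ K :=
  ncl_le fun g hg => (cj_mono g hZ).trans (cj_eq_of_mem_normalizer (hH hg)).le

theorem ncl_mono {H H' Z Z' : Subgroup G} (hH : H ≤ H') (hZ : Z ≤ Z') : ncl H Z ≤ ncl H' Z' :=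
  ncl_le fun g hg => (cj_mono g hZ).trans (cj_le_ncl Z' (hH hg))

theorem cj_iSup_le {ι : Sort*} {f : ι → Subgroup G} {x : G} {K : Subgroup G}
    (h : ∀ i, cj x (f i) ≤ K) : cj x (⨆ i, f i) ≤ K := by
  rw [cj_le_iff_le_cj_inv]
  exact iSup_le fun i => cj_le_iff_le_cj_inv.1 (h i)

variable [Finite G]

theorem le_normalizer_iSup {ι : Sort*} {f : ι → Subgroup G} {X : Subgroup G}
    (h : ∀ i, X ≤ 𝒩 (f i)) : X ≤ 𝒩 (⨆ i, f i) := fun _ hg => mem_normalizer_of_cj_le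
  (cj_iSup_le fun i => (cj_eq_of_mem_normalizer (h i hg)).le.trans (le_iSup f i))

theorem le_normalizer_ncl (H Z : Subgroup G) : H ≤ 𝒩 (ncl H Z) := fun g hg =>
  mem_normalizer_of_cj_le (cj_iSup_le fun i => by
    rw [cj_cj]; exact cj_le_ncl Z (mul_mem hg i.2))

theorem le_normalizer_ncl' {B H Z : Subgroup G} (hH : B ≤ 𝒩 H) (hZ : B ≤ 𝒩 Z) :
    B ≤ 𝒩 (ncl H Z) := fun g hg => mem_normalizer_of_cj_le (cj_iSup_le fun i => by
  rw [cj_cj, show g * i = g * i * g⁻¹ * g by group, ← cj_cj, cj_eq_of_mem_normalizer (hZ hg)]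
  exact cj_le_ncl Z (CfsgH2.conj_mem_of_le_normalizer hH hg i.2))

theorem sylow_sup {q : ℕ} [Fact q.Prime] {Y Z : Subgroup G} (hn : Z ≤ 𝒩 Y) (hY : ¬ q ∣ #Y)
    (hZ : IsPGroup q Z) : IsSylowOf q Z (Y ⊔ Z) := ⟨le_sup_right, hZ, by
  rw [sup_comm, relIndex_sup_of_le_normalizer' hn]
  exact fun h => hY (h.trans (relIndex_dvd_card' _ _))⟩

variable {p : ℕ} [hp : Fact p.Prime] {A : Subgroup G} {θ : G → Subgroup G}
  {q : ℕ} [hq : Fact q.Prime]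

theorem SF.not_dvd (h : SF p A θ) {U : Subgroup G} (hn : A ≤ 𝒩 U) (hU : ¬ p ∣ #U)
    (hc : ∀ a ∈ A, a ≠ 1 → ¬ q ∣ #(U ⊓ 𝒞₁ a)) : ¬ q ∣ #U := by
  obtain ⟨T, hT, hTn⟩ := CfsgH2.exists_invariant_sylow q hn (h.cop le_rfl hU) (Or.inl h.solvA)
  rw [← sylow_ne_bot_iff hT, not_not, eq_bot_iff]
  exact h.gen hTn (not_dvd_card_of_le hU hT.1) fun a ha a1 =>
    (eq_bot_of_isPGroup_of_not_dvd hT.2.1.to_inf_left
      (not_dvd_card_of_le (hc a ha a1) (inf_le_inf_right _ hT.1))).le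

namespace LC

variable (h : LC p A θ)
include h

theorem exists_K (hd : ∃ c ∈ A, c ≠ 1 ∧ q ∣ #(θ c)) :
    ∃ K, TS p A θ K ∧ ¬ q ∣ #K ∧ ∀ c ∈ A, c ≠ 1 → pPrimeCoreOf q (θ c) ≤ K := by
  let θ' : G → Subgroup G := fun c =>
    ⨆ Y : {Y : Subgroup G // Y ≤ θ c ∧ ¬ q ∣ #Y ∧ A ≤ 𝒩 Y ∧ HH A θ ≤ 𝒩 Y}, Y.1
  have hle : ∀ c, θ' c ≤ θ c := fun c => iSup_le fun Y => Y.2.1
  have hA : ∀ c, A ≤ 𝒩 (θ' c) := fun c => le_normalizer_iSup fun Y => Y.2.2.2.1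
  have hH : ∀ c, HH A θ ≤ 𝒩 (θ' c) := fun c => le_normalizer_iSup fun Y => Y.2.2.2.2
  have hq' : ∀ c ∈ A, c ≠ 1 → ¬ q ∣ #(θ' c) := fun c hc c1 => by
    have t := h.ts hc c1
    obtain ⟨P, hP, hPn⟩ := CfsgH2.exists_invariant_hall {q}ᶜ t.inv (h.cop le_rfl t.np) t.solv
    refine not_dvd_card_of_le (isPi_compl_singleton.mp hP.2.1) (iSup_le fun ⟨Y, h1, h2, h3, h4⟩ => ?_)
    obtain ⟨P', hP', hPn', l⟩ := bg1_5b {q}ᶜ t.inv (h.cop le_rfl t.np) t.solv h1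
      (isPi_compl_singleton.mpr h2) h3
    obtain ⟨g, hg, e⟩ := bg1_5c t.inv (h.cop le_rfl t.np) t.solv hP' hP hPn' hPn
    change Y ≤ P
    rw [← e, ← cj_eq_of_mem_normalizer (h4 (t.le_HH hg))]
    exact cj_mono g l
  have hSF : SF p A θ' := ⟨h.ea, fun a ha a1 => (hle a).trans (h.cent a ha a1),
    fun a ha a1 => not_dvd_card_of_le (h.np a ha a1) (hle a), fun a _ _ => hA a,
    fun a ha a1 => CfsgH2.isSolvable_of_le (hle a) (h.solv a ha a1), fun a ha a1 b hb b1 =>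
      le_iSup_of_le ⟨θ' a ⊓ 𝒞₁ b, (inf_le_inf_right _ (hle a)).trans (h.bal a ha a1 b hb b1),
        not_dvd_card_of_le (hq' a ha a1) inf_le_left,
        CfsgH2.le_normalizer_inf (hA a) (le_normalizer_cent_one h.comm hb),
        CfsgH2.le_normalizer_inf (hH a) ((HH_le_cent.trans
          (centralizer_le_centralizer_singleton hb)).trans le_normalizer)⟩ le_rfl⟩
  obtain ⟨c, hc, c1, hd⟩ := hd
  obtain ⟨K, hK, hKle⟩ := h.sub θ' hSF (fun a _ _ => hle a) ⟨c, hc, c1, fun e => hq' c hc c1 (e ▸ hd)⟩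
  refine ⟨K, ⟨hK.inv, hK.np, hK.solv, fun a ha a1 => (hK.le a ha a1).trans (hle a)⟩,
    h.not_dvd hK.inv hK.np fun a ha a1 => not_dvd_card_of_le (hq' a ha a1) (hK.le a ha a1),
    fun a ha a1 => le_trans ?_ (hKle a ha a1)⟩
  exact le_iSup_of_le ⟨_, pPrimeCoreOf_le, not_dvd_card_pPrimeCoreOf q _,
    (h.inv a ha a1).trans normalizer_le_normalizer_pPrimeCoreOf,
    (HH_le ha a1).trans le_normalizer_pPrimeCoreOf⟩ le_rfl

theorem star {Z Y : Subgroup G} (hZ : TS p A θ Z) (hZq : IsPGroup q Z) (h0 : Z ≠ ⊥)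
    (hY : TS p A θ Y) (hYq : ¬ q ∣ #Y) (hn : Z ≤ 𝒩 Y)
    (hf : ∀ c ∈ A, c ≠ 1 → ∀ g ∈ θ c, Prd Y (𝒩 Z) g) : Compl p A θ := by
  have hW : ncl Y Z ≤ Y ⊔ Z := ncl_le_of_le (le_sup_left.trans le_normalizer) le_sup_right
  refine h.compl_of_norm ((h.ts_sup hY hZ hn).of_le hW (le_normalizer_ncl' hY.inv hZ.inv))
    (ne_bot_of_le_ne_bot h0 (le_ncl Y Z)) fun a ha a1 => ?_
  refine h.gen' (h.inv a ha a1) (h.np a ha a1) fun B hB => ?_
  set U := ⨆ c : {c : G // c ∈ B ∧ c ≠ 1}, ncl (θ c) Z with hU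
  have hnU : ∀ X : Subgroup G, TS p A θ X → X ⊓ 𝒞 B ≤ 𝒩 U := fun X hX =>
    le_normalizer_iSup fun c => ((inf_le_inf_left _ (centralizer_le_centralizer_singleton c.2.1)).trans
      (hX.le c (hB.1 c.2.1) c.2.2)).trans (le_normalizer_ncl _ _)
  have hAU : A ≤ 𝒩 U := le_normalizer_iSup fun c =>
    le_normalizer_ncl' (h.inv c (hB.1 c.2.1) c.2.2) hZ.inv
  have h1 : U ≤ ncl Y Z := iSup_le fun c => ncl_le fun g hg => by
    obtain ⟨y, hy, n, hn', rfl⟩ := hf c (hB.1 c.2.1) c.2.2 g hg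
    rw [← cj_cj, cj_eq_of_mem_normalizer hn']
    exact cj_le_ncl Z hy
  have hcU : ∀ c ∈ B, c ≠ 1 → ncl (θ c) Z ≤ U := fun c hc c1 => le_iSup_of_le ⟨c, hc, c1⟩ le_rfl
  have hS := sylow_sup hn hYq hZq
  have h2 := ks (isMulCommutative_mono h.comm hB.1) (h.cocyc_ncyc hB) (hB.1.trans hY.inv)
    (h.cop hB.1 hY.np) (X := Y ⊓ U) (Y := Y ⊓ 𝒩 Z) inf_le_left inf_le_left
    (hB.1.trans (hY.inf hAU).inv) (hB.1.trans (hY.inf (CfsgH2.le_normalizer_normalizer hZ.inv)).inv)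
    (CfsgH2.le_normalizer_inf (inf_le_left.trans le_normalizer) (hnU Y hY)) fun c hc c1 g hg => by
      have hZU := (le_ncl _ Z).trans (hcU c hc c1)
      have hgU := (cj_le_ncl Z (hY.le c (hB.1 hc) c1 hg)).trans (hcU c hc c1)
      obtain ⟨u, hu, e⟩ := (hS.mono hZU (h1.trans hW)).exists_cj_eq
        ((hS.cj_of_mem_normalizer (le_normalizer (mem_sup_left hg.1))).mono hgU (h1.trans hW))
      obtain ⟨y, hy, z, hz, rfl⟩ := prd_of_sup hn (hW (h1 hu))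
      refine ⟨y, ⟨hy, (U.mul_mem_cancel_right (hZU hz)).mp hu⟩, y⁻¹ * g,
        ⟨Y.mul_mem (Y.inv_mem hy) hg.1, ?_⟩, by group⟩
      change CfsgH1.cj (y * z) Z = CfsgH1.cj g Z at e
      rw [← cj_cj, cj_eq_of_mem hz] at e
      change y⁻¹ * g ∈ 𝒩 Z
      rw [mem_normalizer_iff_cj, ← cj_cj, ← e, cj_inv_cj]
  have h3 : ncl Y Z ≤ U := ncl_le fun g hg => by
    obtain ⟨c, hc, c1⟩ : ∃ c ∈ B, c ≠ 1 := by
      obtain ⟨c, hc, -, c1⟩ := h.cocyc_inf hB hB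
      exact ⟨c, hc, c1⟩
    obtain ⟨y, hy, n, hn', rfl⟩ := h2 g hg
    rw [← cj_cj, cj_eq_of_mem_normalizer hn'.2]
    exact (cj_mono y ((le_ncl _ Z).trans (hcU c hc c1))).trans (cj_eq_of_mem hy.2).le
  rw [le_antisymm h3 h1]
  exact hnU _ (h.ts ha a1)

/-- (T) -/
theorem tame {Z : Subgroup G} (hZ : TS p A θ Z) (hZq : IsPGroup q Z) (h0 : Z ≠ ⊥)
    (hab : IsMulCommutative Z)
    (hf : ∀ c ∈ A, c ≠ 1 → ∀ g ∈ θ c, Prd (pPrimeCoreOf q (θ c)) (𝒩 Z) g)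
    (hs : 3 < q ∨ ∃ r : ℕ, r.Prime ∧ ∀ c ∈ A, c ≠ 1 → ∀ s : ℕ, s.Prime → s ∣ #(θ c) → s = q ∨ s = r) :
    Compl p A θ := by
  obtain ⟨K, hK, hKq, hOK⟩ := h.exists_K (q := q) (by
    by_contra hc
    push Not at hc
    exact h.not_dvd hZ.inv hZ.np (fun a ha a1 => not_dvd_card_of_le (hc a ha a1) (hZ.le a ha a1))
      (dvd_card_of_isPGroup hZq h0))
  have hAN := CfsgH2.le_normalizer_normalizer hZ.inv
  have hB : ∀ B, CfsgH2.IsCocyclic B A → ∃ Y ≤ K, Z ⊓ 𝒞 B ≤ 𝒩 Y ∧ ∀ k ∈ K, Prd Y (K ⊓ 𝒩 Z) k :=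
    fun B hB => by
      set Y := ⨆ c : {c : G // c ∈ B ∧ c ≠ 1}, pPrimeCoreOf q (θ c) with hY
      have hnY : ∀ X : Subgroup G, TS p A θ X → X ⊓ 𝒞 B ≤ 𝒩 Y := fun X hX =>
        le_normalizer_iSup fun c => ((inf_le_inf_left _
          (centralizer_le_centralizer_singleton c.2.1)).trans
          (hX.le c (hB.1 c.2.1) c.2.2)).trans le_normalizer_pPrimeCoreOf
      have hYK : Y ≤ K := iSup_le fun c => hOK c (hB.1 c.2.1) c.2.2
      refine ⟨Y, hYK, hnY Z hZ, ks (isMulCommutative_mono h.comm hB.1) (h.cocyc_ncyc hB)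
        (hB.1.trans hK.inv) (h.cop hB.1 hK.np) hYK inf_le_left
        (hB.1.trans (le_normalizer_iSup fun c => (h.inv c (hB.1 c.2.1) c.2.2).trans
          normalizer_le_normalizer_pPrimeCoreOf)) (hB.1.trans (hK.inf hAN).inv) (hnY K hK)
        fun c hc c1 g hg => ?_⟩
      have := (hf c (hB.1 hc) c1 g (hK.le c (hB.1 hc) c1 hg)).inf_right (hOK c (hB.1 hc) c1) hg.1
      exact this.mono (le_iSup_of_le ⟨c, hc, c1⟩ le_rfl) (inf_comm _ _).le
  -- `KZ` is a group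
  have h1 : ∀ z ∈ Z, ∀ k ∈ K, Prd K Z (z * k) := by
    let S : Subgroup G := mkSub {z | ∀ k ∈ K, Prd K Z (z * k)}
      (fun k hk => prd_left _ (by rwa [one_mul])) fun a ha b hb k hk => by
        obtain ⟨k', hk', z', hz', e⟩ := hb k hk
        rw [mul_assoc, e, ← mul_assoc]
        exact (ha k' hk').mul_right hz'
    have : Z ≤ S := h.gen' hZ.inv hZ.np fun B hB' z hz k hk => by
      obtain ⟨Y, hYK, hn, hP⟩ := hB B hB'
      obtain ⟨y, hy, n, hn', rfl⟩ := hP k hk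
      exact ⟨z * y * z⁻¹ * n, mul_mem (hYK (CfsgH2.conj_mem_of_le_normalizer hn hz hy)) hn'.1,
        n⁻¹ * z * n, CfsgH2.conj_mem_of_le_normalizer' le_rfl hn'.2 hz.1, by group⟩
    exact fun z hz => this hz
  have hL : ∀ g ∈ K ⊔ Z, Prd K Z g := by
    let S : Subgroup G := mkSub {g | Prd K Z g} (prd_left _ (one_mem _)) (by
      rintro _ ⟨k, hk, z, hz, rfl⟩ _ ⟨k', hk', z', hz', rfl⟩
      have := ((h1 z hz k' hk').mul_left hk).mul_right hz'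
      rwa [show k * (z * k') * z' = k * z * (k' * z') by group] at this)
    have : K ⊔ Z ≤ S := sup_le (fun k hk => prd_left _ hk) fun z hz => prd_right _ hz
    exact fun g hg => this hg
  obtain ⟨l1, l2, l3⟩ := h.ts_prd hK hZ le_sup_left le_sup_right hL
  have hcard := (prd_iff_card le_sup_left le_sup_right).mp hL
  rw [inf_comm, CfsgH1.inf_eq_bot_of_pgroup_of_not_dvd hZq hKq, card_bot, mul_one] at hcard
  have solv : Group.IsSolvable (K ⊔ Z : Subgroup G) → Compl p A θ := fun hsol => by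
    have tL : TS p A θ (K ⊔ Z) := ⟨l1, l2, hsol, l3⟩
    have hS : IsSylowOf q Z (K ⊔ Z) := ⟨le_sup_right, hZq, by
      have := CfsgH2.card_mul_relIndex (le_sup_right : Z ≤ K ⊔ Z)
      rw [hcard, mul_comm] at this
      rwa [Nat.eq_of_mul_eq_mul_right Nat.card_pos this]⟩
    have e := abel_sylow_fact hsol hS hab
    refine h.star hZ hZq h0 (tL.char pPrimeCoreOf_le normalizer_le_normalizer_pPrimeCoreOf)
      (not_dvd_card_pPrimeCoreOf q _) (le_sup_right.trans le_normalizer_pPrimeCoreOf)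
      fun c hc c1 g hg => ?_
    obtain ⟨o, ho, n, hn, rfl⟩ := hf c hc c1 g hg
    exact ((prd_of_sup (inf_le_left.trans le_normalizer_pPrimeCoreOf)
      (e.ge (mem_sup_left (hOK c hc c1 ho)))).mono le_rfl inf_le_right).mul_right hn
  rcases hs with hq3 | ⟨r, hr, hs⟩
  swap
  · refine solv (CfsgH1.isSolvable_of_two_primes hq.out hr _ _ rfl fun s hs' hd => ?_)
    haveI : Fact s.Prime := ⟨hs'⟩
    by_contra hc
    exact h.not_dvd l1 l2 (fun a ha a1 hd' => hc (hs a ha a1 s hs'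
      (hd'.trans (card_dvd_of_le (l3 a ha a1))))) hd
  set X := ⨅ z : Z, cj (z : G) K with hX
  have mX : ∀ {g : G}, g ∈ X ↔ ∀ z ∈ Z, z⁻¹ * g * z ∈ K :=
    mem_iInf.trans ⟨fun h z hz => mem_cj.mp (h ⟨z, hz⟩), fun h z => mem_cj.mpr (h z z.2)⟩
  have hXK : X ≤ K := fun g hg => by simpa using mX.mp hg 1 (one_mem _)
  by_cases hX0 : X = ⊥
  · refine h.compl_of_norm hZ h0 fun c hc c1 g hg => ?_
    refine (hf c hc c1 g hg).mem ((hOK c hc c1).trans fun k hk => ?_) le_rfl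
    rw [← inv_mem_iff]
    refine mem_normalizer_of_cj_le (cj_le_iff_le_cj_inv.mpr (h.gen' hZ.inv hZ.np fun B hB' => ?_))
    obtain ⟨Y, hYK, hn, hP⟩ := hB B hB'
    have hc := cent_of_core hq3 hZq hab hKq (prd_symm hL) hYK (CfsgH2.isSolvable_of_le hYK hK.solv)
      inf_le_left hn (prd_symm hP) fun g hg => by
        have := mX.mpr hg; rwa [hX0] at this
    obtain ⟨y, hy, n, hn', rfl⟩ := hP k hk
    intro z hz
    rw [inv_inv, mem_cj]
    have e : (y * n)⁻¹ * z * (y * n) = n⁻¹ * z * n := by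
      rw [mul_assoc, ← mul_assoc z, ← comm_of_mem_cent (hc hz) hy]; group
    rw [e]
    exact CfsgH2.conj_mem_of_le_normalizer' le_rfl hn'.2 hz.1
  · have hXn : K ⊔ Z ≤ 𝒩 X := fun g hg => mem_normalizer_of_conj_mem fun x hx => mX.mpr
      fun z hz => by
        obtain ⟨z', hz', k, hk, e⟩ := prd_symm hL _ (mul_mem (inv_mem hg) (mem_sup_right hz))
        have e2 : z⁻¹ * (g * x * g⁻¹) * z = k⁻¹ * (z'⁻¹ * x * z') * k := by
          calc z⁻¹ * (g * x * g⁻¹) * z = (g⁻¹ * z)⁻¹ * x * (g⁻¹ * z) := by group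
            _ = _ := by rw [e]; group
        rw [e2]
        exact mul_mem (mul_mem (inv_mem hk) (mX.mp hx z' hz')) hk
    have hXA : A ≤ 𝒩 X := fun a ha => mem_normalizer_of_conj_mem fun x hx => mX.mpr
      fun z hz => by
        have := CfsgH2.conj_mem_of_le_normalizer hK.inv ha
          (mX.mp hx _ (CfsgH2.conj_mem_of_le_normalizer' hZ.inv ha hz))
        rwa [show a * ((a⁻¹ * z * a)⁻¹ * x * (a⁻¹ * z * a)) * a⁻¹ = z⁻¹ * (a * x * a⁻¹) * z by group]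
          at this
    obtain ⟨W, hW⟩ := h.exists_N (hK.of_le hXK hXA) hX0
    exact solv (CfsgH2.isSolvable_of_le (sup_le (hW.max K hK (le_sup_left.trans hXn))
      (hW.max Z hZ (le_sup_right.trans hXn))) hW.ts.solv)

theorem compl_of_big (hq3 : 3 < q) (hd : ∃ c ∈ A, c ≠ 1 ∧ q ∣ #(θ c)) : Compl p A θ := by
  obtain ⟨S, hS, -⟩ := exists_maxQ (q := q) h.ts_bot IsPGroup.of_bot
  have tZ : ∀ {T : Subgroup G}, TS p A θ T → TS p A θ (ZJ T) := fun hT =>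
    hT.char (ZJ_le _) (normalizer_le_normalizer_ZJ _)
  have hS0 : S ≠ ⊥ := fun e => by
    obtain ⟨c, hc, c1, hd⟩ := hd
    exact (sylow_ne_bot_iff (h.sylow_inf hS (h.ts hc c1) (HH_le hc c1))).mpr hd (by simp [e])
  refine h.tame (tZ hS.ts) (hS.pg.to_le (ZJ_le S)) (ZJ_ne_bot hS.pg hS0)
    (by rw [ZJ_eq, isMulCommutative_iff_le]
        exact inf_le_right.trans (centralizer_anti' inf_le_left)) (fun c hc c1 => ?_) (Or.inl hq3)
  have t := h.ts hc c1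
  obtain ⟨T0, hT0, t0⟩ := h.exists_sylow' q t
  by_cases e0 : T0 = ⊥
  · exact fun g hg => prd_left _ (le_pPrimeCoreOf' le_rfl le_normalizer
      (fun hd => (sylow_ne_bot_iff hT0).mpr hd e0) hg)
  obtain ⟨T, ⟨tT, pT, lT, hT⟩, -, hmax⟩ := exists_max_subgroup (fun T : Subgroup G =>
    TS p A θ T ∧ IsPGroup q T ∧ T0 ≤ T ∧ ∀ g ∈ θ c, Prd (pPrimeCoreOf q (θ c)) (𝒩 (ZJ T)) g)
    (C := T0) ⟨t0, hT0.2.1, le_rfl, fun g hg => (prd_of_sup (inf_le_left.trans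
      le_normalizer_pPrimeCoreOf) ((zj_solv hq3 t.solv hT0).ge hg)).mono le_rfl inf_le_right⟩
  have hTm : MaxQ p A θ q T := ⟨tT, pT, fun T' tT' pT' l => by
    obtain ⟨U, hU⟩ := h.exists_N (tZ tT) (ZJ_ne_bot pT (ne_bot_of_le_ne_bot e0 lT))
    have tN := tT'.inf (CfsgH2.le_normalizer_normalizer tT.inv)
    obtain ⟨T1, hT1, tT1, l1⟩ := h.exists_sylow hU.ts pT'.to_inf_left
      (hU.max _ tN (inf_le_right.trans (normalizer_le_normalizer_ZJ T))) tN.inv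
    have l2 : T ≤ T1 := (le_inf l le_normalizer).trans l1
    have e := hmax T1 ⟨tT1, hT1.2.1, lT.trans l2, fun g hg => ?_⟩ l2
    · exact (CfsgH2.normalizer_inf_ne_of_nilpotent pT'.isNilpotent l (e ▸ l1)).symm
    obtain ⟨o, ho, n, hn, rfl⟩ := hT g hg
    have hnθ : n ∈ θ c := (mul_mem_cancel_left (pPrimeCoreOf_le ho)).mp hg
    have hnU : n ∈ U := hU.max _ (t.inf (CfsgH2.le_normalizer_normalizer (tZ tT).inv))
      inf_le_right ⟨hnθ, hn⟩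
    have tO := hU.ts.char (pPrimeCoreOf_le (p := q)) normalizer_le_normalizer_pPrimeCoreOf
    have := h.fix hc tO.inv (hU.ts.inf (CfsgH2.le_normalizer_normalizer (tZ tT1).inv)).inv tO.np
      (prd_of_sup (inf_le_left.trans le_normalizer_pPrimeCoreOf)
        ((zj_solv hq3 hU.ts.solv hT1).ge hnU)) (h.cent c hc c1 hnθ)
    refine (this.mono ?_ (inf_le_left.trans inf_le_right)).mul_left ho
    exact le_core_of_sylow t.solv hT0 (tO.le c hc c1)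
      (not_dvd_card_of_le (not_dvd_card_pPrimeCoreOf q U) inf_le_left)
      (CfsgH2.le_normalizer_inf (((lT.trans l2).trans hT1.1).trans le_normalizer_pPrimeCoreOf)
        ((hT0.1.trans (h.cent c hc c1)).trans le_normalizer))⟩
  obtain ⟨x, hx, rfl⟩ := h.trans hTm hS
  intro g hg
  have hxθ := HH_le hc c1 hx
  obtain ⟨o, ho, n, hn, e⟩ := hT _ (mul_mem (mul_mem (inv_mem hxθ) hg) hxθ)
  refine ⟨x * o * x⁻¹, CfsgH2.conj_mem_of_le_normalizer le_normalizer_pPrimeCoreOf hxθ ho,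
    x * n * x⁻¹, ?_, ?_⟩
  · rw [← cj_ZJ, ← cj_normalizer]; exact conj_mem_cj x hn
  · calc g = x * (x⁻¹ * g * x) * x⁻¹ := by group
      _ = _ := by rw [e]; group

theorem compl_of_one (hd : ∀ c ∈ A, c ≠ 1 → IsPGroup q (θ c)) : Compl p A θ := by
  obtain ⟨S, hS, -⟩ := exists_maxQ (q := q) h.ts_bot IsPGroup.of_bot
  refine ⟨S, hS.ts, fun c hc c1 => ?_⟩
  exact ((h.sylow_inf hS (h.ts hc c1) (HH_le hc c1)).eq_of_le (hd c hc c1) inf_le_right
    le_rfl).le.trans inf_le_left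

end LC

end CfsgSig
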