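import Cfsg.Agent.H2.Sig2
import Cfsg.Agent.H1.Transfer
import Cfsg.Agent.H3.PB2

/-! Solvable signalizer functors: four-groups, the trace argument and pushing up. -/

set_option autoImplicit false
set_option linter.unusedSectionVars false
set_option linter.style.haveILetI false

namespace CfsgSig

open Subgroup CfsgL0 CfsgFT
open scoped commutatorElement

variable {G : Type*} [Group G]

instance : Fact (Nat.Prime 3) := ⟨Nat.prime_three⟩

/-- exponent two -/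
def E2 (X : Subgroup G) : Prop := ∀ v ∈ X, v * v = 1

theorem E2.inv {X : Subgroup G} (h : E2 X) {v : G} (hv : v ∈ X) : v⁻¹ = v :=
  inv_eq_of_mul_eq_one_right (h v hv)

theorem E2.comm {X : Subgroup G} (h : E2 X) {a b : G} (ha : a ∈ X) (hb : b ∈ X) : a * b = b * a := by
  rw [← h.inv (X.mul_mem ha hb), mul_inv_rev, h.inv ha, h.inv hb]

theorem E2.mono {X Y : Subgroup G} (h : E2 X) (hY : Y ≤ X) : E2 Y := fun v hv => h v (hY hv)

theorem E2.le_cent {X : Subgroup G} (h : E2 X) : X ≤ 𝒞 X := fun _ ha _ hb => h.comm hb ha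

theorem E2.pg {X : Subgroup G} (h : E2 X) : IsPGroup 2 X :=
  CfsgH1.isPGroup_iff_forall.2 fun x hx => ⟨1, by rw [pow_one, sq, h x hx]⟩

theorem E2.cj {X : Subgroup G} (h : E2 X) (g : G) : E2 (cj g X) := fun v hv => by
  have := h _ (mem_cj.1 hv)
  calc v * v = g * (g⁻¹ * v * g * (g⁻¹ * v * g)) * g⁻¹ := by group
    _ = 1 := by rw [this]; group

theorem mem_of_pow_cop {K : Subgroup G} {f : G} {n : ℕ} (hc : n.Coprime (orderOf f))
    (h : f ^ n ∈ K) : f ∈ K := by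
  obtain ⟨m, hm⟩ := exists_pow_eq_self_of_coprime hc
  exact hm ▸ K.pow_mem h m

theorem conj_mem' {X : Subgroup G} {g x : G} (hg : g ∈ 𝒩 X) (hx : x ∈ X) : g * x * g⁻¹ ∈ X :=
  (mem_normalizer_iff.1 hg x).1 hx

theorem comm_mem_left {X : Subgroup G} {g x : G} (hg : g ∈ 𝒩 X) (hx : x ∈ X) : ⁅x, g⁆ ∈ X := by
  have := X.mul_mem hx (conj_mem' hg (X.inv_mem hx))
  simpa only [commutatorElement_def, mul_assoc] using this

theorem comm_mem_right {X : Subgroup G} {g x : G} (hg : g ∈ 𝒩 X) (hx : x ∈ X) : ⁅g, x⁆ ∈ X := by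
  rw [← commutatorElement_inv]; exact X.inv_mem (comm_mem_left hg hx)

theorem conj_ne_one {g x : G} (hx : x ≠ 1) : g * x * g⁻¹ ≠ 1 := by simpa using hx

theorem conj_ne_one' {g x : G} (hx : x ≠ 1) : g⁻¹ * x * g ≠ 1 := by
  simpa only [inv_inv] using conj_ne_one (g := g⁻¹) hx

theorem meq {X : Subgroup G} {a b : G} (h : a ∈ X) (e : b = a) : b ∈ X := e ▸ h

variable [Finite G]

theorem four_cases {X : Subgroup G} (h : E2 X) (hX : #X = 4) {z z' v : G} (hz : z ∈ X)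
    (hz' : z' ∈ X) (z1 : z ≠ 1) (z1' : z' ≠ 1) (hne : z ≠ z') (hv : v ∈ X) :
    v = 1 ∨ v = z ∨ v = z' ∨ v = z * z' := by
  classical
  by_contra hc
  push Not at hc
  obtain ⟨h1, h2, h3, h4⟩ := hc
  have k1 : z * z' ≠ 1 := fun e => hne (by rw [← h.inv hz', eq_inv_iff_mul_eq_one, e])
  have k2 : z * z' ≠ z := by simpa using z1'
  have k3 : z * z' ≠ z' := by simpa using z1
  have : ((({v, z * z', z', z, 1} : Finset G) : Set G)).ncard ≤ (X : Set G).ncard :=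
    Set.ncard_le_ncard (by
      simp only [Finset.coe_insert, Finset.coe_singleton, Set.insert_subset_iff,
        Set.singleton_subset_iff]
      exact ⟨hv, X.mul_mem hz hz', hz', hz, X.one_mem⟩) (Set.toFinite _)
  rw [Set.ncard_coe_finset, ← Nat.card_coe_set_eq] at this
  rw [Finset.card_insert_of_notMem (by simp [h1, h2, h3, h4]),
    Finset.card_insert_of_notMem (by simp [k1, k2, k3]),
    Finset.card_insert_of_notMem (by simp [z1', hne.symm]),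
    Finset.card_insert_of_notMem (by simp [z1]), Finset.card_singleton] at this
  change _ ≤ #X at this
  omega

theorem fix_of_mod {r : ℕ} [Fact r.Prime] (hr : 3 ≤ r) {P X : Subgroup G} (hP : IsPGroup r P)
    (hn : P ≤ 𝒩 X) (hX : #X = 4) (h : r = 3 → X ⊓ 𝒞 P ≠ ⊥) : P ≤ 𝒞 X := by
  have h1 := CfsgH1.card_modEq_card_inf_centralizer hP hn
  have h2 : #(X ⊓ 𝒞 P) ∣ 2 ^ 2 := by
    have := card_dvd_of_le (inf_le_left : X ⊓ 𝒞 P ≤ X); rwa [hX] at this
  obtain ⟨k, hk, e⟩ := (Nat.dvd_prime_pow Nat.prime_two).1 h2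
  rw [hX, e] at h1
  have h3 : k = 2 := by
    by_contra hk2
    have h4 := (Nat.modEq_iff_dvd' (by interval_cases k <;> simp at hk2 ⊢)).1 h1.symm
    interval_cases k
    · have := (Nat.prime_dvd_prime_iff_eq Fact.out Nat.prime_three).1 h4
      exact h this (card_eq_one.1 e)
    · have := Nat.le_of_dvd (by norm_num) h4
      omega
    · exact hk2 rfl
  have h4 : X ⊓ 𝒞 P = X := eq_of_le_of_card_ge inf_le_left (by rw [e, h3, hX]; norm_num)
  exact le_centralizer_iff.1 (h4.ge.trans inf_le_right)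

theorem fix3 {F X : Subgroup G} (hF : IsPGroup 3 F) (hX : #X = 4) {f z : G} (hf : f ∈ F)
    (hn : f ∈ 𝒩 X) (hz : z ∈ X) (z1 : z ≠ 1) (h : f * z * f⁻¹ = z) : f ∈ 𝒞 X :=
  fix_of_mod le_rfl (hF.to_le (zpowers_le.2 hf)) (zpowers_le.2 hn) hX (fun _ e => z1 (by
    rw [← mem_bot, ← e, CfsgFT.centralizer_zpowers]
    exact ⟨hz, mem_centralizer_singleton_iff.2 (mul_inv_eq_iff_eq_mul.1 h).symm⟩)) (mem_zpowers f)

theorem fixp {p : ℕ} [Fact p.Prime] (hp : 3 < p) {X : Subgroup G} (hX : #X = 4) {c : G}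
    (hc : c ^ p = 1) (hn : c ∈ 𝒩 X) : c ∈ 𝒞 X :=
  fix_of_mod hp.le (CfsgH1.isPGroup_zpowers (k := 1) (by rwa [pow_one])) (zpowers_le.2 hn) hX
    (fun e => by omega) (mem_zpowers c)

theorem cop_of_mem {r n : ℕ} [Fact r.Prime] {F : Subgroup G} (hF : IsPGroup r F) {f : G}
    (hf : f ∈ F) (hn : n.Coprime r) : n.Coprime (orderOf f) := by
  obtain ⟨k, hk⟩ := CfsgH1.isPGroup_iff_forall.1 hF f hf
  exact (hn.pow_right k).coprime_dvd_right (orderOf_dvd_of_pow_eq_one hk)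

theorem four_trans {F X : Subgroup G} (hF : IsPGroup 3 F) (h : E2 X) (hX : #X = 4) {f z v : G}
    (hf : f ∈ F) (hn : f ∈ 𝒩 X) (hc : f ∉ 𝒞 X) (hz : z ∈ X) (z1 : z ≠ 1) (hv : v ∈ X)
    (v1 : v ≠ 1) : ∃ k : ℕ, v = f ^ k * z * (f ^ k)⁻¹ := by
  have h1 : z ≠ f * z * f⁻¹ := fun e => hc (fix3 hF hX hf hn hz z1 e.symm)
  have hz' := conj_mem' hn hz
  rcases four_cases h hX hz hz' z1 (conj_ne_one z1) h1 hv with e | e | e | e
  · exact absurd e v1
  · exact ⟨0, by simpa using e⟩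
  · exact ⟨1, by simpa using e⟩
  refine ⟨2, ?_⟩
  rcases four_cases h hX hz hz' z1 (conj_ne_one z1) h1
    (conj_mem' ((𝒩 X).pow_mem hn 2) hz) with e' | e' | e' | e'
  · exact absurd e' (conj_ne_one z1)
  · exact absurd (mem_of_pow_cop (cop_of_mem hF hf (by norm_num))
      (fix3 hF hX (F.pow_mem hf 2) ((𝒩 X).pow_mem hn 2) hz z1 e')) hc
  · refine absurd ?_ h1
    calc z = f⁻¹ * (f * z * f⁻¹) * f := by group
      _ = f⁻¹ * (f ^ 2 * z * (f ^ 2)⁻¹) * f := by rw [e']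
      _ = _ := by rw [sq]; group
  · rw [e, e']

/-- data for the trace argument -/
structure Tr (c : G) (L B X X' Y : Subgroup G) : Prop where
  XB : X ≤ B
  YB : Y ≤ B
  BX : B ≤ 𝒩 X
  BX' : B ≤ 𝒩 X'
  BY : B ≤ 𝒩 Y
  dis : X ⊓ X' = ⊥
  uniq : Y ⊓ 𝒞₁ c ⊓ X' = ⊥
  ex : ∀ v ∈ X, ∃ a ∈ Y ⊓ 𝒞₁ c, v⁻¹ * a ∈ X'
  YL : Y ⊓ 𝒞₁ c ≤ L
  trans : ∀ z ∈ X, z ≠ 1 → ∀ v ∈ X, v ≠ 1 →
    ∃ y ∈ L, y ∈ 𝒞₁ c ∧ y ∈ 𝒩 Y ∧ y ∈ 𝒩 X' ∧ v = y * z * y⁻¹

theorem Tr.cj {c g : G} {L B X X' Y : Subgroup G} (h : Tr c L B X X' Y) (hL : g ∈ L)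
    (hc : g ∈ 𝒞₁ c) (hB : g ∈ 𝒩 B) : Tr c L B (cj g X) (cj g X') (cj g Y) := by
  have e1 := cj_eq_of_mem_normalizer hB
  have e2 := cj_eq_of_mem hc
  have e3 := cj_eq_of_mem hL
  refine ⟨e1 ▸ cj_mono g h.XB, e1 ▸ cj_mono g h.YB, ?_, ?_, ?_, ?_, ?_, fun v hv => ?_, ?_,
    fun z hz z1 v hv v1 => ?_⟩
  · rw [← cj_normalizer, ← e1]; exact cj_mono g h.BX
  · rw [← cj_normalizer, ← e1]; exact cj_mono g h.BX'
  · rw [← cj_normalizer, ← e1]; exact cj_mono g h.BY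
  · rw [← cj_inf, h.dis, cj_eq_bot_iff]
  · rw [← e2, ← cj_inf, ← cj_inf, h.uniq, cj_eq_bot_iff]
  · obtain ⟨a, ha, h1⟩ := h.ex _ (mem_cj.1 hv)
    refine ⟨g * a * g⁻¹, by rw [← e2, ← cj_inf]; exact conj_mem_cj g ha, mem_cj.2 ?_⟩
    convert h1 using 1; group
  · rw [← e2, ← cj_inf, ← e3]; exact cj_mono g h.YL
  · obtain ⟨y, h1, h2, h3, h4, h5⟩ := h.trans _ (mem_cj.1 hz) (conj_ne_one' z1) _ (mem_cj.1 hv)
      (conj_ne_one' v1)
    refine ⟨g * y * g⁻¹, e3 ▸ conj_mem_cj g h1, e2 ▸ conj_mem_cj g h2, ?_, ?_, ?_⟩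
    · rw [← cj_normalizer]; exact conj_mem_cj g h3
    · rw [← cj_normalizer]; exact conj_mem_cj g h4
    · calc v = g * (g⁻¹ * v * g) * g⁻¹ := by group
        _ = _ := by rw [h5]; group

theorem Tr.half {c : G} {L B X X' Y Z Z' Y' : Subgroup G} (h : Tr c L B X X' Y)
    (k : Tr c L B Z Z' Y') {v s a b : G} (hv : v ∈ X) (hs : s ∈ Z) (hne : ⁅v, s⁆ ≠ 1)
    (ha : a ∈ Y ⊓ 𝒞₁ c) (hb : b ∈ Y' ⊓ 𝒞₁ c) (hva : v⁻¹ * a ∈ X') (hsb : s⁻¹ * b ∈ Z') :
    ∃ y ∈ L, a = y * ⁅a, b⁆ * y⁻¹ := by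
  have hbB := k.YB hb.1
  have hz : ⁅v, b⁆ ∈ X := comm_mem_left (h.BX hbB) hv
  have z1 : ⁅v, b⁆ ≠ 1 := fun e => hne (by
    rw [← mem_bot, ← k.dis]
    refine ⟨comm_mem_right (k.BX (h.XB hv)) hs, ?_⟩
    refine meq (Z'.inv_mem (conj_mem' (k.BX' (k.XB hs))
      (comm_mem_right (k.BX' (h.XB hv)) hsb))) ?_
    calc ⁅v, s⁆ = ⁅v, b⁆ * (s * ⁅v, s⁻¹ * b⁆ * s⁻¹)⁻¹ := by
          simp only [commutatorElement_def]; group
      _ = _ := by rw [e, one_mul])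
  have v1 : v ≠ 1 := fun e => hne (by simp [e])
  obtain ⟨y, h1, h2, h3, h4, h5⟩ := h.trans _ hz z1 v hv v1
  refine ⟨y, h1, ?_⟩
  have k1 : ⁅v, b⁆⁻¹ * ⁅a, b⁆ ∈ X' := by
    refine meq (conj_mem' (h.BX' (B.inv_mem (h.XB hz)))
      (conj_mem' (h.BX' (h.XB hv)) (comm_mem_left (h.BX' hbB) hva))) ?_
    simp only [commutatorElement_def]; group
  have k2 : ⁅a, b⁆ ∈ Y ⊓ 𝒞₁ c := ⟨comm_mem_left (h.BY hbB) ha.1,
    comm_mem_left (le_normalizer hb.2) ha.2⟩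
  rw [← inv_mul_eq_one, ← mem_bot, ← h.uniq]
  refine ⟨(Y ⊓ 𝒞₁ c).mul_mem ((Y ⊓ 𝒞₁ c).inv_mem ha)
    ⟨conj_mem' h3 k2.1, conj_mem' (le_normalizer h2) k2.2⟩, ?_⟩
  refine meq (X'.mul_mem (X'.inv_mem hva) (conj_mem' h4 k1)) ?_
  generalize ⁅v, b⁆ = z at h5
  generalize ⁅a, b⁆ = w
  rw [h5]; group

theorem Tr.cent {c : G} {L B X X' Y Z Z' Y' : Subgroup G} (hL : Group.IsSolvable L)
    (h : Tr c L B X X' Y) (k : Tr c L B Z Z' Y') : Z ≤ 𝒞 X := fun s hs v hv => by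
  by_contra hne
  rw [← commutatorElement_eq_one_iff_mul_comm] at hne
  obtain ⟨a, ha, hva⟩ := h.ex v hv
  obtain ⟨b, hb, hsb⟩ := k.ex s hs
  obtain ⟨y, hy, e1⟩ := h.half k hv hs hne ha hb hva hsb
  obtain ⟨y', hy', e2⟩ := k.half h hs hv (by rwa [← commutatorElement_inv, ne_eq, inv_eq_one])
    hb ha hsb hva
  set D := ncl L (zpowers ⁅a, b⁆)
  have h1 : a ∈ D := e1 ▸ cj_le_ncl _ hy (conj_mem_cj y (mem_zpowers _))
  have h2 : b ∈ D := e2 ▸ cj_le_ncl _ hy' (conj_mem_cj y'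
    (meq ((zpowers ⁅a, b⁆).inv_mem (mem_zpowers _)) (commutatorElement_inv a b).symm))
  have h3 : D ≤ L := ncl_le_of_le le_normalizer
    (zpowers_le.2 (comm_mem_left (le_normalizer (k.YL hb)) (h.YL ha)))
  have h4 : D ≤ ⊥ := le_of_le_sup_commutator (CfsgH2.isSolvable_of_le h3 hL) (le_normalizer_bot _)
    ((ncl_le_of_le (CfsgH2.le_normalizer_commutator (le_normalizer_ncl _ _) (le_normalizer_ncl _ _))
      (zpowers_le.2 (commutator_mem_commutator h1 h2))).trans le_sup_right)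
  rw [mem_bot.1 (h4 h1), mul_one] at hva
  have : v ∈ X ⊓ X' := ⟨hv, by simpa using hva⟩
  rw [h.dis, mem_bot] at this
  simp [this] at hne

theorem sylow_sup' {q : ℕ} [Fact q.Prime] {Y Z : Subgroup G} (hn : Y ≤ 𝒩 Z) (hZ : IsPGroup q Z)
    (hY : ¬ q ∣ #Y) : IsSylowOf q Z (Z ⊔ Y) := ⟨le_sup_left, hZ, by
  rw [sup_comm, CfsgH1.relIndex_sup_of_le_normalizer hn]
  exact fun h => hY (h.trans (relIndex_dvd_card _ _))⟩

theorem tau_mem {K : Subgroup G} {v c : G} {p : ℕ} (hp : 0 < p) (hc : c ^ p = 1)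
    (h : ∀ k, 0 < k → k < p → c ^ k * v * (c ^ k)⁻¹ ∈ K) : v⁻¹ * (v * c) ^ p ∈ K := by
  have : ∀ k, k < p → v⁻¹ * (v * c) ^ (k + 1) * (c ^ (k + 1))⁻¹ ∈ K := fun k => by
    induction k with
    | zero => exact fun _ => meq K.one_mem (by group)
    | succ k ih =>
      refine fun hk => meq (K.mul_mem (ih (by omega)) (h (k + 1) (by omega) hk)) ?_
      rw [pow_succ (v * c) (k + 1), pow_succ c (k + 1)]; group
  have := this (p - 1) (by omega)
  rwa [Nat.sub_add_cancel hp, hc, inv_one, mul_one] at this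

open CfsgH3 in
/-- pushing up, ambient form -/
theorem push_amb {B D E : Subgroup G} {x t : G} (hB : IsPGroup 2 B) (hDB : D ≤ B) (ht : t ∈ B)
    (htD : t ∉ D) (hidx : ∀ b ∈ B, b ∈ D ∨ b * t ∈ D) (hBD : B ≤ 𝒩 D) (hx : x ∈ 𝒩 D)
    (hodd : (2).Coprime (orderOf x)) (hinv : t * x * t⁻¹ = x⁻¹) (hd : x ∉ 𝒞 D)
    (hN : ∀ W ≤ B, 𝒩 B ≤ 𝒩 W → x ∈ 𝒩 W → W = ⊥) (hE : Om 2 (ctr B) ≤ E) (hBE : B ≤ 𝒩 E)
    (hxE : x ∈ 𝒩 E) : ⁅D, zpowers x⁆ ≤ E := by
  set M := D ⊔ zpowers x with hM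
  set Y := B ⊔ zpowers x with hY
  have hxM : x ∈ M := mem_sup_right (mem_zpowers x)
  have hxY : x ∈ Y := mem_sup_right (mem_zpowers x)
  have hMD : M ≤ 𝒩 D := sup_le le_normalizer (zpowers_le.2 hx)
  have hYD : Y ≤ 𝒩 D := sup_le hBD (zpowers_le.2 hx)
  have htM : t ∈ 𝒩 M := mem_normalizer_of_cj_le (by
    rw [cj_sup, cj_eq_of_mem_normalizer (hBD ht), CfsgH1.cj, MonoidHom.map_zpowers]
    exact sup_le le_sup_left (zpowers_le.2 (meq (M.inv_mem hxM) hinv)))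
  have htt : t * t ∈ D := (hidx t ht).resolve_left htD
  have hDM : IsSylowOf 2 D M := sylow_sup' (zpowers_le.2 hx) (hB.to_le hDB) (by
    rw [Nat.card_zpowers]; exact (Nat.Prime.coprime_iff_not_dvd Nat.prime_two).1 hodd)
  have hMt : ∀ y ∈ Y, y ∈ M ∨ y * t ∈ M := by
    have k : ∀ a b, (a ∈ M ∨ a * t ∈ M) → (b ∈ M ∨ b * t ∈ M) → (a * b ∈ M ∨ a * b * t ∈ M) := by
      rintro a b (ha | ha) (hb | hb)
      · exact Or.inl (M.mul_mem ha hb)
      · exact Or.inr (meq (M.mul_mem ha hb) (by group))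
      · exact Or.inr (meq (M.mul_mem ha (conj_mem' ((𝒩 M).inv_mem htM) hb)) (by group))
      · exact Or.inl (meq (M.mul_mem (M.mul_mem ha (conj_mem' ((𝒩 M).inv_mem htM) hb))
          (M.inv_mem (mem_sup_left htt))) (by group))
    exact fun y hy => (show Y ≤ mkSub {y | y ∈ M ∨ y * t ∈ M} (Or.inl M.one_mem)
      (fun a ha b hb => k a b ha hb) from
      sup_le (fun b hb => (hidx b hb).imp (fun h => mem_sup_left h) fun h => mem_sup_left h)
        (zpowers_le.2 (Or.inl hxM))) hy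
  have hBY : IsSylowOf 2 B Y := isSylowOf_iff_isSylowIn.2 (CfsgH1.isSylowIn_of_maximal hB
    le_sup_left fun P hP h1 h2 y hy => by
      have k : P ⊓ M ≤ B := (IsSylowOf.le_of_le_normalizer hDM (hP.to_le inf_le_left) inf_le_right
        (inf_le_right.trans hMD)).trans hDB
      rcases hMt y (h2 hy) with h | h
      · exact k ⟨hy, h⟩
      · exact (B.mul_mem_cancel_right ht).1 (k ⟨P.mul_mem hy (h1 ht), h⟩))
  have hBY' : CfsgH1.IsSylowIn 2 (B.subgroupOf Y) ⊤ := by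
    have := (isSylowOf_iff_isSylowIn.1 hBY).subgroupOf le_rfl
    rwa [subgroupOf_self] at this
  have hi : D.relIndex B = 2 := by
    rw [relIndex, index_eq_two_iff]
    refine ⟨⟨t, ht⟩, fun b => ?_⟩
    simp only [mem_subgroupOf, coe_mul]
    rcases hidx b b.2 with h | h
    · exact Or.inr ⟨h, fun h' => htD ((D.mul_mem_cancel_left h).1 h')⟩
    · exact Or.inl ⟨h, fun h' => htD ((D.mul_mem_cancel_left h').1 h)⟩
  haveI hn : (D.subgroupOf Y).Normal := CfsgL0.normal_subgroupOf_of_le_normalizer hYD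
  have hD : PB.Dih (D.subgroupOf Y) ⟨x, hxY⟩ := by
    refine ⟨hn, (hB.to_le hDB).comap_subtype, fun P hP => ?_, fun P hP => ?_, ?_, fun y hy => ?_⟩
    · obtain ⟨y, -, rfl⟩ := hBY'.exists_cj_eq hP
      rw [← CfsgH1.cj_normal y (D.subgroupOf Y), relIndex_cj, relIndex_subgroupOf le_sup_left, hi]
    · obtain ⟨y, -, rfl⟩ := hBY'.exists_cj_eq hP
      refine ⟨y * ⟨x, hxY⟩ * y⁻¹, fun s hs hsD K hK hsK => ?_⟩
      rw [cj_cj, inv_mul_cancel_right, ← cj_cj, cj_le_iff_le_cj_inv] at hK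
      rw [← CfsgH1.cj_normal y ⊤, cj_le_iff_le_cj_inv]
      rw [← CfsgH1.cj_normal y (D.subgroupOf Y), mem_cj] at hsD
      rw [mem_cj] at hs
      have hsK' : y⁻¹ * s * y ∈ cj y⁻¹ K := mem_cj.2 (meq hsK (by group))
      generalize y⁻¹ * s * y = s at hs hsD hsK'
      generalize cj y⁻¹ K = K at hK hsK'
      have k1 : D.subgroupOf Y ≤ K := by
        rw [← CfsgH1.cj_normal ⟨x, hxY⟩ (D.subgroupOf Y)]
        exact (cj_mono _ (comap_mono hDB)).trans hK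
      have k2 : (⟨t, le_sup_left (a := B) ht⟩ : Y) ∈ K := (K.mul_mem_cancel_left hsK').1
        (k1 ((hidx s hs).resolve_left hsD))
      have k3 : (⟨x, hxY⟩ : Y) ∈ K := by
        refine mem_of_pow_cop (n := 2) (by rwa [← Subgroup.orderOf_coe]) (meq (K.mul_mem
          (hK (conj_mem_cj _ (x := ⟨t, le_sup_left (a := B) ht⟩) ht)) (K.inv_mem k2))
          (Subtype.ext ?_))
        change x ^ 2 = x * t * x⁻¹ * t⁻¹
        calc x ^ 2 = x * (x⁻¹)⁻¹ := by rw [sq, inv_inv]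
          _ = x * (t * x * t⁻¹)⁻¹ := by rw [hinv]
          _ = _ := by group
      have : Y ≤ K.map Y.subtype := sup_le (fun b hb => ⟨⟨b, le_sup_left (a := B) hb⟩,
        ((hidx b hb).elim (fun h => k1 h) fun h => (K.mul_mem_cancel_right k2).1 (k1 h)), rfl⟩)
        (zpowers_le.2 ⟨_, k3, rfl⟩)
      intro y _
      obtain ⟨z, hz, e⟩ := this y.2
      exact meq hz (Subtype.ext e.symm)
    · rw [← Subgroup.orderOf_coe]; exact hodd.symm
    · have k : (y : G) ∈ M := by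
        refine mem_of_pow_cop (n := 2) (by rw [Subgroup.orderOf_coe]; exact hy.symm) ?_
        rcases hMt y y.2 with h | h
        · exact M.pow_mem h 2
        · exact meq (M.mul_mem (M.mul_mem h (conj_mem' ((𝒩 M).inv_mem htM) h))
            (M.inv_mem (mem_sup_left htt))) (by rw [sq]; group)
      rw [← mem_map_iff_mem Y.subtype_injective, Subgroup.map_sup, MonoidHom.map_zpowers,
        map_subgroupOf_eq_of_le (hDB.trans le_sup_left)]
      exact k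
  have h1 := hD.push (fun h => hd fun d hd => congrArg Subtype.val
    (h ⟨d, le_sup_left (a := B) (hDB hd)⟩ hd)) fun P W hP hW hφ hWn => by
      obtain ⟨y, -, e⟩ := hBY'.exists_cj_eq hP
      have e' : P.map Y.subtype = cj (y : G) B := by
        have := congrArg (cj (y : G)) (map_subgroupOf_eq_of_le (show B ≤ Y from le_sup_left))
        rw [← e, map_map, ← this]
        exact (map_map (B.subgroupOf Y) (MulAut.conj (y : G)).toMonoidHom Y.subtype).symm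
      have k0 : Y ≤ 𝒩 (W.map Y.subtype) := le_normalizer_map_subtype W
      have k1 : 𝒩 (P.map Y.subtype) ≤ 𝒩 (W.map Y.subtype) := fun g hg =>
        mem_normalizer_of_conj_mem (by
          rintro _ ⟨w, hw, rfl⟩
          let ψ := P.equivMapOfInjective _ Y.subtype_injective
          have := hφ (ψ.trans (((P.map Y.subtype).normalizerMonoidHom ⟨g, hg⟩).trans ψ.symm))
            ⟨w, hW hw⟩ hw
          refine ⟨_, this, ?_⟩
          exact congrArg Subtype.val (ψ.apply_symm_apply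
            ((P.map Y.subtype).normalizerMonoidHom ⟨g, hg⟩ (ψ ⟨w, hW hw⟩))))
      rw [e', ← cj_eq_of_mem_normalizer (k0 y.2), ← cj_normalizer, ← cj_normalizer,
        cj_le_cj_iff] at k1
      have k2 : W.map Y.subtype ≤ B := by
        rw [← cj_le_cj_iff (g := (y : G)), cj_eq_of_mem_normalizer (k0 y.2), ← e']
        exact map_mono hW
      exact (map_eq_bot_iff_of_injective _ Y.subtype_injective).1 (hN _ k2 k1 (k0 hxY))
  have h2 : cV Y ≤ E.subgroupOf Y := by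
    rw [cV, closure_le]
    rintro v ⟨P, hP, h1, h2, h3⟩
    obtain ⟨y, -, rfl⟩ := hBY'.exists_cj_eq hP
    rw [← cj_centralizer, mem_cj] at h2
    rw [mem_cj] at h1
    have k : ((y⁻¹ * v * y : Y) : G) ∈ E := hE (mem_Om ⟨h1, fun b hb => congrArg Subtype.val
      (h2 ⟨b, le_sup_left (a := B) hb⟩ hb)⟩ (by
        rw [← Subgroup.coe_pow, show (y⁻¹ * v * y) ^ 2 = y⁻¹ * v ^ 2 * y by rw [sq, sq]; group, h3]
        simp))
    exact meq (X := E) (conj_mem' (sup_le hBE (zpowers_le.2 hxE) y.2) k) (by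
      simp only [coe_mul, coe_inv]; group; rfl)
  have h3 := map_mono (f := Y.subtype) (h1.trans h2)
  rw [map_commutator, MonoidHom.map_zpowers, map_subgroupOf_eq_of_le (hDB.trans le_sup_left)] at h3
  exact h3.trans (by rw [subgroupOf_map_subtype]; exact inf_le_left)

end CfsgSig
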