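import Cfsg.Agent.H2.Sig3
import Cfsg.Agent.H3.FFApp

/-! Solvable signalizer functors: failure of factorization in `{2,3}`-groups. -/

set_option autoImplicit false
set_option linter.unusedSectionVars false
set_option linter.style.haveILetI false

namespace CfsgSig

open Subgroup CfsgL0 CfsgFT
open CfsgH3 (JJ MaxA AbE)
open scoped commutatorElement

variable {G : Type*} [Group G]

theorem conj_mul_cent {V : Subgroup G} {f q v : G} (hq : q ∈ 𝒞 V) (hv : v ∈ V) :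
    f * q * v * (f * q)⁻¹ = f * v * f⁻¹ := by
  rw [mul_assoc f q v, ← hq v hv]; group

theorem comm_mul_cent {V : Subgroup G} {f q v : G} (hq : q ∈ 𝒞 V) (hv : v ∈ V) :
    ⁅v, f * q⁆ = ⁅v, f⁆ := by
  have := conj_mul_cent (f := f) hq (V.inv_mem hv)
  calc ⁅v, f * q⁆ = v * (f * q * v⁻¹ * (f * q)⁻¹) := by simp only [commutatorElement_def]; group
    _ = _ := by rw [this]; simp only [commutatorElement_def]; group

theorem mem_cent_of_comm {V : Subgroup G} {f : G} (h : ∀ v ∈ V, ⁅v, f⁆ = 1) : f ∈ 𝒞 V :=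
  fun v hv => commutatorElement_eq_one_iff_mul_comm.1 (h v hv)

theorem comm_of_cent {V : Subgroup G} {f v : G} (h : f ∈ 𝒞 V) (hv : v ∈ V) : ⁅v, f⁆ = 1 :=
  commutatorElement_eq_one_iff_mul_comm.2 (h v hv)

theorem conj_of_cent {V : Subgroup G} {f v : G} (h : f ∈ 𝒞 V) (hv : v ∈ V) : f * v * f⁻¹ = v := by
  rw [← h v hv]; group

theorem relIndex_two {B D : Subgroup G} {t : G} (ht : t ∈ B) (htD : t ∉ D)
    (hidx : ∀ b ∈ B, b ∈ D ∨ b * t ∈ D) : D.relIndex B = 2 := by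
  rw [relIndex, index_eq_two_iff]
  refine ⟨⟨t, ht⟩, fun b => ?_⟩
  simp only [mem_subgroupOf, coe_mul]
  rcases hidx b b.2 with h | h
  · exact Or.inr ⟨h, fun h' => htD ((D.mul_mem_cancel_left h).1 h')⟩
  · exact Or.inl ⟨h, fun h' => htD ((D.mul_mem_cancel_left h').1 h)⟩

/-- transvections -/
def Tv (V : Subgroup G) (t z : G) : Prop := ∀ v ∈ V, ⁅v, t⁆ = 1 ∨ ⁅v, t⁆ = z

theorem Tv.conj {V : Subgroup G} {t z g : G} (h : Tv V t z) (hg : g ∈ 𝒩 V) :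
    Tv V (g * t * g⁻¹) (g * z * g⁻¹) := fun v hv => by
  have e : ⁅v, g * t * g⁻¹⁆ = g * ⁅g⁻¹ * v * g⁻¹⁻¹, t⁆ * g⁻¹ := by
    simp only [commutatorElement_def]; group
  rcases h _ (conj_mem' ((𝒩 V).inv_mem hg) hv) with k | k <;> rw [e, k]
  · exact Or.inl (by group)
  · exact Or.inr rfl

theorem Tv.mem {V W : Subgroup G} {t z v : G} (h : Tv V t z) (hz : z ∈ W) (hv : v ∈ V) :
    ⁅v, t⁆ ∈ W := (h v hv).elim (fun e => e ▸ W.one_mem) fun e => e ▸ hz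

variable [Finite G]

theorem mul_mem_of_le_two {A B : Subgroup G} (h : A.relIndex B ≤ 2) {x y : G} (hx : x ∈ B)
    (hy : y ∈ B) (h1 : x ∉ A) (h2 : y ∉ A) : x * y ∈ A := by
  refine CfsgH3.PB.mul_mem_of_two ?_ hx hy h1 h2
  have k1 : A.relIndex B ≠ 1 := fun e => h1 (relIndex_eq_one.1 e hx)
  have k2 : A.relIndex B ≠ 0 := FiniteIndex.index_ne_zero
  omega

theorem mem_cMod_of {V W : Subgroup G} {f : G} (hW : W ≤ V) (h : ∀ v ∈ V, ⁅v, f⁆ ∈ W) :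
    f ∈ cMod V W := by
  have k : ∀ v ∈ V, ⁅f, v⁆ ∈ W := fun v hv => meq (W.inv_mem (h v hv)) (by simp)
  exact ⟨mem_normalizer_of_conj_mem fun w hw => meq (W.mul_mem (k w (hW hw)) hw)
    (by simp only [commutatorElement_def]; group), k⟩

theorem E2.card_sup {V X : Subgroup G} (h : E2 V) (hX : X ≤ V) {w : G} (hw : w ∈ V) (hwX : w ∉ X) :
    #(X ⊔ zpowers w) = #X * 2 := by
  have k : #(zpowers w) = 2 := by
    rw [Nat.card_zpowers]
    exact orderOf_eq_prime (by rw [sq, h w hw]) fun e => hwX (e ▸ X.one_mem)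
  rw [CfsgH2.card_sup_of_disjoint (hX.trans (h.le_cent.trans ((centralizer_anti'
    (zpowers_le.2 hw)).trans (centralizer_le_normalizer' _)))), k]
  rw [inf_comm]
  exact (le_or_inf_eq_bot_of_prime (k ▸ Nat.prime_two) X).resolve_left fun e =>
    hwX (e (mem_zpowers w))

theorem E2.card_pair {V : Subgroup G} (h : E2 V) {z w : G} (hz : z ∈ V) (hw : w ∈ V) (z1 : z ≠ 1)
    (w1 : w ≠ 1) (hne : w ≠ z) : #(zpowers z ⊔ zpowers w) = 4 := by
  have k := h.card_sup bot_le hz (by simpa using z1)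
  rw [bot_sup_eq, card_bot] at k
  rw [h.card_sup (zpowers_le.2 hz) hw, k]
  intro e
  rw [← eq_zpowers_of_prime_card (k ▸ Nat.prime_two) e w1] at k
  obtain ⟨n, rfl⟩ := e
  have : orderOf z = 2 := orderOf_eq_prime (by rw [sq, h z hz]) z1
  rcases Int.emod_two_eq_zero_or_one n with e | e
  · exact w1 (by dsimp only; rw [← zpow_mod_orderOf, this]; simp [e])
  · exact hne (by dsimp only; rw [← zpow_mod_orderOf, this]; simp [e])

theorem fix_two {P X : Subgroup G} (hP : IsPGroup 2 P) (hX : IsPGroup 2 X) (hn : P ≤ 𝒩 X)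
    (h0 : X ≠ ⊥) : ∃ w ∈ X, w ∈ 𝒞 P ∧ w ≠ 1 := by
  have h1 := CfsgH1.card_modEq_card_inf_centralizer hP hn
  have h2 : X ⊓ 𝒞 P ≠ ⊥ := fun e => by
    rw [e, card_bot] at h1
    have := dvd_card_of_isPGroup hX h0
    unfold Nat.ModEq at h1
    omega
  obtain ⟨⟨w, hw⟩, w1⟩ := ne_bot_iff_exists_ne_one.1 h2
  exact ⟨w, hw.1, hw.2, fun e => w1 (Subtype.ext e)⟩

theorem abE_iff {S A : Subgroup G} : AbE 2 S A ↔ A ≤ S ∧ E2 A :=
  ⟨fun h => ⟨h.1, fun a ha => by rw [← sq, h.2.2 a ha]⟩, fun h => ⟨h.1,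
    isMulCommutative_iff_le.2 h.2.le_cent, fun a ha => by rw [sq, h.2 a ha]⟩⟩

theorem E2.sup {A B : Subgroup G} (hA : E2 A) (hB : E2 B) (h : B ≤ 𝒞 A) : E2 (A ⊔ B) :=
  (abE_iff.1 ((abE_iff.2 ⟨le_top, hA⟩).sup (abE_iff.2 ⟨le_top, hB⟩) h)).2

/-- the local configuration -/
structure Cfg (T Q N F V : Subgroup G) : Prop where
  T2 : IsPGroup 2 T
  QT : Q ≤ T
  sQ : IsSylowOf 2 Q N
  F3 : IsPGroup 3 F
  FN : F ≤ N
  prd : ∀ n ∈ N, Prd F Q n
  TN : T ≤ 𝒩 N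
  NQ : N ≤ 𝒩 Q
  TQ : T ≤ 𝒩 Q
  VQ : V ≤ Q
  QV : Q ≤ 𝒞 V
  e2 : E2 V
  NV : N ≤ 𝒩 V
  TV : T ≤ 𝒩 V
  cent : T ⊓ 𝒞 V ≤ Q
  faith : ∀ t ∈ T, (∀ n ∈ N, ⁅t, n⁆ ∈ 𝒞 V) → t ∈ Q

/-- a block -/
structure Blk (T Q N V X : Subgroup G) (t z : G) : Prop where
  tT : t ∈ T
  t2 : t * t = 1
  tQ : t ∉ Q
  tv : Tv V t z
  XV : X ≤ V
  card : #X = 4
  NX : N ≤ 𝒩 X
  zX : z ∈ X

theorem Blk.conj {T Q N V X : Subgroup G} {t z g : G} (h : Blk T Q N V X t z) (hT : g ∈ 𝒩 T)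
    (hQ : g ∈ 𝒩 Q) (hN : g ∈ 𝒩 N) (hV : g ∈ 𝒩 V) :
    Blk T Q N V (cj g X) (g * t * g⁻¹) (g * z * g⁻¹) :=
  ⟨conj_mem' hT h.tT, by rw [conj_mul, h.t2]; group,
    fun e => h.tQ ((mem_normalizer_iff.1 hQ t).2 e), h.tv.conj hV,
    cj_le_of_mem_normalizer hV h.XV, by rw [card_cj, h.card], by
      rw [← cj_normalizer, ← cj_eq_of_mem_normalizer hN]; exact cj_mono g h.NX, conj_mem_cj g h.zX⟩

namespace Cfg

variable {T Q N F V : Subgroup G} (h : Cfg T Q N F V)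
include h

theorem cop {P W : Subgroup G} (hP : P ≤ F) (hW : W ≤ V) : (#P).Coprime #W :=
  CfsgH2.coprime_card_of_isPGroup (h.F3.to_le hP)
    (not_dvd_card_of_isPGroup_ne (by norm_num) (h.e2.mono hW).pg)

theorem comm_le {K : Subgroup G} (hK : K ≤ N) : ⁅V, K⁆ ≤ V :=
  commutator_le.2 fun _ hv _ hk => comm_mem_left (h.NV (hK hk)) hv

theorem comm_inf {K : Subgroup G} (hK : K ≤ N) : ⁅V, K⁆ ⊓ 𝒞 K = ⊥ := by
  have h1 := CfsgH2.commutator_inf_centralizer_eq_bot (A := F ⊓ (K ⊔ Q))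
    ((inf_le_left.trans h.FN).trans h.NV) (h.cop inf_le_left le_rfl)
    (isMulCommutative_iff_le.2 h.e2.le_cent)
  refine eq_bot_iff.2 (le_trans (le_inf (inf_le_left.trans (commutator_le.2 fun v hv k hk => ?_))
    (le_centralizer_iff.1 (inf_le_right.trans (sup_le (le_centralizer_iff.1 inf_le_right)
      (h.QV.trans (centralizer_anti' (inf_le_left.trans (h.comm_le hK)))))))) h1.le)
  obtain ⟨f, hf, q, hq, e⟩ := h.prd k (hK hk)
  rw [e, comm_mul_cent (h.QV hq) hv]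
  exact commutator_mem_commutator hv ⟨hf, meq ((K ⊔ Q).mul_mem (mem_sup_left hk)
    (mem_sup_right (Q.inv_mem hq))) (by rw [e]; group)⟩

theorem mod3 {P : Subgroup G} (hP : P ≤ F) : #⁅V, P⁆ % 3 = 1 := by
  have := CfsgH1.card_modEq_card_inf_centralizer (h.F3.to_le hP)
    (CfsgH2.le_normalizer_commutator ((hP.trans h.FN).trans h.NV) le_normalizer)
  rwa [h.comm_inf (hP.trans h.FN), card_bot] at this

theorem cent_of {f : G} (hf : f ∈ F) {W : Subgroup G} (hW : W ≤ V) (h1 : f ∈ cMod V W)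
    (h2 : f ∈ 𝒞 W) : f ∈ 𝒞 V :=
  le_centralizer_iff.1 (CfsgH2.le_centralizer_of_commutator_le (h.cop (zpowers_le.2 hf) hW)
    (Or.inl (CfsgH2.isSolvable_of_isPGroup (h.F3.to_le (zpowers_le.2 hf))))
    (le_centralizer_iff.1 (zpowers_le.2 h2))
    ((commutator_mono le_rfl (zpowers_le.2 h1)).trans (commutator_cMod_le' V W))) (mem_zpowers f)

theorem norm_V0 {A : Subgroup G} (hA : A ≤ T) (e2 : E2 A) (hi : ¬ Q.relIndex A ≤ 2)
    (hm : ∀ A1, A ⊓ Q ≤ A1 → A1 ≤ A → A1.relIndex A ∣ 2 → ¬ A1 ≤ Q → V ⊓ 𝒞 A1 ≤ 𝒞 A) :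
    N ≤ 𝒩 (V ⊓ 𝒞 A) := by
  set C := N ⊓ 𝒞 V
  have hNC : N ≤ 𝒩 C := CfsgH2.le_normalizer_inf le_normalizer
    (CfsgH2.le_normalizer_centralizer h.NV)
  have hAC : A ≤ 𝒩 C := hA.trans (CfsgH2.le_normalizer_inf h.TN
    (CfsgH2.le_normalizer_centralizer h.TV))
  have hQC : Q ≤ C := le_inf h.sQ.1 h.QV
  have hCK : C ≤ N ⊓ 𝒩 (V ⊓ 𝒞 A) := le_inf inf_le_left (inf_le_right.trans
    ((centralizer_anti' inf_le_left).trans (centralizer_le_normalizer' _)))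
  have h3 : IsPGroup 3 (qm C N) := (isPGroup_qm h.F3).to_le
    ((qm_le_qm_iff hNC (h.FN.trans hNC)).2 fun n hn =>
      (h.prd n hn).mem le_sup_right (hQC.trans le_sup_left))
  have := CfsgH2.le_of_cocyclic (K := qm C (N ⊓ 𝒩 (V ⊓ 𝒞 A)))
    (isMulCommutative_qm (N := C) (isMulCommutative_iff_le.2 e2.le_cent))
    (qm_le_normalizer (hA.trans h.TN)) (CfsgH2.coprime_card_of_isPGroup (isPGroup_qm e2.pg)
      (not_dvd_card_of_isPGroup_ne (by norm_num) h3)) fun B hB => by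
      rintro _ ⟨⟨n, hn, rfl⟩, hc⟩
      have k1 : (A ⊓ qc C B).relIndex A ∣ 2 := by
        rw [inf_relIndex_left, relIndex_qc_left hAC]
        exact hB.relIndex_dvd (isMulCommutative_qm (isMulCommutative_iff_le.2 e2.le_cent))
          ((forall_pow_qm_iff hAC).2 fun x hx => by rw [sq, e2 x hx]; exact C.one_mem)
      have k2 := hm (A ⊓ qc C B) (inf_le_inf_left _ (hQC.trans (le_qc B))) inf_le_left k1
        fun e => hi ((relIndex_le_of_le_left e FiniteIndex.index_ne_zero).trans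
          (Nat.le_of_dvd two_pos k1))
      refine qp_mem_qm ⟨hn, mem_normalizer_of_conj_mem fun v hv => ⟨conj_mem' (h.NV hn) hv.1,
        k2 ⟨conj_mem' (h.NV hn) hv.1, fun a ha => ?_⟩⟩⟩
      obtain ⟨haC, haB⟩ := mem_qc.1 ha.2
      have k3 : (a * n)⁻¹ * (n * a) ∈ C := (qp_eq_iff (x := ⟨a, haC⟩ * n) (y := n * ⟨a, haC⟩)).1
        (by rw [map_mul, map_mul]; exact hc _ haB)
      have k4 := k3.2 v hv.1
      have k5 := hv.2 a ha.1
      calc a * (n * v * (n : G)⁻¹) = a * n * (v * ((a * n)⁻¹ * (n * a))) * a⁻¹ * (n : G)⁻¹ * a * n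
            * (n : G)⁻¹ := by group
        _ = n * (a * v) * a⁻¹ * (n : G)⁻¹ * a := by rw [k4]; group
        _ = _ := by rw [k5]; group
  exact ((qm_le_qm_iff' hNC (inf_le_left.trans hNC) hCK).1 this).trans inf_le_right

theorem exists_tv (hJ : ¬ JJ 2 T ≤ Q) : ∃ A1 t z, MaxA 2 T A1 ∧ V ≤ A1 ∧ A1 ≤ Q ∧
    t ∈ JJ 2 T ∧ t * t = 1 ∧ t ∉ Q ∧ Tv A1 t z := by
  obtain ⟨A, ⟨hA, hAQ⟩, hmin⟩ := (measure fun A : Subgroup G => #(A ⊔ Q)).wf.has_min
    {A | MaxA 2 T A ∧ ¬ A ≤ Q} (by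
      by_contra hc
      exact hJ (CfsgH3.JJ_le_iff.2 fun A hA => by_contra fun k => hc ⟨A, hA, k⟩))
  have e2 := (abE_iff.1 hA.1).2
  have hVT := h.VQ.trans h.QT
  have hV0 : V ⊓ 𝒞 A ≤ A := hA.le_of_centralizer (abE_iff.2 ⟨inf_le_left.trans hVT,
    h.e2.mono inf_le_left⟩) inf_le_right
  have key : ∀ A1 V1 : Subgroup G, A1 ≤ A → V1 ≤ V → V1 ≤ 𝒞 A1 → V ⊓ 𝒞 A ≤ V1 → ¬ V1 ≤ 𝒞 A →
      A1.relIndex A ≤ 2 → MaxA 2 T (A1 ⊔ V1) := fun A1 V1 h1 h2 h3 h4 h5 h6 => by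
    refine hA.of_card_le (abE_iff.2 ⟨sup_le (h1.trans hA.le) (h2.trans hVT),
      (e2.mono h1).sup (h.e2.mono h2) h3⟩) ?_
    have k1 := CfsgH2.card_sup_mul_card_inf
      ((le_centralizer_iff.1 h3).trans (centralizer_le_normalizer' V1))
    have k2 : #(A1 ⊓ V1) ≤ #(V ⊓ 𝒞 A) := card_le_of_le (le_inf (inf_le_right.trans h2)
      (inf_le_left.trans (h1.trans e2.le_cent)))
    have k3 := CfsgH1.card_mul_relIndex h4
    have k4 : (V ⊓ 𝒞 A).relIndex V1 ≠ 1 := fun e => h5 ((relIndex_eq_one.1 e).trans inf_le_right)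
    have k5 : (V ⊓ 𝒞 A).relIndex V1 ≠ 0 := FiniteIndex.index_ne_zero
    have k6 := CfsgH1.card_mul_relIndex h1
    have k7 : 0 < #(V ⊓ 𝒞 A) := Nat.card_pos
    refine Nat.le_of_mul_le_mul_right ?_ k7
    calc #A * #(V ⊓ 𝒞 A) ≤ #A1 * 2 * #(V ⊓ 𝒞 A) := by rw [← k6]; gcongr
      _ = #A1 * (#(V ⊓ 𝒞 A) * 2) := by ring
      _ ≤ #A1 * #V1 := by rw [← k3]; gcongr; omega
      _ ≤ _ := by rw [← k1]; gcongr
  have hAV : ¬ V ≤ 𝒞 A := fun e => hAQ ((le_inf hA.le (le_centralizer_iff.1 e)).trans h.cent)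
  have hi : Q.relIndex A ≤ 2 := by
    by_contra hi
    have h1 := h.norm_V0 hA.le e2 hi fun A1 h1 h2 h3 h4 => by
      by_contra h5
      have k1 := key A1 (V ⊓ 𝒞 A1) h2 inf_le_left inf_le_right
        (inf_le_inf_left _ (centralizer_anti' h2)) h5 (Nat.le_of_dvd two_pos h3)
      refine hmin _ ⟨k1, fun e => h4 (le_sup_left.trans e)⟩ (card_lt_card (lt_of_le_of_ne
        (sup_le (sup_le (h2.trans le_sup_left) (inf_le_left.trans (h.VQ.trans le_sup_right)))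
          le_sup_right) fun e => h5 ?_))
      rw [sup_assoc, sup_eq_right.2 (inf_le_left.trans h.VQ)] at e
      refine inf_le_right.trans (centralizer_anti' fun a ha => ?_)
      obtain ⟨b, hb, q, hq, rfl⟩ := (CfsgH1.mem_sup_of_le_normalizer
        (h2.trans (hA.le.trans h.TQ))).1 (e.ge (mem_sup_left ha))
      exact A1.mul_mem hb (h1 ⟨(A.mul_mem_cancel_left (h2 hb)).1 ha, hq⟩)
    have hK : ⁅N, A⁆ ≤ N := commutator_le.2 fun n hn a ha => comm_mem_left (h.TN (hA.le ha)) hn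
    have h2 : ⁅N, A⁆ ≤ 𝒞 (V ⊓ 𝒞 A) := commutator_le.2 fun n hn a ha =>
      comm_mem_right (CfsgH2.le_normalizer_centralizer h1 hn)
        (le_centralizer_iff.1 inf_le_right ha)
    obtain ⟨w, h3, h4, h5⟩ := fix_two e2.pg (h.e2.mono (h.comm_le hK)).pg
      (CfsgH2.le_normalizer_commutator (hA.le.trans h.TV)
        (CfsgH2.le_normalizer_commutator (hA.le.trans h.TN) le_normalizer)) fun e =>
      hAQ fun a ha => h.faith a (hA.le ha) fun n hn => by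
        rw [commutator_comm, commutator_eq_bot_iff_le_centralizer, commutator_comm] at e
        exact e (commutator_mem_commutator ha hn)
    refine h5 (mem_bot.1 (h.comm_inf hK ▸ ⟨h3, le_centralizer_iff.1 h2 ⟨h.comm_le hK h3, h4⟩⟩))
  obtain ⟨t, ht, htQ⟩ := SetLike.not_le_iff_exists.1 hAQ
  have hi' : (𝒞 A).relIndex V ≤ 2 := (hA.offender (abE_iff.2 ⟨hVT, h.e2⟩)).trans
    ((relIndex_le_of_le_left h.QV FiniteIndex.index_ne_zero).trans hi)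
  obtain ⟨v, hv, hvA⟩ := SetLike.not_le_iff_exists.1 hAV
  refine ⟨A ⊓ Q ⊔ V, t, ⁅v, t⁆, key _ _ inf_le_left le_rfl (le_centralizer_iff.1
    (inf_le_right.trans h.QV)) inf_le_left hAV (by rwa [inf_relIndex_left]), le_sup_right,
    sup_le inf_le_right h.VQ, hA.le_JJ ht, e2 t ht, htQ, fun a ha => ?_⟩
  obtain ⟨b, hb, w, hw, rfl⟩ := (CfsgH1.mem_sup_of_le_normalizer
    (inf_le_right.trans (h.QT.trans h.TV))).1 ha
  have k : ∀ x y : G, x * t = t * x → ⁅y * x, t⁆ = ⁅y, t⁆ := fun x y e => by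
    simp only [commutatorElement_def]
    rw [mul_assoc y x t, e]; group
  rw [← h.QV hb.2 w hw, k b w (e2.comm hb.1 ht)]
  by_cases hwA : w ∈ 𝒞 A
  · exact Or.inl (commutatorElement_eq_one_iff_mul_comm.2 (hwA t ht).symm)
  · refine Or.inr ?_
    rw [← k (v * w) v (mul_mem_of_le_two hi' hv hw hvA hwA t ht).symm, ← mul_assoc, h.e2 v hv,
      one_mul]

section
variable {t z : G} (tT : t ∈ T) (tQ : t ∉ Q) (tv : Tv V t z)
include tT tQ tv

theorem tv_ex : ∃ v ∈ V, ⁅v, t⁆ = z ∧ z ≠ 1 := by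
  by_contra hc
  push Not at hc
  exact tQ (h.cent ⟨tT, mem_cent_of_comm fun v hv => (tv v hv).elim id fun e => e.trans (hc v hv e)⟩)

theorem z_mem : z ∈ V := let ⟨_, hv, e, _⟩ := h.tv_ex tT tQ tv; e ▸ comm_mem_left (h.TV tT) hv

theorem z_ne : z ≠ 1 := let ⟨_, _, _, e⟩ := h.tv_ex tT tQ tv; e

omit tQ in
theorem dW {n v : G} (hn : n ∈ N) {W : Subgroup G} (hW : W ≤ V) (h1 : z ∈ W)
    (h2 : n * z * n⁻¹ ∈ W) (hv : v ∈ V) : ⁅v, ⁅t, n⁆⁆ ∈ W := by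
  have k1 := (mem_cMod_of hW fun v hv => tv.mem h1 hv)
  have k2 := (mem_cMod_of hW fun v hv => (tv.conj (h.NV hn)).mem h2 hv)
  have k3 := ((cMod V W).mul_mem k1 ((cMod V W).inv_mem k2)).2 v hv
  exact meq (W.inv_mem k3) (by simp only [commutatorElement_def]; group)

theorem dne {n : G} (hn : n ∈ N) (hne : n * z * n⁻¹ ≠ z) : ⁅t, n⁆ ∉ 𝒞 V := fun hc => by
  obtain ⟨v, hv, e, z1⟩ := h.tv_ex tT tQ tv
  have k : ⁅v, n * t * n⁻¹⁆ = z := by
    rw [← e, ← comm_mul_cent (f := t) (conj_mem' ((𝒩 (𝒞 V)).inv_mem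
      (normalizer_le_normalizer_centralizer' V (h.TV tT))) ((𝒞 V).inv_mem hc)) hv]
    congr 1
    simp only [commutatorElement_def]; group
  rcases tv.conj (h.NV hn) v hv with e' | e'
  · exact z1 (k.symm.trans e')
  · exact hne (e'.symm.trans k)

omit tQ in
theorem exf {n : G} (hn : n ∈ N) : ∃ f ∈ F, ∃ q ∈ Q, ⁅t, n⁆ = f * q ∧
    ∀ W ≤ V, z ∈ W → n * z * n⁻¹ ∈ W → f ∈ cMod V W := by
  obtain ⟨f, hf, q, hq, e⟩ := h.prd _ (comm_mem_right (h.TN tT) hn)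
  exact ⟨f, hf, q, hq, e, fun W hW h1 h2 => mem_cMod_of hW fun v hv => by
    rw [← comm_mul_cent (h.QV hq) hv, ← e]; exact h.dW tT tv hn hW h1 h2 hv⟩

theorem exn : ∃ n ∈ N, n * z * n⁻¹ ≠ z := by
  by_contra hc
  push Not at hc
  refine tQ (h.faith t tT fun n hn => ?_)
  obtain ⟨f, hf, q, hq, e, k⟩ := h.exf tT tv hn
  have hz := zpowers_le.2 (h.z_mem tT tQ tv)
  rw [e]
  refine (𝒞 V).mul_mem (h.cent_of hf hz (k _ hz (mem_zpowers z) ?_) ?_) (h.QV hq)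
  · rw [hc n hn]; exact mem_zpowers z
  · rw [CfsgFT.centralizer_zpowers, mem_centralizer_singleton_iff]
    exact mul_inv_eq_iff_eq_mul.1 (hc f (h.FN hf))

theorem exf4 {n : G} (hn : n ∈ N) (hne : n * z * n⁻¹ ≠ z) : ∃ f ∈ F,
    zpowers z ⊔ zpowers (n * z * n⁻¹) ≤ ⁅V, zpowers f⁆ ∧
    ∀ W ≤ V, z ∈ W → n * z * n⁻¹ ∈ W → f ∈ cMod V W := by
  obtain ⟨f, hf, q, hq, e, k⟩ := h.exf tT tv hn
  refine ⟨f, hf, ?_, k⟩
  have hz := h.z_mem tT tQ tv
  have hz' := conj_mem' (h.NV hn) hz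
  have h4 := h.e2.card_pair hz hz' (h.z_ne tT tQ tv) (conj_ne_one (h.z_ne tT tQ tv)) hne
  have h1 : ⁅V, zpowers f⁆ ≤ zpowers z ⊔ zpowers (n * z * n⁻¹) :=
    (commutator_mono le_rfl (zpowers_le.2 (k _ (sup_le (zpowers_le.2 hz) (zpowers_le.2 hz'))
      (mem_sup_left (mem_zpowers _)) (mem_sup_right (mem_zpowers _))))).trans
      (commutator_cMod_le' _ _)
  have h2 := h.mod3 (zpowers_le.2 hf)
  have h3 : #⁅V, zpowers f⁆ ≠ 1 := fun e' => h.dne tT tQ tv hn hne (by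
    rw [card_eq_one, commutator_comm, commutator_eq_bot_iff_le_centralizer] at e'
    exact e ▸ (𝒞 V).mul_mem (e' (mem_zpowers f)) (h.QV hq))
  have h5 := card_le_of_le h1
  exact (eq_of_le_of_card_ge h1 (by omega)).ge

theorem exists_blk (t2 : t * t = 1) : ∃ X, Blk T Q N V X t z := by
  obtain ⟨n, hn, hne⟩ := h.exn tT tQ tv
  have hz := h.z_mem tT tQ tv
  have z1 := h.z_ne tT tQ tv
  have hz' := conj_mem' (h.NV hn) hz
  have h4 := h.e2.card_pair hz hz' z1 (conj_ne_one z1) hne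
  have hX := sup_le (zpowers_le.2 hz) (zpowers_le.2 hz')
  set X := zpowers z ⊔ zpowers (n * z * n⁻¹)
  have hzX : z ∈ X := mem_sup_left (mem_zpowers _)
  have key : ∀ m ∈ N, m * z * m⁻¹ ∈ X := fun m hm => by
    by_contra hc
    have hz2 := conj_mem' (h.NV hm) hz
    have h8 := h.e2.card_sup hX hz2 hc
    have hW := sup_le hX (zpowers_le.2 hz2)
    obtain ⟨f, hf, a1, a2⟩ := h.exf4 tT tQ tv hn hne
    obtain ⟨f', hf', b1, b2⟩ := h.exf4 tT tQ tv hm fun e => hc (e.symm ▸ hzX)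
    have k1 := h.mod3 (sup_le (zpowers_le.2 hf) (zpowers_le.2 hf'))
    rw [le_antisymm ((commutator_mono le_rfl (sup_le (zpowers_le.2 (a2 _ hW (mem_sup_left hzX)
      (mem_sup_left (mem_sup_right (mem_zpowers _))))) (zpowers_le.2 (b2 _ hW (mem_sup_left hzX)
      (mem_sup_right (mem_zpowers _)))))).trans (commutator_cMod_le' _ _))
      (sup_le (a1.trans (commutator_mono le_rfl le_sup_left))
        (le_sup_right.trans (b1.trans (commutator_mono le_rfl le_sup_right)))), h8, h4] at k1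
    omega
  refine ⟨X, tT, t2, tQ, tv, hX, h4, fun m hm => mem_normalizer_of_cj_le ?_, hzX⟩
  rw [cj_sup, CfsgH1.cj, CfsgH1.cj, MonoidHom.map_zpowers, MonoidHom.map_zpowers]
  exact sup_le (zpowers_le.2 (key m hm)) (zpowers_le.2 (meq (key _ (N.mul_mem hm hn))
    (by change m * (n * z * n⁻¹) * m⁻¹ = _; group)))

end

section
variable {X X' : Subgroup G} {t z t' z' : G} (b : Blk T Q N V X t z)
include b

theorem bz : z ≠ 1 := h.z_ne b.tT b.tQ b.tv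

theorem f_ncent {n f q : G} (hn : n ∈ N) (hne : n * z * n⁻¹ ≠ z) (hf : f ∈ F) (hq : q ∈ Q)
    (e : ⁅t, n⁆ = f * q) : f ∉ 𝒞 X := fun hc => h.dne b.tT b.tQ b.tv hn hne (by
  refine e ▸ (𝒞 V).mul_mem (h.cent_of hf b.XV (mem_cMod_of b.XV fun v hv => ?_) hc) (h.QV hq)
  rw [← comm_mul_cent (h.QV hq) hv, ← e]
  exact h.dW b.tT b.tv hn b.XV b.zX (conj_mem' (b.NX hn) b.zX) hv)

theorem d_ncent {n : G} (hn : n ∈ N) (hne : n * z * n⁻¹ ≠ z) : ⁅t, n⁆ ∉ 𝒞 X := fun hc => by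
  obtain ⟨f, hf, q, hq, e, -⟩ := h.exf b.tT b.tv hn
  exact h.f_ncent b hn hne hf hq e (((𝒞 X).mul_mem_cancel_right
    (centralizer_anti' b.XV (h.QV hq))).1 (e ▸ hc))

theorem t_ncent : t ∉ 𝒞 X := fun hc => by
  obtain ⟨n, hn, hne⟩ := h.exn b.tT b.tQ b.tv
  exact h.d_ncent b hn hne (comm_mem_left (normalizer_le_normalizer_centralizer' X (b.NX hn)) hc)

theorem irr {Y : Subgroup G} (hY : N ≤ 𝒩 Y) {y : G} (h1 : y ∈ X) (h2 : y ∈ Y) (y1 : y ≠ 1) :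
    X ≤ Y := fun v hv => by
  obtain ⟨n, hn, hne⟩ := h.exn b.tT b.tQ b.tv
  obtain ⟨f, hf, q, hq, e, -⟩ := h.exf b.tT b.tv hn
  by_cases v1 : v = 1
  · exact v1 ▸ Y.one_mem
  obtain ⟨k, rfl⟩ := four_trans h.F3 (h.e2.mono b.XV) b.card hf (b.NX (h.FN hf))
    (h.f_ncent b hn hne hf hq e) h1 y1 hv v1
  exact conj_mem' (hY (N.pow_mem (h.FN hf) k)) h2

theorem eq_of_mem (b' : Blk T Q N V X' t' z') {y : G} (h1 : y ∈ X) (h2 : y ∈ X') (y1 : y ≠ 1) :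
    X = X' := le_antisymm (h.irr b b'.NX h1 h2 y1) (h.irr b' b.NX h2 h1 y1)

theorem dis (b' : Blk T Q N V X' t' z') (hne : X ≠ X') : X ⊓ X' = ⊥ :=
  eq_bot_iff.2 fun _ hy => by_contra fun y1 => hne (h.eq_of_mem b b' hy.1 hy.2 y1)

theorem t_cent (b' : Blk T Q N V X' t' z') (hne : X ≠ X') : t ∈ 𝒞 X' := by
  refine mem_cent_of_comm fun v hv => (b.tv v (b'.XV hv)).resolve_right fun e => ?_
  have hz : z ∉ X' := fun k => hne (h.eq_of_mem b b' b.zX k (h.bz b))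
  have h8 := h.e2.card_sup b'.XV (b.XV b.zX) hz
  have k1 : X ≤ X' ⊔ cj t X' := h.irr b (CfsgH2.le_normalizer_sup b'.NX (by
      rw [← cj_normalizer, ← cj_eq_of_mem_normalizer (h.TN b.tT)]; exact cj_mono t b'.NX)) b.zX
    (meq ((X' ⊔ cj t X').mul_mem (mem_sup_left hv) (mem_sup_right (conj_mem_cj t (X'.inv_mem hv))))
      (by rw [← e]; simp only [commutatorElement_def]; group)) (h.bz b)
  have k2 : cj t X' ≤ X' ⊔ zpowers z := cj_le_of_mem_normalizer (mem_cMod_of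
    (sup_le b'.XV (zpowers_le.2 (b.XV b.zX))) fun v hv =>
      b.tv.mem (mem_sup_right (mem_zpowers z)) hv).1 le_sup_left
  have k3 := card_le_of_le (sup_le (k1.trans (sup_le le_sup_left k2)) le_sup_left)
  rw [CfsgH2.card_sup_of_disjoint (b.XV.trans (h.e2.le_cent.trans ((centralizer_anti' b'.XV).trans
    (centralizer_le_normalizer' _)))) (h.dis b b' hne), h8, b.card, b'.card] at k3
  omega

theorem d_cent (b' : Blk T Q N V X' t' z') (hne : X ≠ X') {n : G} (hn : n ∈ N) : ⁅t, n⁆ ∈ 𝒞 X' :=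
  comm_mem_left (normalizer_le_normalizer_centralizer' X' (b'.NX hn)) (h.t_cent b b' hne)

theorem exf' : ∃ f ∈ F, f ∉ 𝒞 X ∧ ∀ X' t' z', Blk T Q N V X' t' z' → X ≠ X' → f ∈ 𝒞 X' := by
  obtain ⟨n, hn, hne⟩ := h.exn b.tT b.tQ b.tv
  obtain ⟨f, hf, q, hq, e, -⟩ := h.exf b.tT b.tv hn
  exact ⟨f, hf, h.f_ncent b hn hne hf hq e, fun X' t' z' b' hne' => ((𝒞 X').mul_mem_cancel_right
    (centralizer_anti' b'.XV (h.QV hq))).1 (e ▸ h.d_cent b b' hne' hn)⟩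

theorem t_norm : t ∈ 𝒩 X := (mem_cMod_of b.XV fun _ hv => b.tv.mem b.zX hv).1

theorem cent_two {s v w : G} (hv : v ∈ X) (hw : w ∈ X) (v1 : v ≠ 1) (w1 : w ≠ 1) (hne : v ≠ w)
    (h1 : v * s = s * v) (h2 : w * s = s * w) : s ∈ 𝒞 X := fun u hu => by
  rcases four_cases (h.e2.mono b.XV) b.card hv hw v1 w1 hne hu with e | e | e | e <;> rw [e]
  · simp
  · exact h1
  · exact h2
  · rw [mul_assoc, h2, ← mul_assoc, h1, mul_assoc]

theorem fixz {s : G} (hs : s ∈ T) (hn : s ∈ 𝒩 X) : z * s = s * z := by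
  obtain ⟨w, h1, h2, w1⟩ := fix_two (P := T ⊓ 𝒩 X) (h.T2.to_le inf_le_left) (h.e2.mono b.XV).pg
    inf_le_right fun e => h.bz b (mem_bot.1 (e ▸ b.zX))
  by_cases e : z = w
  · exact e ▸ (h2 s ⟨hs, hn⟩).symm
  refine absurd (h.cent_two b b.zX h1 (h.bz b) w1 e ?_ (h2 t ⟨b.tT, h.t_norm b⟩).symm) (h.t_ncent b)
  obtain ⟨v, hv, e', -⟩ := h.tv_ex b.tT b.tQ b.tv
  have k1 := h.e2.inv hv
  have k2 : t⁻¹ = t := inv_eq_of_mul_eq_one_right b.t2
  have k3 := h.e2.inv (b.XV b.zX)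
  calc z * t = v * t * v * (t * t) := by rw [← e', commutatorElement_def, k1, k2]; group
    _ = t * t * v * t * v := by rw [b.t2]; group
    _ = t * z⁻¹ := by rw [← e', commutatorElement_inv, commutatorElement_def, k1, k2]; group
    _ = _ := by rw [k3]

theorem conjT {s : G} (hs : s ∈ T) : Blk T Q N V (cj s X) (s * t * s⁻¹) (s * z * s⁻¹) :=
  b.conj (le_normalizer hs) (h.TQ hs) (h.TN hs) (h.TV hs)

theorem norm_of_fix {s v : G} (hs : s ∈ T) (hv : v ∈ X) (v1 : v ≠ 1) (e : v * s = s * v) :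
    s ∈ 𝒩 X := mem_normalizer_iff_cj.2 (h.eq_of_mem (h.conjT b hs) b
      (meq (conj_mem_cj s hv) (by rw [← e]; group)) hv v1)

theorem maxA_norm {A : Subgroup G} (hA : MaxA 2 T A) : A ≤ 𝒩 X := by
  by_contra hc
  have e2 := (abE_iff.1 hA.1).2
  have h0 : ∀ v ∈ X, v ∈ 𝒞 A → v = 1 := fun v hv hv' => by_contra fun v1 =>
    hc fun a ha => h.norm_of_fix b (hA.le ha) hv v1 (hv' a ha).symm
  obtain ⟨n, hn, hne⟩ := h.exn b.tT b.tQ b.tv
  have hv := conj_mem' (b.NX hn) b.zX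
  have v1 := conj_ne_one (g := n) (h.bz b)
  generalize n * z * n⁻¹ = v at hne hv v1
  set W := ncl A X
  have hWV : W ≤ V := ncl_le_of_le (hA.le.trans h.TV) b.XV
  have hoff := hA.offender (B := W) (abE_iff.2 ⟨hWV.trans (h.VQ.trans h.QT), h.e2.mono hWV⟩)
  have h1 : ∀ a ∈ A, a * v * a⁻¹ = v → a ∈ 𝒞 W := fun a ha e => by
    have e' := (mul_inv_eq_iff_eq_mul.1 e).symm
    have := h.cent_two b hv b.zX v1 (h.bz b) hne e'
      (h.fixz b (hA.le ha) (h.norm_of_fix b (hA.le ha) hv v1 e'))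
    exact fun w hw => mem_centralizer_singleton_iff.1 (ncl_le_of_le (le_normalizer_cent_one
      (isMulCommutative_iff_le.2 e2.le_cent) ha) (le_centralizer_of_mem_ctr this) hw)
  have h2 : ∀ a ∈ A, v⁻¹ * (a * v * a⁻¹) ∈ 𝒞 A → a ∈ 𝒞 W := fun a ha e => by
    by_contra ha'
    have k1 : X ≠ cj a X := fun e' => ha' (h1 a ha (by
      have := h0 _ (X.mul_mem (X.inv_mem hv) (e' ▸ conj_mem_cj a hv)) e
      exact (inv_mul_eq_one.1 this).symm))
    have k2 : ∀ c ∈ A, cj c X = X → c ∈ 𝒞 W := fun c hc e' => h1 c hc (by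
      rw [← inv_mul_eq_one, ← mem_bot, ← h.dis b (h.conjT b (hA.le ha)) k1]
      refine ⟨X.mul_mem (X.inv_mem (e' ▸ conj_mem_cj c hv)) hv, ?_⟩
      have k3 : c * a * v * (c * a)⁻¹ ∈ cj a X := by
        rw [← e', cj_cj, ← e2.comm hc ha]; exact conj_mem_cj _ hv
      refine meq ((cj a X).mul_mem (conj_mem_cj a hv) ((cj a X).inv_mem k3)) ?_
      have k4 := h.e2.comm (V.inv_mem (conj_mem' (h.TV (hA.le hc)) (b.XV hv))) (b.XV hv)
      have k5 := conj_of_cent (le_centralizer_iff.1 (zpowers_le.2 e) hc) (mem_zpowers _)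
      rw [k4]
      calc v * (c * v * c⁻¹)⁻¹ = a * v * a⁻¹ * (v⁻¹ * (a * v * a⁻¹))⁻¹ * (c * v * c⁻¹)⁻¹ := by group
        _ = a * v * a⁻¹ * (c * (v⁻¹ * (a * v * a⁻¹)) * c⁻¹)⁻¹ * (c * v * c⁻¹)⁻¹ := by rw [k5]
        _ = _ := by group)
    have k3 := relIndex_two ha ha' fun c hc => by
      by_cases c1 : cj c X = X
      · exact Or.inl (k2 c hc c1)
      by_cases c2 : cj c X = cj a X
      · exact Or.inr (k2 _ (A.mul_mem hc ha) (by
          rw [e2.comm hc ha, ← cj_cj, c2, cj_cj, e2 a ha, CfsgH1.cj_one]))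
      exfalso
      have b1 := h.conjT b (hA.le hc)
      obtain ⟨f, hf, f1, f2⟩ := h.exf' b1
      have m1 := f2 _ _ _ b c1 _ hv
      have m2 := f2 _ _ _ (h.conjT b (hA.le ha)) c2 _ (conj_mem_cj a hv)
      have m3 := f2 _ _ _ (h.conjT b (hA.le (A.mul_mem hc ha))) (by
        rw [← cj_cj]; exact fun e' => k1 (cj_inj.1 e')) _ (conj_mem_cj (c * a) hv)
      refine f1 (fix3 h.F3 b1.card hf (b1.NX (h.FN hf)) (conj_mem_cj c hv) (conj_ne_one v1) ?_)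
      have k5 := conj_of_cent (le_centralizer_iff.1 (zpowers_le.2 e) hc) (mem_zpowers _)
      have k6 : c * v * c⁻¹ ∈ 𝒞₁ f := by
        refine meq ((𝒞₁ f).mul_mem (mem_centralizer_singleton_iff.2 m3) ((𝒞₁ f).inv_mem
          ((𝒞₁ f).mul_mem ((𝒞₁ f).inv_mem (mem_centralizer_singleton_iff.2 m1))
            (mem_centralizer_singleton_iff.2 m2)))) ?_
        rw [← k5]; group
      rw [← mem_centralizer_singleton_iff.1 k6]; group
    have hX := le_ncl A X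
    exact hne ((inv_mul_eq_one.1 (h0 _ (X.mul_mem (X.inv_mem hv) b.zX) (mul_mem_of_le_two
      (hoff.trans k3.le) (hX (X.inv_mem hv)) (hX b.zX) (fun e => v1 (by simpa using h0 _ (X.inv_mem hv) e))
      fun e => h.bz b (h0 _ b.zX e)))))
  let ψ : Option (A ⧸ (𝒞 W).subgroupOf A) → W := fun o => o.elim 1 fun q =>
    ⟨q.out * v * (q.out : G)⁻¹, cj_le_ncl X q.out.2 (conj_mem_cj _ hv)⟩
  let φ : Option (A ⧸ (𝒞 W).subgroupOf A) → W ⧸ (𝒞 A).subgroupOf W := fun o =>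
    QuotientGroup.mk (ψ o)
  have hφ : ∀ o o', φ o = φ o' → (ψ o : G)⁻¹ * ψ o' ∈ 𝒞 A := fun o o' e =>
    (QuotientGroup.eq (a := ψ o) (b := ψ o')).1 e
  have hA' : ∀ a ∈ A, ∀ w ∈ 𝒞 A, a⁻¹ * w * a ∈ 𝒞 A := fun a ha w hw =>
    meq (conj_mem' (normalizer_le_normalizer_centralizer' A (le_normalizer (A.inv_mem ha))) hw)
      (by group)
  have h3 : ∀ q, φ none ≠ φ (some q) := fun q e => v1 (h0 v hv (meq (hA' _ q.out.2 _
    (hφ _ _ e)) (by simp only [ψ, Option.elim, OneMemClass.coe_one]; group)))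
  have := Nat.card_le_card_of_injective φ (by
    rintro (_ | q) (_ | q') e
    · rfl
    · exact absurd e (h3 q')
    · exact absurd e.symm (h3 q)
    · congr 1
      rw [← q.out_eq, ← q'.out_eq]
      exact QuotientGroup.eq.2 (h2 ((q.out : G)⁻¹ * q'.out) (q.out⁻¹ * q'.out).2
        (meq (hA' _ q.out.2 _ (hφ _ _ e)) (by simp only [ψ, Option.elim]; group))))
  rw [Finite.card_option] at this
  change (𝒞 W).relIndex A + 1 ≤ (𝒞 A).relIndex W at this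
  omega

end

end Cfg

end CfsgSig
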