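import Cfsg.Agent.H2.Sig4

/-! Solvable signalizer functors: the Baumann subgroup. -/

set_option autoImplicit false
set_option linter.unusedSectionVars false
set_option linter.style.haveILetI false

namespace CfsgSig

open Subgroup CfsgL0 CfsgFT
open CfsgH3 (JJ MaxA AbE)
open scoped commutatorElement

variable {G : Type*} [Group G] [Finite G]

/-- `Ω₁ Z J(T)` -/
def EJ (T : Subgroup G) : Subgroup G := Om 2 (ctr (JJ 2 T))

/-- the Baumann subgroup -/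
def Bm (T : Subgroup G) : Subgroup G := T ⊓ 𝒞 (EJ T)

theorem e2_Om (H : Subgroup G) : E2 (Om 2 (ctr H)) := fun v hv => by
  rw [← sq, (isElementaryAbelian_Om (isMulCommutative_ctr H)).2 v hv]

theorem norm_EJ (T : Subgroup G) : 𝒩 T ≤ 𝒩 (EJ T) :=
  (CfsgH3.normalizer_le_normalizer_JJ T).trans ((normalizer_le_normalizer_ctr _).trans
    (normalizer_le_normalizer_Om _ _))

theorem norm_Bm (T : Subgroup G) : 𝒩 T ≤ 𝒩 (Bm T) :=
  CfsgH2.le_normalizer_inf le_rfl (CfsgH2.le_normalizer_centralizer (norm_EJ T))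

theorem EJ_cent (T : Subgroup G) : EJ T ≤ 𝒞 (JJ 2 T) := (Om_le _ _).trans inf_le_right

theorem EJ_le (T : Subgroup G) : EJ T ≤ T := (Om_le _ _).trans (inf_le_left.trans (CfsgH3.JJ_le T))

theorem EJ_le_maxA {T A : Subgroup G} (h : MaxA 2 T A) : EJ T ≤ A := fun x hx =>
  h.mem (EJ_le T hx) (centralizer_anti' h.le_JJ (EJ_cent T hx)) (by rw [sq, e2_Om _ x hx])

theorem mem_EJ {T : Subgroup G} {x : G} (h1 : x ∈ T) (h2 : x ∈ 𝒞 (JJ 2 T)) (h3 : x * x = 1) :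
    x ∈ EJ T := by
  obtain ⟨A, hA⟩ := CfsgH3.exists_maxA 2 T
  exact mem_Om ⟨hA.le_JJ (hA.mem h1 (centralizer_anti' hA.le_JJ h2) (by rwa [sq])), h2⟩ (by rwa [sq])

theorem JJ_le_Bm (T : Subgroup G) : JJ 2 T ≤ Bm T :=
  le_inf (CfsgH3.JJ_le T) (le_centralizer_iff.1 (EJ_cent T))

namespace Cfg

variable {T Q N F V : Subgroup G} (h : Cfg T Q N F V) {X : Subgroup G} {t z : G}
  (b : Blk T Q N V X t z)
include h b

theorem Bm_norm : Bm T ≤ 𝒩 X := fun s hs => h.norm_of_fix b hs.1 b.zX (h.bz b) (hs.2 z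
  (mem_EJ (h.QT (h.VQ (b.XV b.zX))) (fun _ hy => mem_centralizer_singleton_iff.1
    (CfsgH3.JJ_le_iff.2 (fun _ hA _ ha => mem_centralizer_singleton_iff.2
      (h.fixz b (hA.le ha) (h.maxA_norm b hA ha)).symm) hy))
    (h.e2 z (b.XV b.zX))))

theorem pow_mul {f g : G} (hf : f ∈ F) (hc : f ∉ 𝒞 X) (hg : g ∈ F) :
    ∃ k : ℕ, (f ^ k)⁻¹ * g ∈ 𝒞 X := by
  obtain ⟨k, e⟩ := four_trans h.F3 (h.e2.mono b.XV) b.card hf (b.NX (h.FN hf)) hc b.zX (h.bz b)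
    (conj_mem' (b.NX (h.FN hg)) b.zX) (conj_ne_one (h.bz b))
  have hr := F.mul_mem (F.inv_mem (F.pow_mem hf k)) hg
  refine ⟨k, fix3 h.F3 b.card hr (b.NX (h.FN hr)) b.zX (h.bz b) ?_⟩
  calc _ = (f ^ k)⁻¹ * (g * z * g⁻¹) * f ^ k := by group
    _ = z := by rw [e]; group

theorem comm_cent : ⁅F, F⁆ ≤ 𝒞 X := commutator_le.2 fun f hf g hg => by
  have k : N ≤ 𝒩 (𝒞 X) := CfsgH2.le_normalizer_centralizer b.NX
  by_cases hc : f ∈ 𝒞 X
  · exact comm_mem_left (k (h.FN hg)) hc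
  obtain ⟨n, e⟩ := h.pow_mul b hf hc hg
  exact meq (conj_mem' (k (N.pow_mem (h.FN hf) n)) (comm_mem_right (k (h.FN hf)) e))
    (by simp only [commutatorElement_def]; group)

theorem tr {p : ℕ} [hp : Fact p.Prime] (p3 : 3 < p) {c : G} (hc : c ^ p = 1) (cT : c ∈ 𝒩 T)
    (cQ : c ∈ 𝒩 Q) (cN : c ∈ 𝒩 N) (cF : c ∈ 𝒩 F) (cV : c ∈ 𝒩 V) {L : Subgroup G}
    (hV : V ⊓ 𝒞₁ c ≤ L) (hF : F ⊓ 𝒞₁ c ≤ L) (hVB : V ≤ Bm T) :
    ∃ X' Y, Tr c L (Bm T) X X' Y := by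
  set X' := ⨆ Y : {Y // (∃ t z, Blk T Q N V Y t z) ∧ X ≠ Y}, Y.1
  set Y := ncl (zpowers c) X
  have hb : ∀ g ∈ zpowers c, Blk T Q N V (cj g X) (g * t * g⁻¹) (g * z * g⁻¹) := fun g hg =>
    b.conj (zpowers_le.2 cT hg) (zpowers_le.2 cQ hg) (zpowers_le.2 cN hg) (zpowers_le.2 cV hg)
  have hX'V : X' ≤ V := iSup_le fun ⟨_, ⟨_, _, b'⟩, _⟩ => b'.XV
  have hYV : Y ≤ V := ncl_le fun g hg => (hb g hg).XV
  have hNY : N ≤ 𝒩 Y := le_normalizer_iSup fun g => (hb g g.2).NX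
  have hNX' : N ≤ 𝒩 X' := le_normalizer_iSup fun ⟨_, ⟨_, _, b'⟩, _⟩ => b'.NX
  obtain ⟨f, hf, f1, f2⟩ := h.exf' b
  have hfX : X' ≤ 𝒞₁ f := iSup_le fun ⟨_, ⟨_, _, b'⟩, k⟩ =>
    le_centralizer_of_mem_ctr (f2 _ _ _ b' k)
  have hf0 : ∀ v ∈ X, v ∈ 𝒞₁ f → v = 1 := fun v hv hv' => by_contra fun v1 =>
    f1 (fix3 h.F3 b.card hf (b.NX (h.FN hf)) hv v1 (by
      rw [← mem_centralizer_singleton_iff.1 hv']; group))
  have hk : c ∉ 𝒩 X → ∀ k, 0 < k → k < p → c ^ k ∉ 𝒩 X := fun h1 k k0 kp h2 =>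
    h1 (mem_of_pow_cop ((Nat.coprime_of_lt_prime k0.ne' kp hp.out).symm.coprime_dvd_right
      (orderOf_dvd_of_pow_eq_one hc)) h2)
  have cop : ∀ M ≤ F, (#(zpowers c)).Coprime #M := fun M hM => CfsgH2.coprime_card_of_isPGroup
    (CfsgH1.isPGroup_zpowers (p := p) (k := 1) (by rwa [pow_one]))
    (not_dvd_card_of_isPGroup_ne (by omega) (h.F3.to_le hM))
  have sol : Group.IsSolvable (zpowers c) := CfsgH2.isSolvable_of_isMulCommutative inferInstance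
  obtain ⟨y, hy, yc, y1⟩ : ∃ y ∈ F, y ∈ 𝒞₁ c ∧ y ∉ 𝒞 X := by
    by_cases hcX : c ∈ 𝒩 X
    · obtain ⟨n, hn, y, hy, e⟩ := CfsgH2.exists_commutator_mul_centralizer (zpowers_le.2 cF)
        (cop F le_rfl) (Or.inl sol) hf
      refine ⟨y, hy.1, CfsgFT.centralizer_zpowers c ▸ hy.2, fun k => f1 (e ▸ (𝒞 X).mul_mem ?_ k)⟩
      exact commutator_le.2 (fun g hg a ha => comm_mem_right (CfsgH2.le_normalizer_centralizer
        b.NX (h.FN hg)) (zpowers_le.2 (fixp p3 b.card hc hcX) ha)) hn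
    have k1 := tau_mem (K := F ⊓ 𝒞 X) (v := f) hp.out.pos hc fun k k0 kp =>
      ⟨conj_mem' ((𝒩 F).pow_mem cF k) hf, by
        have := conj_mem_cj (c ^ k) (f2 _ _ _ (hb _ ((zpowers c).inv_mem (npow_mem_zpowers c k)))
          fun e => hk hcX k k0 kp ((𝒩 X).inv_mem_iff.1 (mem_normalizer_iff_cj.2 e.symm)))
        rwa [cj_centralizer, cj_cj_inv] at this⟩
    have k2 : (f * c) ^ p ∈ F := (F.mul_mem_cancel_left (F.inv_mem hf)).1 k1.1
    have k3 := CfsgH2.le_normalizer_commutator (zpowers_le.2 cF) (zpowers_le.2 cF)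
    have k4 : c ∈ cMod (zpowers ((f * c) ^ p)) ⁅F, F⁆ := ⟨k3 (mem_zpowers c), fun x hx => by
      have : f * c * x = x * (f * c) := by
        obtain ⟨n, rfl⟩ := hx
        exact (((Commute.refl (f * c)).pow_right p).zpow_right n).eq
      refine meq (commutator_mem_commutator (F.inv_mem hf) (zpowers_le.2 k2 hx)) ?_
      calc ⁅c, x⁆ = f⁻¹ * (f * c * x) * c⁻¹ * x⁻¹ := by simp only [commutatorElement_def]; group
        _ = _ := by rw [this]; simp only [commutatorElement_def]; group⟩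
    obtain ⟨m, hm, y, hy, e⟩ := CfsgH2.exists_eq_mul_centralizer k3
      (cop _ (commutator_le.2 fun _ h1 _ h2 =>
        comm_mem_left (le_normalizer h2) h1)) (Or.inl sol) (x := (f * c) ^ p) fun a ha =>
        meq ((⁅F, F⁆).inv_mem ((zpowers_le.2 k4 ha).2 _ (mem_zpowers _))) (by simp)
    have hmF : m ∈ F := commutator_le.2 (fun _ h1 _ h2 => comm_mem_left (le_normalizer h2) h1) hm
    refine ⟨y, (F.mul_mem_cancel_left hmF).1 (e ▸ k2), CfsgFT.centralizer_zpowers c ▸ hy,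
      fun k => f1 ((𝒞 X).inv_mem_iff.1 (((𝒞 X).mul_mem_cancel_right ?_).1 k1.2))⟩
    exact e ▸ (𝒞 X).mul_mem (h.comm_cent b hm) k
  refine ⟨X', Y, b.XV.trans hVB, hYV.trans hVB, h.Bm_norm b,
    le_normalizer_iSup fun ⟨_, ⟨_, _, b'⟩, _⟩ => h.Bm_norm b',
    le_normalizer_iSup fun g => h.Bm_norm (hb g g.2),
    eq_bot_iff.2 fun v hv => hf0 v hv.1 (hfX hv.2), eq_bot_iff.2 fun w hw => ?_,
    fun v hv => ?_, (inf_le_inf_right _ hYV).trans hV, fun w hw w1 v hv v1 => ?_⟩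
  · set R := ncl (zpowers c) (zpowers f)
    have hR : R ≤ N := ncl_le_of_le (zpowers_le.2 cN) (zpowers_le.2 (h.FN hf))
    have hfR : f ∈ R := le_ncl _ _ (mem_zpowers f)
    rw [← h.comm_inf hR]
    refine ⟨ncl_le_of_le (CfsgH2.le_normalizer_commutator (zpowers_le.2 cV)
      (le_normalizer_ncl _ _)) (fun v hv => ?_) hw.1.1, fun r hr =>
        mem_centralizer_singleton_iff.1 (ncl_le_of_le (K := 𝒞₁ w) (zpowers_le.2 (le_normalizer
          (mem_centralizer_singleton_iff.2 (mem_centralizer_singleton_iff.1 hw.1.2).symm)))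
          (zpowers_le.2 (mem_centralizer_singleton_iff.2
            (mem_centralizer_singleton_iff.1 (hfX hw.2)).symm)) hr)⟩
    by_cases v1 : v = 1
    · exact v1 ▸ one_mem _
    obtain ⟨k, rfl⟩ := four_trans h.F3 (h.e2.mono b.XV) b.card hf (b.NX (h.FN hf)) f1
      (comm_mem_left (b.NX (h.FN hf)) b.zX) (fun e => h.bz b (hf0 z b.zX
        (mem_centralizer_singleton_iff.2 (commutatorElement_eq_one_iff_mul_comm.1 e)))) hv v1
    exact conj_mem' (CfsgH2.le_normalizer_commutator (hR.trans h.NV) le_normalizer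
      (R.pow_mem hfR k)) (commutator_mem_commutator (b.XV b.zX) hfR)
  · by_cases hcX : c ∈ 𝒩 X
    · exact ⟨v, ⟨le_ncl _ _ hv, le_centralizer_of_mem_ctr (fixp p3 b.card hc hcX) hv⟩, by simp⟩
    have k1 := tau_mem (K := Y ⊓ X') (v := v) hp.out.pos hc fun k k0 kp =>
      ⟨cj_le_ncl X (npow_mem_zpowers c k) (conj_mem_cj _ hv), le_iSup_of_le
        (f := fun Y : {Y // (∃ t z, Blk T Q N V Y t z) ∧ X ≠ Y} => Y.1)
        ⟨_, ⟨_, _, hb _ (npow_mem_zpowers c k)⟩, fun e => hk hcX k k0 kp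
          (mem_normalizer_iff_cj.2 e.symm)⟩ le_rfl (conj_mem_cj _ hv)⟩
    have k2 : (v * c) ^ p ∈ Y := (Y.mul_mem_cancel_left (Y.inv_mem (le_ncl _ _ hv))).1 k1.1
    refine ⟨_, ⟨k2, mem_centralizer_singleton_iff.2 ?_⟩, k1.2⟩
    have k3 := h.e2.comm (hYV k2) (b.XV hv)
    have k4 := ((Commute.refl (v * c)).pow_left p).eq
    generalize (v * c) ^ p = a at k3 k4
    rw [← mul_assoc, k3, mul_assoc, mul_assoc] at k4
    exact mul_left_cancel k4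
  · obtain ⟨k, rfl⟩ := four_trans h.F3 (h.e2.mono b.XV) b.card hy (b.NX (h.FN hy)) y1 hw w1 hv v1
    have := N.pow_mem (h.FN hy) k
    exact ⟨_, L.pow_mem (hF ⟨hy, yc⟩) k, (𝒞₁ c).pow_mem yc k, hNY this, hNX' this, rfl⟩

theorem conj_eq {s v : G} (hs : s ∈ T) (hn : s ∈ 𝒩 X) (hc : s ∉ 𝒞 X) (hv : v ∈ X) (v1 : v ≠ 1)
    (hne : z ≠ v) : s * v * s⁻¹ = z * v := by
  have k := h.fixz b hs hn
  rcases four_cases (h.e2.mono b.XV) b.card b.zX hv (h.bz b) v1 hne (conj_mem' hn hv) with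
    e | e | e | e
  · exact absurd e (conj_ne_one v1)
  · rw [mul_inv_eq_iff_eq_mul, k] at e
    exact absurd (mul_left_cancel e).symm hne
  · exact absurd (h.cent_two b b.zX hv (h.bz b) v1 hne k (mul_inv_eq_iff_eq_mul.1 e).symm) hc
  · exact e

omit b in
theorem main (hJ : ¬ JJ 2 T ≤ Q) : ∃ X t z x, Blk T Q N V X t z ∧ V ≤ Bm T ∧ x ∈ N ∧
    (∀ K, x ∈ K → N ⊓ 𝒞 V ≤ K → ∀ n ∈ N, ⁅t, n⁆ ∈ K) ∧
    ((∀ W ≤ T, 𝒩 T ≤ 𝒩 W → x ∈ 𝒩 W → W = ⊥) → ⁅Bm T ⊓ 𝒞 X, zpowers x⁆ ≤ X) := by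
  obtain ⟨A, t, z, hA, hVA, hAQ, tJ, t2, tQ, tv⟩ := h.exists_tv hJ
  obtain ⟨X, b⟩ := h.exists_blk (CfsgH3.JJ_le T tJ) tQ (fun v hv => tv v (hVA hv)) t2
  have hVB := hVA.trans (hA.le_JJ.trans (JJ_le_Bm T))
  set T1 := T ⊓ 𝒞 X
  have hQ1 : Q ≤ T1 := le_inf h.QT (h.QV.trans (centralizer_anti' b.XV))
  have hn1 : ∀ s ∈ T, s ∈ 𝒩 X → s ∈ 𝒩 T1 := fun s h1 h2 => CfsgH2.le_normalizer_inf
    (zpowers_le.2 (le_normalizer h1)) (CfsgH2.le_normalizer_centralizer (zpowers_le.2 h2))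
    (mem_zpowers s)
  obtain ⟨n, hn, hn', hne⟩ : ∃ n ∈ N, n ∈ 𝒩 T1 ∧ n * z * n⁻¹ ≠ z := by
    obtain ⟨n, hn, hne⟩ := h.exn b.tT b.tQ b.tv
    have k0 := inf_le_left.trans h.TN (b := T) (a := T1)
    have k1 : IsSylowOf 2 T1 (T1 ⊔ N) := ⟨le_sup_left, h.T2.to_le inf_le_left, by
      rw [relIndex_sup_of_le_normalizer' k0]
      exact fun e => h.sQ.2.2 (e.trans (relIndex_dvd_of_le_left _ hQ1))⟩
    obtain ⟨c, hc, m, hm, e⟩ := (isSylowOf_iff_isSylowIn.1 (k1.mono (K := (T1 ⊔ N) ⊓ 𝒞 X)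
      (le_inf le_sup_left inf_le_right) inf_le_left)).frattini (CfsgH2.le_normalizer_inf
        (le_sup_right.trans le_normalizer) (CfsgH2.le_normalizer_centralizer b.NX) hn)
    obtain ⟨n', h1, s, h2, e'⟩ := (CfsgH1.mem_sup_of_le_normalizer' k0).1
      (sup_comm T1 N ▸ ((T1 ⊔ N).mul_mem_cancel_left hc.1).1 (e ▸ mem_sup_right hn))
    refine ⟨n', h1, ((𝒩 T1).mul_mem_cancel_right (le_normalizer h2)).1 (e' ▸ hm), fun k => hne ?_⟩
    rw [e, ← e', ← mul_assoc, conj_mul_cent h2.2 b.zX]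
    calc _ = c * (n' * z * n'⁻¹) * c⁻¹ := by group
      _ = z := by rw [k, conj_of_cent hc.2 b.zX]
  have hdN : ⁅t, n⁆ ∈ N := comm_mem_right (h.TN b.tT) hn
  obtain ⟨a, x, ha, hx, ⟨k, hk⟩, hodd, e⟩ := CfsgH1.exists_pPart (p := 2) ⁅t, n⁆
  have hxN := zpowers_le.2 hdN hx
  have haN := zpowers_le.2 hdN ha
  have haQ := (isSylowOf_iff_isSylowIn.1 h.sQ).mem_of_pow hk haN (h.NQ haN)
  have hxX : x ∉ 𝒞 X := fun k => h.d_ncent b hn hne (e ▸ (𝒞 X).mul_mem (hQ1 haQ).2 k)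
  refine ⟨X, t, z, x, b, hVB, hxN, fun K h1 h2 m hm => ?_, fun hN => ?_⟩
  · obtain ⟨f, hf, q, hq, e1, k1⟩ := h.exf b.tT b.tv hm
    obtain ⟨g, hg, r, hr, e2⟩ := h.prd x hxN
    have hQK : Q ≤ K := (le_inf h.sQ.1 h.QV).trans h2
    have k2 : g ∈ cMod V X := ((cMod V X).mul_mem_cancel_right (centralizer_inf_le_cMod V X
      ⟨h.QV hr, b.NX (h.sQ.1 hr)⟩)).1 (e2 ▸ zpowers_le.2 (mem_cMod_of b.XV fun v hv =>
        h.dW b.tT b.tv hn b.XV b.zX (conj_mem' (b.NX hn) b.zX) hv) hx)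
    obtain ⟨j, k3⟩ := h.pow_mul b hg (fun k => hxX (e2 ▸ (𝒞 X).mul_mem k (hQ1 hr).2)) hf
    have k4 := F.mul_mem (F.inv_mem (F.pow_mem hg j)) hf
    have k5 := h2 ⟨h.FN k4, h.cent_of k4 b.XV ((cMod V X).mul_mem ((cMod V X).inv_mem
      ((cMod V X).pow_mem k2 j)) (k1 X b.XV b.zX (conj_mem' (b.NX hm) b.zX))) k3⟩
    have k6 : g ∈ K := (K.mul_mem_cancel_right (hQK hr)).1 (e2 ▸ h1)
    exact e1 ▸ K.mul_mem ((K.mul_mem_cancel_left (K.inv_mem (K.pow_mem k6 j))).1 k5) (hQK hq)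
  have ht1 := hn1 t b.tT (h.t_norm b)
  have hx1 : x ∈ 𝒩 T1 := zpowers_le.2 (comm_mem_left (le_normalizer hn') ht1) hx
  have hA1 := hA.mono (hAQ.trans hQ1) inf_le_left
  have hE : EJ T ≤ EJ T1 := fun y hy => mem_EJ (hQ1 (hAQ (EJ_le_maxA hA hy)))
    (centralizer_anti' (hA.JJ_le (hAQ.trans hQ1) inf_le_left) (EJ_cent T hy)) (e2_Om _ y hy)
  have hxE : x ∈ cMod (EJ T1) X := zpowers_le.2 (comm_mem_left (le_normalizer_cMod
    (zpowers_le.2 (norm_EJ _ hn')) (zpowers_le.2 (b.NX hn)) (mem_zpowers n)) ⟨h.t_norm b,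
      fun y hy => meq (X.inv_mem (tv.mem b.zX (EJ_le_maxA hA1 hy))) (by simp)⟩) hx
  have hxD : x ∈ 𝒩 (Bm T ⊓ 𝒞 X) := mem_normalizer_of_conj_mem fun y hy => by
    have k1 := conj_mem' hx1 ⟨hy.1.1, hy.2⟩
    have k2 : x ∈ 𝒩 (EJ T ⊔ X) := mem_normalizer_of_cj_le (by
      rw [cj_sup, cj_eq_of_mem_normalizer hxE.1]
      exact sup_le (cj_le_iff.2 fun u hu => meq ((EJ T ⊔ X).mul_mem (mem_sup_right
        (hxE.2 u (hE hu))) (mem_sup_left hu)) (by simp only [commutatorElement_def]; group))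
        le_sup_right)
    exact ⟨⟨k1.1, centralizer_anti' le_sup_left (conj_mem' (normalizer_le_normalizer_centralizer'
      _ k2) (le_centralizer_iff.1 (sup_le (le_centralizer_iff.1 (zpowers_le.2 hy.1.2))
        (le_centralizer_iff.1 (zpowers_le.2 hy.2))) (mem_zpowers y)))⟩, k1.2⟩
  have hB2 : IsPGroup 2 (Bm T) := h.T2.to_le inf_le_left
  have htB := JJ_le_Bm T tJ
  have k1 := push_amb (E := EJ T1) hB2 inf_le_left htB (fun k => h.t_ncent b k.2) (fun s hs => by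
      by_cases k : s ∈ 𝒞 X
      · exact Or.inl ⟨hs, k⟩
      have hv := conj_mem' (b.NX hn) b.zX
      have v1 := conj_ne_one (g := n) (h.bz b)
      have hsn := h.Bm_norm b hs
      refine Or.inr ⟨(Bm T).mul_mem hs htB, h.cent_two b b.zX hv (h.bz b) v1 hne.symm
        (h.fixz b (T.mul_mem hs.1 b.tT) ((𝒩 X).mul_mem hsn (h.t_norm b))) ?_⟩
      have a1 := h.conj_eq b hs.1 hsn k hv v1 hne.symm
      have a2 := h.conj_eq b b.tT (h.t_norm b) (h.t_ncent b) hv v1 hne.symm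
      have a3 := h.fixz b hs.1 hsn
      generalize n * z * n⁻¹ = v at a1 a2
      symm
      calc s * t * v = s * (t * v * t⁻¹) * t := by group
        _ = s * z * s⁻¹ * (s * v * s⁻¹) * s * t := by rw [a2]; group
        _ = z * z * v * s * t := by rw [a1, ← a3]; group
        _ = _ := by rw [h.e2 z (b.XV b.zX)]; group)
    (CfsgH2.le_normalizer_inf le_normalizer (CfsgH2.le_normalizer_centralizer (h.Bm_norm b))) hxD
    hodd.symm (by
      obtain ⟨j, rfl⟩ := hx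
      have k2 : t⁻¹ = t := inv_eq_of_mul_eq_one_right b.t2
      have : t * ⁅t, n⁆ * t⁻¹ = ⁅t, n⁆⁻¹ := by
        calc _ = t * t * n * t⁻¹ * n⁻¹ * t⁻¹ := by simp only [commutatorElement_def]; group
          _ = _ := by rw [b.t2, commutatorElement_inv, commutatorElement_def, k2]; group
      dsimp only
      rw [← conj_zpow, this, inv_zpow])
    (fun k => hxX (centralizer_anti' (le_inf (b.XV.trans hVB) (h.e2.mono b.XV).le_cent) k))
    (fun W h1 h2 h3 => hN W (h1.trans inf_le_left) ((norm_Bm T).trans h2) h3)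
    (fun y hy => hE (mem_EJ (Om_le _ _ hy).1.1 (centralizer_anti' (JJ_le_Bm T) (Om_le _ _ hy).2)
      (e2_Om _ y hy))) (fun s hs => norm_EJ _ (hn1 s hs.1 (h.Bm_norm b hs))) (norm_EJ _ hx1)
  rw [← CfsgH2.commutator_commutator_eq (zpowers_le.2 hxD) (coprime_of_isPGroup_of_not_dvd
    (hB2.to_le inf_le_left) (by
      rw [Nat.card_zpowers]; exact (Nat.Prime.coprime_iff_not_dvd Nat.prime_two).1 hodd.symm))
    (Or.inl (CfsgH2.isSolvable_of_isMulCommutative inferInstance))]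
  exact (commutator_mono k1 (zpowers_le.2 hxE)).trans (commutator_cMod_le' _ _)

end Cfg

end CfsgSig
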