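import Cfsg.Agent.H2.Sig5
import Cfsg.Agent.FT.BG1_2

/-! Solvable signalizer functors: the `{2,3}` case. -/

set_option autoImplicit false
set_option linter.unusedSectionVars false
set_option linter.style.haveILetI false

namespace CfsgSig

open Subgroup CfsgL0 CfsgFT
open CfsgH3 (JJ MaxA AbE)
open scoped commutatorElement

variable {G : Type*} [Group G]

/-- `{2,3}`-groups -/
def P23 (U : Subgroup G) : Prop := ∀ s : ℕ, s.Prime → s ∣ #U → s = 2 ∨ s = 3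

/-- a minimal bad subgroup -/
structure Bad (p : ℕ) (A : Subgroup G) (θ : G → Subgroup G) (c : G) (T G1 X U : Subgroup G) :
    Prop where
  lc : LC p A θ
  p3 : 3 < p
  p23 : P23 U
  cA : c ∈ A
  c1 : c ≠ 1
  tsT : TS p A θ T
  T0 : T ≠ ⊥
  sylc : IsSylowOf 2 (T ⊓ 𝒞₁ c) (θ c)
  tsG : TS p A θ G1
  lt : T < G1
  nT : G1 ≤ 𝒩 T
  OX : pPrimeCoreOf 2 (θ c) ≤ X
  big : ∀ W, TS p A θ W → T ≤ W → ∀ g ∈ G1, g ∉ T → g ∈ W → W ⊓ 𝒞₁ c ≤ X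
  tsU : TS p A θ U
  syl : IsSylowOf 2 T U
  bad : ¬ U ⊓ 𝒞₁ c ≤ X
  min : ∀ Y < U, T ≤ Y → A ≤ 𝒩 Y → Y ⊓ 𝒞₁ c ≤ X

variable [Finite G] {p : ℕ} [hp : Fact p.Prime] {A : Subgroup G} {θ : G → Subgroup G}

theorem P23.mono {U V : Subgroup G} (h : P23 U) (hV : V ≤ U) : P23 V :=
  fun s hs hd => h s hs (hd.trans (card_dvd_of_le hV))

theorem P23.pg2 {U : Subgroup G} (h : P23 U) (h3 : ¬ 3 ∣ #U) : IsPGroup 2 U := by
  by_contra hc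
  obtain ⟨q, h1, h2, h4⟩ := exists_prime_ne_of_not_isPGroup hc
  exact h3 ((h q h1 h2).resolve_left h4 ▸ h2)

theorem P23.pg3 {U : Subgroup G} (h : P23 U) (h3 : ¬ 2 ∣ #U) : IsPGroup 3 U := by
  by_contra hc
  obtain ⟨q, h1, h2, h4⟩ := exists_prime_ne_of_not_isPGroup hc
  exact h3 ((h q h1 h2).resolve_right h4 ▸ h2)

theorem P23.prd {U S R : Subgroup G} (h : P23 U) (hS : IsSylowOf 2 S U) (hR : IsSylowOf 3 R U)
    {g : G} (hg : g ∈ U) : Prd S R g :=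
  CfsgH4.exists_mul_of_coprime_relIndex hS.1 (Nat.coprime_of_dvd fun s hs h1 h2 =>
    (h s hs (h1.trans (relIndex_dvd_card _ _))).elim (fun e => hS.2.2 (e ▸ h1))
      fun e => hR.2.2 (e ▸ h2)) hg

theorem SF.p23 (h : SF p A θ) (hπ : ∀ c ∈ A, c ≠ 1 → P23 (θ c)) {U : Subgroup G} (h1 : A ≤ 𝒩 U)
    (h2 : ¬ p ∣ #U) (h3 : ∀ a ∈ A, a ≠ 1 → U ⊓ 𝒞₁ a ≤ θ a) : P23 U := fun s hs hd => by
  haveI : Fact s.Prime := ⟨hs⟩
  by_contra hc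
  exact h.not_dvd h1 h2 (fun a ha a1 hd' => hc (hπ a ha a1 s hs
    (hd'.trans (card_dvd_of_le (h3 a ha a1))))) hd

namespace Bad

variable {c : G} {T G1 X U : Subgroup G} (h : Bad p A θ c T G1 X U)
include h

theorem T2 : IsPGroup 2 T := h.syl.2.1

theorem g0 {Y : Subgroup G} (hY : TS p A θ Y) (h2 : ¬ 2 ∣ #Y) (hn : T ≤ 𝒩 Y) : Y ⊓ 𝒞₁ c ≤ X :=
  (le_core_of_sylow (h.lc.solv c h.cA h.c1) h.sylc (hY.le c h.cA h.c1)
    (not_dvd_card_of_le h2 inf_le_left) (CfsgH2.le_normalizer_inf (inf_le_left.trans hn)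
      (inf_le_right.trans le_normalizer))).trans h.OX

theorem g1 {W Y : Subgroup G} (h0 : W ≠ ⊥) (hW : W ≤ T) (hA : A ≤ 𝒩 W) (hT : T ≤ 𝒩 W) {g : G}
    (hg : g ∈ G1) (gT : g ∉ T) (gW : g ∈ 𝒩 W) (hY : TS p A θ Y) (hn : Y ≤ 𝒩 W) :
    Y ⊓ 𝒞₁ c ≤ X := by
  obtain ⟨M, hM⟩ := h.lc.exists_N (h.tsT.of_le hW hA) h0
  exact (inf_le_inf_right _ (hM.max Y hY hn)).trans (h.big M hM.ts (hM.max T h.tsT hT) g hg gT
    (hM.max _ (h.tsG.inf (CfsgH2.le_normalizer_normalizer hA)) inf_le_right ⟨hg, gW⟩))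

theorem g1' {W Y : Subgroup G} (h0 : W ≠ ⊥) (hW : W ≤ T) (hc : 𝒩 T ≤ 𝒩 W) (hY : TS p A θ Y)
    (hn : Y ≤ 𝒩 W) : Y ⊓ 𝒞₁ c ≤ X := by
  obtain ⟨g, hg, gT⟩ := SetLike.exists_of_lt h.lt
  exact h.g1 h0 hW (h.tsT.inv.trans hc) (le_normalizer.trans hc) hg gT (hc (h.nT hg)) hY hn

theorem g2 {Y Z : Subgroup G} (hY : A ≤ 𝒩 Y) (hZ : A ≤ 𝒩 Z) (hYU : Y ≤ U) (h1 : Y ⊓ 𝒞₁ c ≤ X)
    (h2 : Z ⊓ 𝒞₁ c ≤ X) (hP : ∀ u ∈ U, Prd Y Z u) : False :=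
  h.bad fun u hu => (h.lc.fix h.cA hY hZ (not_dvd_card_of_le h.tsU.np hYU) (hP u hu.1) hu.2).mem
    h1 h2

theorem g2' {Y Z : Subgroup G} (hY : A ≤ 𝒩 Y) (hZ : A ≤ 𝒩 Z) (hYU : Y ≤ U) (h1 : Y ⊓ 𝒞₁ c ≤ X)
    (hT : T ≤ 𝒩 Z) (hP : ∀ u ∈ U, Prd Y (U ⊓ 𝒩 Z) u) : U ≤ 𝒩 Z := by
  have k := CfsgH2.le_normalizer_inf h.tsU.inv (CfsgH2.le_normalizer_normalizer hZ)
  by_contra hc
  exact h.g2 hY k hYU h1 (h.min _ (inf_lt_left.2 hc) (le_inf h.syl.1 hT) k) hP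

theorem le_Q {K : Subgroup G} (hK : K ≤ T) (hn : U ≤ 𝒩 K) : K ≤ pPrimeCoreOf 3 U :=
  le_pPrimeCoreOf' (hK.trans h.syl.1) hn
    (not_dvd_card_of_isPGroup_ne (by norm_num) (h.T2.to_le hK))

theorem g3 {K : Subgroup G} (hK : K ≤ U) (hn : U ≤ 𝒩 K) (hA : A ≤ 𝒩 K) (hne : ¬ U ≤ K ⊔ T) :
    T ⊓ K ≤ pPrimeCoreOf 3 U := by
  have k := CfsgH2.le_normalizer_sup hA h.tsT.inv
  have k1 := sup_le hK h.syl.1
  refine h.le_Q inf_le_left (h.g2' k (CfsgH2.le_normalizer_inf h.tsT.inv hA) k1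
    (h.min _ (lt_of_le_not_ge k1 hne) le_sup_right k)
    (CfsgH2.le_normalizer_inf le_normalizer (h.syl.1.trans hn)) fun u hu => ?_)
  exact (prd_of_sup (inf_le_left.trans hn)
    (((h.syl.inf_of_normal hK hn).frattini hK hn).ge hu)).mono le_sup_left le_rfl

theorem Q2 : IsPGroup 2 (pPrimeCoreOf 3 U) :=
  (h.p23.mono pPrimeCoreOf_le).pg2 (not_dvd_card_pPrimeCoreOf 3 U)

theorem QT : pPrimeCoreOf 3 U ≤ T := IsSylowOf.le_of_normalizes h.syl h.Q2 pPrimeCoreOf_le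
  (h.syl.1.trans le_normalizer_pPrimeCoreOf)

theorem cQ : T ⊓ 𝒞 (pPrimeCoreOf 3 U) ≤ pPrimeCoreOf 3 U := by
  have h1 := h.syl.inf_of_normal (ppCoreOf_le 2 U) (le_normalizer_ppCoreOf 2 U)
  have tO := h.tsU.char (pPrimeCoreOf_le (p := 2)) normalizer_le_normalizer_pPrimeCoreOf
  have h2 := h.le_Q inf_le_left (h.g2' tO.inv (CfsgH2.le_normalizer_inf h.tsT.inv
    (h.tsU.inv.trans (normalizer_le_normalizer_ppCoreOf 2 U))) pPrimeCoreOf_le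
    (h.g0 tO (not_dvd_card_pPrimeCoreOf 2 U) (h.syl.1.trans le_normalizer_pPrimeCoreOf))
    (CfsgH2.le_normalizer_inf le_normalizer (h.syl.1.trans (le_normalizer_ppCoreOf 2 U)))
    fun u hu => prd_of_sup (inf_le_left.trans le_normalizer_pPrimeCoreOf)
      ((sup_inf_normalizer_eq pPrimeCoreOf_le le_normalizer_pPrimeCoreOf
        (not_dvd_card_pPrimeCoreOf 2 U) (inf_le_left.trans h.syl.1) h1.2.1 (by
          rw [sup_eq_ppCoreOf h1]; exact le_normalizer_ppCoreOf 2 U)).ge hu))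
  exact (le_inf inf_le_left ((inf_le_inf h.syl.1 (centralizer_anti' h2)).trans
    (bg1_15a h.tsU.solv h1))).trans h2

theorem le_NT : U ≤ ppCoreOf 3 U ⊔ T := by
  by_contra hc
  obtain ⟨W, hW, k⟩ := exists_chief_bot (H := U ⊔ A) (lt_of_le_not_ge (ppCoreOf_le 3 U)
    fun e => hc (e.trans le_sup_left)) le_sup_left
    ((sup_le le_normalizer h.tsU.inv).trans (normalizer_le_normalizer_ppCoreOf 3 U))
    (sup_le le_normalizer h.tsU.inv)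
  obtain ⟨r, hr, -, h1⟩ := k.exists_prime (CfsgH2.isSolvable_of_le hW h.tsU.solv)
  obtain ⟨x, hx, hx'⟩ := SetLike.exists_of_lt k.lt
  have hn := le_sup_left.trans k.normU
  rcases h.p23 r hr ((by_contra fun e => hx' (mem_of_pow_cop
    ((Nat.Prime.coprime_iff_not_dvd hr).2 e) (h1 x hx)) : r ∣ orderOf x).trans
    (U.orderOf_dvd_natCard (hW hx))) with rfl | rfl
  · have h2 := (isSylowOf_iff_isSylowIn.1 (h.syl.inf_of_normal hW hn)).sup_eq_of_pow_mem k.lt.le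
      (hW.trans (le_normalizer_ppCoreOf 3 U)) fun y hy => ⟨1, by rw [pow_one]; exact h1 y hy⟩
    refine k.lt.2 (h2.ge.trans (sup_le ((h.g3 hW hn (le_sup_right.trans k.normU) fun e =>
      hc (e.trans (sup_le (h2.ge.trans (sup_le (inf_le_left.trans le_sup_right) le_sup_left))
        le_sup_right))).trans (pPrimeCoreOf_le_ppCoreOf 3 U)) le_rfl))
  · refine k.lt.2 (le_ppCoreOf hW hn ?_)
    rw [CfsgH1.PNil, ← CfsgH1.resIn_eq_of_le_of_pow_mem k.lt.le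
      fun y hy => ⟨1, by rw [pow_one]; exact h1 y hy⟩]
    exact pNil_ppCoreOf 3 U

theorem false : False := by
  set Q := pPrimeCoreOf 3 U
  set N := ppCoreOf 3 U
  set Z := Om 2 (ctr T)
  set V := ncl U Z
  set C := U ⊓ 𝒞 V
  have hNU : N ≤ U := ppCoreOf_le 3 U
  have hUQ : U ≤ 𝒩 Q := le_normalizer_pPrimeCoreOf
  have hUN : U ≤ 𝒩 N := le_normalizer_ppCoreOf 3 U
  have hUV : U ≤ 𝒩 V := le_normalizer_ncl _ _
  have hAT := h.tsT.inv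
  have hAU := h.tsU.inv
  have hAQ : A ≤ 𝒩 Q := hAU.trans normalizer_le_normalizer_pPrimeCoreOf
  have hAN : A ≤ 𝒩 N := hAU.trans (normalizer_le_normalizer_ppCoreOf 3 U)
  have hZn : 𝒩 T ≤ 𝒩 Z := (normalizer_le_normalizer_ctr T).trans (normalizer_le_normalizer_Om _ _)
  have hAV : A ≤ 𝒩 V := le_normalizer_ncl' hAU (hAT.trans hZn)
  have hAC : A ≤ 𝒩 C := CfsgH2.le_normalizer_inf hAU (CfsgH2.le_normalizer_centralizer hAV)
  have hUC : U ≤ 𝒩 C := CfsgH2.le_normalizer_inf le_normalizer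
    (CfsgH2.le_normalizer_centralizer hUV)
  have hZ : Z ≤ ctr T := Om_le _ _
  have hV : V ≤ Om 2 (ctr Q) := ncl_le_of_le (hUQ.trans ((normalizer_le_normalizer_ctr Q).trans
    (normalizer_le_normalizer_Om _ _))) (le_Om (le_inf (hZ.trans ((inf_le_inf_left _
      (centralizer_anti' h.QT)).trans h.cQ)) (hZ.trans (inf_le_right.trans
        (centralizer_anti' h.QT)))) fun x hx => by rw [sq, e2_Om _ x hx])
  have hV' := hV.trans (Om_le _ _)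
  have hQV := le_centralizer_iff.1 (hV'.trans inf_le_right)
  have tCT := h.tsU.of_le (sup_le inf_le_left h.syl.1 : C ⊔ T ≤ U)
    (CfsgH2.le_normalizer_sup hAC hAT)
  have gCT : (C ⊔ T) ⊓ 𝒞₁ c ≤ X := h.g1' (fun e => Om_eq_bot_iff.1 e (dvd_card_of_isPGroup
    (h.T2.to_le inf_le_left) (ctr_ne_bot h.T2.isNilpotent h.T0))) (hZ.trans inf_le_left) hZn tCT
    ((sup_le (inf_le_right.trans (centralizer_anti' (le_ncl U Z)))
      (le_centralizer_iff.1 (hZ.trans inf_le_right))).trans (centralizer_le_normalizer' Z))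
  have g3' : ∀ K ≤ C ⊔ T, U ≤ 𝒩 K → A ≤ 𝒩 K → T ⊓ K ≤ Q := fun K h1 h2 h3 =>
    h.g3 (h1.trans (sup_le inf_le_left h.syl.1)) h2 h3 fun e => h.bad
      ((inf_le_inf_right _ (e.trans (sup_le h1 le_sup_right))).trans gCT)
  obtain ⟨F, hF, tF⟩ := h.lc.exists_sylow' 3 (h.tsU.of_le hNU hAN)
  have eN : Q ⊔ F = N := sup_eq_ppCoreOf hF
  have hFQ := hF.1.trans (hNU.trans hUQ)
  have k : Cfg T Q N F V := ⟨h.T2, h.QT, eN ▸ sylow_sup' hFQ h.Q2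
      (not_dvd_card_of_isPGroup_ne (by norm_num) hF.2.1), hF.2.1, hF.1,
    prd_symm fun n hn => prd_of_sup hFQ (eN.ge hn), h.syl.1.trans hUN, hNU.trans hUQ,
    h.syl.1.trans hUQ, hV'.trans inf_le_left, hQV, (e2_Om Q).mono hV, hNU.trans hUV,
    h.syl.1.trans hUV, (le_inf inf_le_left (inf_le_inf_right _ h.syl.1)).trans
      (g3' C le_sup_left hUC hAC), fun t ht h1 => by
      have k1 : ∀ Y : Subgroup G, Y ≤ 𝒩 T → Y ≤ 𝒩 N → Y ≤ 𝒩 C → Y ≤ 𝒩 (C ⊔ T ⊓ cMod N C) :=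
        fun Y a1 a2 a3 => CfsgH2.le_normalizer_sup a3
          (CfsgH2.le_normalizer_inf a1 (le_normalizer_cMod a2 a3))
      refine g3' (C ⊔ T ⊓ cMod N C) (sup_le_sup_left inf_le_left _) (h.le_NT.trans (sup_le
        (fun n hn => mem_normalizer_of_cj_le ?_)
        (k1 T le_normalizer (h.syl.1.trans hUN) (h.syl.1.trans hUC)))) (k1 A hAT hAN hAC)
        ⟨ht, mem_sup_right ⟨ht, hUC (h.syl.1 ht), fun n hn =>
          ⟨comm_mem_left (le_normalizer (hNU hn)) (h.syl.1 ht), h1 n hn⟩⟩⟩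
      rw [cj_sup, cj_eq_of_mem_normalizer (hUC (hNU hn))]
      exact sup_le le_sup_left (cj_le_iff.2 fun s hs => meq ((C ⊔ T ⊓ cMod N C).mul_mem
        (mem_sup_left (C.inv_mem (hs.2.2 n hn))) (mem_sup_right hs))
        (by simp only [commutatorElement_def]; group))⟩
  obtain ⟨X1, t, z, x, b, hVB, hx, h1, h2⟩ := k.main fun e => h.bad
    (h.g1' (CfsgH3.JJ_ne_bot (p := 2) (Or.inr rfl) h.T2 h.T0) (CfsgH3.JJ_le T)
      (CfsgH3.normalizer_le_normalizer_JJ T) h.tsU (by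
        rw [← CfsgH3.JJ_eq_of_le e h.QT]; exact hUQ.trans (CfsgH3.normalizer_le_normalizer_JJ Q)))
  have key : ∀ W ≤ T, A ≤ 𝒩 W → T ≤ 𝒩 W → (∃ g ∈ G1, g ∉ T ∧ g ∈ 𝒩 W) → x ∈ 𝒩 W → W = ⊥ := by
    rintro W a1 a2 a3 ⟨g, hg, gT, gW⟩ a4
    by_contra h0
    have tU := h.tsU.inf (CfsgH2.le_normalizer_normalizer a2)
    have hTU : T ≤ U ⊓ 𝒩 W := le_inf h.syl.1 a3
    have hTA : T ⊔ A ≤ 𝒩 (C ⊔ U ⊓ 𝒩 W) := CfsgH2.le_normalizer_sup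
      (sup_le (h.syl.1.trans hUC) hAC) (sup_le (hTU.trans le_normalizer) tU.inv)
    have k1 : ncl (T ⊔ A) (ncl N (zpowers t)) ≤ C ⊔ U ⊓ 𝒩 W :=
      ncl_le_of_le hTA (ncl_le fun n hn => by
        rw [CfsgH1.cj, MonoidHom.map_zpowers]
        exact zpowers_le.2 (meq ((C ⊔ U ⊓ 𝒩 W).mul_mem ((C ⊔ U ⊓ 𝒩 W).inv_mem
          (h1 _ (mem_sup_right (mem_inf.2 ⟨hNU hx, a4⟩)) ((inf_le_inf_right _ hNU).trans le_sup_left) n hn))
          (mem_sup_right (hTU b.tT))) (by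
            change n * t * n⁻¹ = _; simp only [commutatorElement_def]; group)))
    have k2 : U ≤ C ⊔ U ⊓ 𝒩 W := by_contra fun e => b.tQ (h.g3
      (k1.trans (sup_le inf_le_left inf_le_left)) (h.le_NT.trans (sup_le
        (le_normalizer_iSup fun g => by
          have := cj_mono (g : G) (le_normalizer_ncl N (zpowers t))
          rwa [cj_eq_of_mem_normalizer (sup_le k.TN hAN g.2), cj_normalizer] at this)
        (le_sup_left.trans (le_normalizer_ncl _ _)))) (le_sup_right.trans (le_normalizer_ncl _ _))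
      (fun e' => e (e'.trans (sup_le k1 (hTU.trans le_sup_right))))
      ⟨b.tT, le_ncl _ _ (le_ncl _ _ (mem_zpowers t))⟩)
    exact h.g2 tCT.inv tU.inv (sup_le inf_le_left h.syl.1) gCT
      (h.g1 h0 a1 a2 a3 hg gT gW tU inf_le_right) fun u hu =>
        (prd_of_sup (inf_le_left.trans hUC) (k2 hu)).mono le_sup_left le_rfl
  obtain ⟨g0, hg0, g0T⟩ := SetLike.exists_of_lt h.lt
  have h3 := h2 fun W a1 a2 a3 => key W a1 (hAT.trans a2) (le_normalizer.trans a2)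
    ⟨g0, hg0, g0T, a2 (h.nT hg0)⟩ a3
  obtain ⟨a, ha, a1, h4⟩ : ∃ a ∈ A, a ≠ 1 ∧ ¬ G1 ⊓ 𝒞₁ a ≤ T := by
    by_contra hc
    push Not at hc
    exact h.lt.2 (h.lc.gen h.tsG.inv h.tsG.np hc)
  obtain ⟨g, hg, gT⟩ := SetLike.not_le_iff_exists.1 h4
  set W0 := ⨆ Y : {Y // ∃ t z, Blk T Q N V Y t z}, Y.1
  have hW0 : ∀ s, s ∈ 𝒩 T → s ∈ 𝒩 Q → s ∈ 𝒩 N → s ∈ 𝒩 V → s ∈ 𝒩 W0 := fun s a1 a2 a3 a4 =>
    mem_normalizer_of_cj_le (cj_iSup_le fun ⟨_, _, _, b'⟩ => le_iSup_of_le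
      (f := fun Y : {Y // ∃ t z, Blk T Q N V Y t z} => Y.1) ⟨_, _, _, b'.conj a1 a2 a3 a4⟩ le_rfl)
  have hG : T ⊔ G1 ⊓ 𝒞₁ a ≤ 𝒩 (Bm T) :=
    (sup_le le_normalizer (inf_le_left.trans h.nT)).trans (norm_Bm T)
  have hXW : X1 ≤ ncl (T ⊔ G1 ⊓ 𝒞₁ a) W0 := (le_iSup_of_le
    (f := fun Y : {Y // ∃ t z, Blk T Q N V Y t z} => Y.1) ⟨_, _, _, b⟩ le_rfl).trans (le_ncl _ _)
  have hWB : ncl (T ⊔ G1 ⊓ 𝒞₁ a) W0 ≤ Bm T :=
    ncl_le_of_le hG (iSup_le fun ⟨_, _, _, b'⟩ => b'.XV.trans hVB)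
  have tr : ∀ {Y t z}, Blk T Q N V Y t z → ∃ X' Y', Tr a (θ a) (Bm T) Y X' Y' := fun b' =>
    k.tr b' h.p3 (h.lc.ea.1.2 a ha) (hAT ha) (hAQ ha) (hAN ha) (tF.inv ha) (hAV ha)
      ((inf_le_inf_right _ (k.VQ.trans k.QT)).trans (h.tsT.le a ha a1)) (tF.le a ha a1) hVB
  have hWX : ncl (T ⊔ G1 ⊓ 𝒞₁ a) W0 ≤ 𝒞 X1 := ncl_le fun u hu => by
    obtain ⟨y, hy, s, hs, rfl⟩ := (CfsgH1.mem_sup_of_le_normalizer
      (inf_le_left.trans h.nT)).1 (sup_comm T _ ▸ hu)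
    rw [← cj_cj, cj_eq_of_mem_normalizer (hW0 s (le_normalizer hs) (k.TQ hs) (k.TN hs) (k.TV hs))]
    refine cj_iSup_le fun ⟨_, _, _, b'⟩ => ?_
    obtain ⟨_, _, t1⟩ := tr b
    obtain ⟨_, _, t2⟩ := tr b'
    exact t1.cent (h.lc.solv a ha a1)
      (t2.cj (h.tsG.le a ha a1 hy) hy.2 (norm_Bm T (h.nT hy.1)))
  refine k.bz b (mem_bot.1 (key _ (hWB.trans inf_le_left) (le_normalizer_ncl'
    (CfsgH2.le_normalizer_sup hAT (CfsgH2.le_normalizer_inf h.tsG.inv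
      (le_normalizer_cent_one h.lc.comm ha))) fun s hs => hW0 s (hAT hs) (hAQ hs) (hAN hs) (hAV hs))
    (le_sup_left.trans (le_normalizer_ncl _ _)) ⟨g, hg.1, gT, le_normalizer_ncl _ _
      (mem_sup_right hg)⟩ (mem_cMod_of le_rfl fun v hv => hXW (h3
        (commutator_mem_commutator ⟨hWB hv, hWX hv⟩ (mem_zpowers x)))).1 ▸ hXW b.zX))

end Bad

end CfsgSig
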